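import Cfsg.Agent.Fi.Q24br

set_option autoImplicit false
set_option maxRecDepth 100000
set_option Elab.async false

namespace Cfsg.Agent.Fi.Q24b

open Cfsg.Agent.FM Cfsg.Agent.Fi
open Cfsg.Agent.M24 (nall lall)

noncomputable def js9 : List Job := [([nat_lit 6, nat_lit 1, nat_lit 1, nat_lit 0], nat_lit 7, .cj (nat_lit 0x25) (nat_lit 2) (nat_lit 0x2e6b16b) (.s3 (.s3 (.s3 (.cj (nat_lit 0x24) (nat_lit 2) (nat_lit 0xb58c) (.cj (nat_lit 0x29) (nat_lit 1) (nat_lit 0x2f) (.s3 (.pw (nat_lit 1) (nat_lit 0x5ef))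
 (.pw (nat_lit 1) (nat_lit 0x5ef))
 (.pw (nat_lit 1) (nat_lit 0x5ef)))))
 (.cj (nat_lit 0x28) (nat_lit 1) (nat_lit 0x2d) (.cj (nat_lit 0x29) (nat_lit 1) (nat_lit 0x17b9ad) (.s3 (.pw (nat_lit 2) (nat_lit 0x1))
 (.pw (nat_lit 2) (nat_lit 0x1))
 (.pw (nat_lit 2) (nat_lit 0x1)))))
 (.cj (nat_lit 0x28) (nat_lit 1) (nat_lit 0x5ee) (.cj (nat_lit 0x4c5) (nat_lit 2) (nat_lit 0x5ee) (.cj (nat_lit 0x541) (nat_lit 1) (nat_lit 0x5ef) (.cj (nat_lit 0x2b) (nat_lit 2) (nat_lit 0x1) (.cj (nat_lit 0x5ac) (nat_lit 1) (nat_lit 0x1) (.lf (nat_lit 0x107bb700db90006b000420001a000a80000b010d807a2600034020c7453ed00004))))))))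
 (.s3 (.cj (nat_lit 0x2a) (nat_lit 2) (nat_lit 0xb5ac) (.cj (nat_lit 0x29) (nat_lit 1) (nat_lit 0x2f) (.cj (nat_lit 0x548) (nat_lit 2) (nat_lit 0x1) (.pw (nat_lit 2) (nat_lit 0x1)))))
 (.cj (nat_lit 0x2a) (nat_lit 2) (nat_lit 0xb5ac) (.cj (nat_lit 0x29) (nat_lit 1) (nat_lit 0x17b9ad) (.cj (nat_lit 0x24) (nat_lit 2) (nat_lit 0x1) (.pw (nat_lit 1) (nat_lit 0x5ef)))))
 (.cj (nat_lit 0x2a) (nat_lit 2) (nat_lit 0xb5ac) (.cj (nat_lit 0x24) (nat_lit 2) (nat_lit 0xb9ad) (.s3 (.cj (nat_lit 0x27) (nat_lit 1) (nat_lit 0x2f) (.cj (nat_lit 0x16b4c0) (nat_lit 1) (nat_lit 0x1) (.lf (nat_lit 0x107bb70002e0117a0006d0006f000ef0236e00032069752b97e00003))))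
 (.cj (nat_lit 0x27) (nat_lit 1) (nat_lit 0x2f) (.cj (nat_lit 0x16b4c0) (nat_lit 2) (nat_lit 0x1) (.lf (nat_lit 0x100db70004d00db800dbd0000a0006f00017013ed032a3000000163e2b17c00003))))
 (.cj (nat_lit 0x27) (nat_lit 1) (nat_lit 0x2f) (.s3 (.lf (nat_lit 0x107bb700db90006900dbd000a70007d020ae0355f0002404fd53c97e00002))
 (.lf (nat_lit 0x107bb700069000420109d0109f000020145f026690000304ce80d57600003))
 (.lf (nat_lit 0x100db600db70004d0006c0000d010d900074011800358a0000106d4034cb100001))))))))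
 (.s3 (.cj (nat_lit 0x24) (nat_lit 1) (nat_lit 0xbdce) (.cj (nat_lit 0x29) (nat_lit 1) (nat_lit 0x2f) (.cj (nat_lit 0xa4c0) (nat_lit 1) (nat_lit 0x2f) (.cj (nat_lit 0x2c) (nat_lit 1) (nat_lit 0x1) (.cj (nat_lit 0x27) (nat_lit 2) (nat_lit 0x1) (.lf (nat_lit 0x100db70006b0004100ff20002f000440000c020ad0237e032b92c57900004)))))))
 (.cj (nat_lit 0x28) (nat_lit 1) (nat_lit 0x2c) (.cj (nat_lit 0x548) (nat_lit 2) (nat_lit 0x1) (.cj (nat_lit 0xa941) (nat_lit 1) (nat_lit 0x2f) (.cj (nat_lit 0x2c) (nat_lit 1) (nat_lit 0x1) (.cj (nat_lit 0x27) (nat_lit 1) (nat_lit 0x1) (.lf (nat_lit 0x107bb700db600db9000690117a000430013a0118201f6100000056070990400004)))))))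
 (.cj (nat_lit 0x24) (nat_lit 1) (nat_lit 0x5cc) (.cj (nat_lit 0x29) (nat_lit 1) (nat_lit 0x17b9cd) (.cj (nat_lit 0x4c0) (nat_lit 2) (nat_lit 0x2f) (.cj (nat_lit 0x2b) (nat_lit 1) (nat_lit 0x1) (.pw (nat_lit 2) (nat_lit 0x1))))))))
 (.s3 (.s3 (.cj (nat_lit 0x24) (nat_lit 2) (nat_lit 0xbd8c) (.cj (nat_lit 0x21) (nat_lit 1) (nat_lit 0x2d) (.s3 (.cj (nat_lit 0x27) (nat_lit 1) (nat_lit 0x2f) (.pw (nat_lit 1) (nat_lit 0x1)))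
 (.cj (nat_lit 0x27) (nat_lit 1) (nat_lit 0x2f) (.pw (nat_lit 1) (nat_lit 0x1)))
 (.cj (nat_lit 0x27) (nat_lit 1) (nat_lit 0x2f) (.pw (nat_lit 1) (nat_lit 0x1))))))
 (.cj (nat_lit 0x28) (nat_lit 1) (nat_lit 0x2d) (.cj (nat_lit 0x29) (nat_lit 2) (nat_lit 0xbdcd) (.cj (nat_lit 0xa941) (nat_lit 2) (nat_lit 0x2f) (.pw (nat_lit 2) (nat_lit 0x2f)))))
 (.cj (nat_lit 0x28) (nat_lit 1) (nat_lit 0x5ee) (.cj (nat_lit 0x29) (nat_lit 2) (nat_lit 0xbdce) (.cj (nat_lit 0xa8c5) (nat_lit 2) (nat_lit 0x17bdce) (.pw (nat_lit 1) (nat_lit 0x1))))))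
 (.s3 (.cj (nat_lit 0x28) (nat_lit 1) (nat_lit 0x17398c) (.cj (nat_lit 0x21) (nat_lit 2) (nat_lit 0x1) (.cj (nat_lit 0x4c5) (nat_lit 2) (nat_lit 0x2e) (.cj (nat_lit 0x2b) (nat_lit 1) (nat_lit 0x2f) (.s3 (.lf (nat_lit 0x100db6000410007c011220001b0013e0248c00004008333845800001))
 (.lf (nat_lit 0x100db600069000420117a000ea0000200ff9016bb00001015c90c4e000003))
 (.lf (nat_lit 0x100db700069000250006a0109d0000d011220001b0117f03d7d0001c06ecf176ce00003)))))))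
 (.cj (nat_lit 0x4c0) (nat_lit 2) (nat_lit 0x2f) (.cj (nat_lit 0x29) (nat_lit 2) (nat_lit 0xbdcd) (.cj (nat_lit 0x24) (nat_lit 1) (nat_lit 0x5ee) (.cj (nat_lit 0x2c) (nat_lit 1) (nat_lit 0x2f) (.pw (nat_lit 1) (nat_lit 0x1))))))
 (.cj (nat_lit 0x21) (nat_lit 1) (nat_lit 0x17b98c) (.cj (nat_lit 0x29) (nat_lit 2) (nat_lit 0xbdce) (.cj (nat_lit 0x548) (nat_lit 1) (nat_lit 0x5ee) (.cj (nat_lit 0x2b) (nat_lit 1) (nat_lit 0x1) (.pw (nat_lit 1) (nat_lit 0x1)))))))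
 (.s3 (.cj (nat_lit 0x24) (nat_lit 1) (nat_lit 0x2f7b9ad) (.cj (nat_lit 0x544) (nat_lit 1) (nat_lit 0x2e) (.cj (nat_lit 0x21) (nat_lit 2) (nat_lit 0x5ef) (.cj (nat_lit 0x2c) (nat_lit 1) (nat_lit 0x1) (.cj (nat_lit 0x5ac) (nat_lit 2) (nat_lit 0x1) (.lf (nat_lit 0x10002e00db600db90004d00dbb00042000430013a000ad00f01041fe0242d3780b00004)))))))
 (.cj (nat_lit 0x28) (nat_lit 1) (nat_lit 0x2c) (.cj (nat_lit 0x29) (nat_lit 2) (nat_lit 0xbdcd) (.s3 (.pw (nat_lit 1) (nat_lit 0x5ef))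
 (.pw (nat_lit 1) (nat_lit 0x5ef))
 (.pw (nat_lit 1) (nat_lit 0x5ef)))))
 (.cj (nat_lit 0x21) (nat_lit 1) (nat_lit 0x1739ad) (.cj (nat_lit 0x548) (nat_lit 2) (nat_lit 0x1) (.s3 (.pw (nat_lit 2) (nat_lit 0x1))
 (.pw (nat_lit 2) (nat_lit 0x1))
 (.pw (nat_lit 2) (nat_lit 0x1)))))))
 (.s3 (.s3 (.cj (nat_lit 0x2a) (nat_lit 2) (nat_lit 0x17b9cc) (.cj (nat_lit 0x548) (nat_lit 1) (nat_lit 0x1739ad) (.cj (nat_lit 0x29) (nat_lit 1) (nat_lit 0x2f) (.cj (nat_lit 0x2b) (nat_lit 1) (nat_lit 0x2f) (.cj (nat_lit 0x27) (nat_lit 1) (nat_lit 0x1) (.lf (nat_lit 0x100db700dbb0004100ff20001a000eb000760117d01a36000110152227be300004)))))))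
 (.cj (nat_lit 0x28) (nat_lit 1) (nat_lit 0x2d) (.cj (nat_lit 0x548) (nat_lit 1) (nat_lit 0x5ed) (.cj (nat_lit 0xa944) (nat_lit 2) (nat_lit 0x5ef) (.cj (nat_lit 0x29) (nat_lit 1) (nat_lit 0x2f) (.pw (nat_lit 2) (nat_lit 0x1))))))
 (.cj (nat_lit 0x28) (nat_lit 1) (nat_lit 0x5ee) (.cj (nat_lit 0x548) (nat_lit 1) (nat_lit 0xbdee) (.cj (nat_lit 0x29) (nat_lit 2) (nat_lit 0xbdce) (.cj (nat_lit 0x2b) (nat_lit 1) (nat_lit 0x1) (.cj (nat_lit 0x27) (nat_lit 2) (nat_lit 0x1) (.lf (nat_lit 0x10004d000410117a0006d0007c00002013590158b0000001cea1f20700004))))))))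
 (.s3 (.cj (nat_lit 0x4c0) (nat_lit 1) (nat_lit 0x5ef) (.cj (nat_lit 0x21) (nat_lit 1) (nat_lit 0xbdcd) (.cj (nat_lit 0x29) (nat_lit 1) (nat_lit 0x2f) (.pw (nat_lit 2) (nat_lit 0x1)))))
 (.cj (nat_lit 0x2a) (nat_lit 2) (nat_lit 0x17b9ac) (.s3 (.s3 (.cj (nat_lit 0x29) (nat_lit 1) (nat_lit 0x2f) (.s3 (.lf (nat_lit 0x100db8000250006a0109d0000a0006f0004c01d3801793044b91dedb00000))
 (.lf (nat_lit 0x100db90004d0006a0002f010dd000170117c07b180001405c36434b800003))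
 (.lf (nat_lit 0x100db70004d00db800041000f20004800ff901e030000405823133b800003))))
 (.cj (nat_lit 0x29) (nat_lit 1) (nat_lit 0x2f) (.cj (nat_lit 0xa8c0) (nat_lit 1) (nat_lit 0x1) (.lf (nat_lit 0x100db600db90004d00ff200dbc000060013f01be80001200eaf35b0b00003))))
 (.cj (nat_lit 0x29) (nat_lit 1) (nat_lit 0x2f) (.cj (nat_lit 0xa8c0) (nat_lit 2) (nat_lit 0x1) (.lf (nat_lit 0x107bb70002e00db600db900ff20000d000ea00006013e602c0b0702d0b46300003)))))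
 (.s3 (.cj (nat_lit 0x2c) (nat_lit 1) (nat_lit 0x2f) (.cj (nat_lit 0x24) (nat_lit 2) (nat_lit 0x1) (.lf (nat_lit 0x107bb7000690006b00dba0013a0117900071010a500fb80706f42c2500003))))
 (.cj (nat_lit 0x2c) (nat_lit 1) (nat_lit 0x2f) (.cj (nat_lit 0x24) (nat_lit 2) (nat_lit 0x1) (.lf (nat_lit 0x10004d00db800ff20001a00fbe0001901d3103cf0055e51f4a300001))))
 (.cj (nat_lit 0x2c) (nat_lit 1) (nat_lit 0x2f) (.cj (nat_lit 0x24) (nat_lit 2) (nat_lit 0x1) (.lf (nat_lit 0x10002e00db70004d00069000a60002f00dbc000170118201f3c000070245c323ab00003)))))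
 (.s3 (.cj (nat_lit 0x29) (nat_lit 1) (nat_lit 0x1) (.cj (nat_lit 0x5a4) (nat_lit 1) (nat_lit 0x1) (.lf (nat_lit 0x100db7000690004100ff20000d0002a011750267f00007046cd2b3f100003))))
 (.cj (nat_lit 0x29) (nat_lit 1) (nat_lit 0x1) (.cj (nat_lit 0x5a4) (nat_lit 1) (nat_lit 0x1) (.lf (nat_lit 0x100db900db800dba0000a0001a0000b013ef0161504a48323ab00003))))
 (.cj (nat_lit 0x29) (nat_lit 1) (nat_lit 0x1) (.cj (nat_lit 0x5a4) (nat_lit 1) (nat_lit 0x1) (.lf (nat_lit 0x10002e00db9000690006b00dba0117a01122000ac0237300009021e94310400001)))))))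
 (.cj (nat_lit 0x21) (nat_lit 1) (nat_lit 0x17bdac) (.cj (nat_lit 0x24) (nat_lit 2) (nat_lit 0x5ef) (.cj (nat_lit 0x548) (nat_lit 2) (nat_lit 0x1) (.pw (nat_lit 1) (nat_lit 0x5ef))))))
 (.s3 (.cj (nat_lit 0x24) (nat_lit 1) (nat_lit 0x2d) (.cj (nat_lit 0x21) (nat_lit 2) (nat_lit 0x2e) (.cj (nat_lit 0x29) (nat_lit 1) (nat_lit 0x2f) (.pw (nat_lit 1) (nat_lit 0x1)))))
 (.cj (nat_lit 0x28) (nat_lit 1) (nat_lit 0x2c) (.cj (nat_lit 0x548) (nat_lit 2) (nat_lit 0x17b9ad) (.s3 (.cj (nat_lit 0x2c) (nat_lit 1) (nat_lit 0x1) (.pw (nat_lit 1) (nat_lit 0x1)))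
 (.cj (nat_lit 0x2c) (nat_lit 1) (nat_lit 0x1) (.pw (nat_lit 1) (nat_lit 0x1)))
 (.cj (nat_lit 0x2c) (nat_lit 1) (nat_lit 0x1) (.pw (nat_lit 1) (nat_lit 0x1))))))
 (.cj (nat_lit 0x21) (nat_lit 1) (nat_lit 0x17b98c) (.cj (nat_lit 0x544) (nat_lit 2) (nat_lit 0xbdee) (.cj (nat_lit 0x4c5) (nat_lit 1) (nat_lit 0x1) (.pw (nat_lit 2) (nat_lit 0x2f)))))))))]
theorem hj9 : jobsChk 3 16 T pb (lf3 F24.cd om T gb 16 reps) js9 = true := by decide +kernel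

noncomputable def js10 : List Job := [([nat_lit 6, nat_lit 6, nat_lit 1, nat_lit 1, nat_lit 0], nat_lit 7, .cj (nat_lit 0x20) (nat_lit 1) (nat_lit 0x2f7318b) (.s3 (.s3 (.s3 (.cj (nat_lit 0x29) (nat_lit 1) (nat_lit 0x5ef739ad) (.cj (nat_lit 0x28) (nat_lit 1) (nat_lit 0x2e) (.cj (nat_lit 0xbdaa52521) (nat_lit 1) (nat_lit 0x5ce) (.pw (nat_lit 2) (nat_lit 0x1)))))
 (.cj (nat_lit 0x29) (nat_lit 1) (nat_lit 0x5ed) (.cj (nat_lit 0x24) (nat_lit 2) (nat_lit 0x1) (.cj (nat_lit 0xa928) (nat_lit 1) (nat_lit 0x17bdce) (.pw (nat_lit 1) (nat_lit 0x2f)))))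
 (.cj (nat_lit 0x29) (nat_lit 1) (nat_lit 0x2e) (.cj (nat_lit 0x28) (nat_lit 1) (nat_lit 0x2d) (.cj (nat_lit 0xa928) (nat_lit 2) (nat_lit 0x5ee) (.cj (nat_lit 0x2d) (nat_lit 2) (nat_lit 0x1) (.pw (nat_lit 1) (nat_lit 0x1)))))))
 (.s3 (.cj (nat_lit 0x24) (nat_lit 1) (nat_lit 0x2e7358c) (.cj (nat_lit 0x544) (nat_lit 1) (nat_lit 0x5ef) (.cj (nat_lit 0x28) (nat_lit 1) (nat_lit 0x5ce) (.pw (nat_lit 2) (nat_lit 0x1)))))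
 (.cj (nat_lit 0x21) (nat_lit 2) (nat_lit 0x1) (.cj (nat_lit 0x549) (nat_lit 2) (nat_lit 0x5ce) (.cj (nat_lit 0x5ef6b521) (nat_lit 1) (nat_lit 0x2f) (.pw (nat_lit 2) (nat_lit 0x5ef)))))
 (.cj (nat_lit 0x29) (nat_lit 1) (nat_lit 0x2e) (.cj (nat_lit 0x544) (nat_lit 2) (nat_lit 0x5ee) (.cj (nat_lit 0x28) (nat_lit 2) (nat_lit 0x2e) (.pw (nat_lit 2) (nat_lit 0x1))))))
 (.s3 (.cj (nat_lit 0x2a) (nat_lit 2) (nat_lit 0xbd8c) (.cj (nat_lit 0x21) (nat_lit 1) (nat_lit 0x5ad) (.cj (nat_lit 0xa921) (nat_lit 1) (nat_lit 0x5ce) (.cj (nat_lit 0x2d) (nat_lit 2) (nat_lit 0x1) (.cj (nat_lit 0x2c) (nat_lit 2) (nat_lit 0x1) (.lf (nat_lit 0x107bb700db90004d000a80000e017ba035660002405e9819e2900004)))))))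
 (.cj (nat_lit 0x24) (nat_lit 2) (nat_lit 0x5ad) (.cj (nat_lit 0x28) (nat_lit 2) (nat_lit 0xbdcd) (.cj (nat_lit 0x17b54a498c0) (nat_lit 1) (nat_lit 0xbdce) (.pw (nat_lit 1) (nat_lit 0x1)))))
 (.cj (nat_lit 0x29) (nat_lit 1) (nat_lit 0x2e) (.cj (nat_lit 0x28) (nat_lit 2) (nat_lit 0xbdce) (.cj (nat_lit 0x541) (nat_lit 2) (nat_lit 0x2f) (.pw (nat_lit 2) (nat_lit 0x5ef)))))))
 (.s3 (.s3 (.cj (nat_lit 0x29) (nat_lit 1) (nat_lit 0xb9ac) (.cj (nat_lit 0x28) (nat_lit 1) (nat_lit 0x2e) (.cj (nat_lit 0x24) (nat_lit 2) (nat_lit 0x2e) (.pw (nat_lit 2) (nat_lit 0x2f)))))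
 (.cj (nat_lit 0x21) (nat_lit 2) (nat_lit 0x2f7b5ac) (.cj (nat_lit 0x24) (nat_lit 2) (nat_lit 0x5ad) (.cj (nat_lit 0x504) (nat_lit 1) (nat_lit 0x1) (.pw (nat_lit 2) (nat_lit 0x5ef)))))
 (.cj (nat_lit 0x29) (nat_lit 1) (nat_lit 0x17b5ac) (.cj (nat_lit 0x28) (nat_lit 1) (nat_lit 0x2d) (.cj (nat_lit 0xa0c5) (nat_lit 2) (nat_lit 0x1) (.pw (nat_lit 2) (nat_lit 0x5ef))))))
 (.s3 (.cj (nat_lit 0x24) (nat_lit 1) (nat_lit 0x58c) (.cj (nat_lit 0x21) (nat_lit 2) (nat_lit 0x2d) (.cj (nat_lit 0x28) (nat_lit 1) (nat_lit 0x5ce) (.pw (nat_lit 1) (nat_lit 0x1)))))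
 (.cj (nat_lit 0x2a) (nat_lit 2) (nat_lit 0x58c) (.s3 (.cj (nat_lit 0xa941) (nat_lit 1) (nat_lit 0x1) (.pw (nat_lit 2) (nat_lit 0x5ef)))
 (.cj (nat_lit 0xa941) (nat_lit 1) (nat_lit 0x17bdce) (.pw (nat_lit 2) (nat_lit 0x5ef)))
 (.cj (nat_lit 0xa941) (nat_lit 1) (nat_lit 0x5ee) (.pw (nat_lit 2) (nat_lit 0x5ef)))))
 (.cj (nat_lit 0x2a) (nat_lit 2) (nat_lit 0x58c) (.cj (nat_lit 0x541) (nat_lit 1) (nat_lit 0x2d) (.cj (nat_lit 0x28) (nat_lit 2) (nat_lit 0x2e) (.cj (nat_lit 0x2d) (nat_lit 2) (nat_lit 0x1) (.cj (nat_lit 0x5a7) (nat_lit 1) (nat_lit 0x1) (.lf (nat_lit 0x10002e00db90006c0000d011cb0000e01292036160198e1c22b07bb800003))))))))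
 (.s3 (.cj (nat_lit 0x24) (nat_lit 2) (nat_lit 0xbdac) (.cj (nat_lit 0x28) (nat_lit 2) (nat_lit 0xbdad) (.cj (nat_lit 0x549) (nat_lit 2) (nat_lit 0x2e) (.pw (nat_lit 1) (nat_lit 0x2f)))))
 (.cj (nat_lit 0x21) (nat_lit 2) (nat_lit 0x5ce) (.cj (nat_lit 0x28) (nat_lit 2) (nat_lit 0xbdcd) (.cj (nat_lit 0x549) (nat_lit 1) (nat_lit 0x17bdce) (.cj (nat_lit 0x2d) (nat_lit 2) (nat_lit 0x1) (.pw (nat_lit 1) (nat_lit 0x1))))))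
 (.cj (nat_lit 0x21) (nat_lit 1) (nat_lit 0x17bdce) (.cj (nat_lit 0x28) (nat_lit 2) (nat_lit 0xbdce) (.cj (nat_lit 0x1518c0) (nat_lit 1) (nat_lit 0x2f) (.pw (nat_lit 2) (nat_lit 0x1)))))))
 (.s3 (.s3 (.cj (nat_lit 0x29) (nat_lit 1) (nat_lit 0xbd8c) (.cj (nat_lit 0x28) (nat_lit 1) (nat_lit 0x2e) (.cj (nat_lit 0x24) (nat_lit 1) (nat_lit 0x2e) (.pw (nat_lit 2) (nat_lit 0x5ef)))))
 (.cj (nat_lit 0x21) (nat_lit 2) (nat_lit 0xbdee) (.cj (nat_lit 0x24) (nat_lit 2) (nat_lit 0x2d) (.cj (nat_lit 0x2a498c0) (nat_lit 1) (nat_lit 0x2f) (.cj (nat_lit 0x27) (nat_lit 1) (nat_lit 0x1) (.cj (nat_lit 0x2c) (nat_lit 1) (nat_lit 0x1) (.lf (nat_lit 0x107bb70002e00db900db80006a0006f0000b011c607aed000070260b1153200004)))))))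
 (.cj (nat_lit 0x21) (nat_lit 1) (nat_lit 0xbdce) (.cj (nat_lit 0x28) (nat_lit 1) (nat_lit 0x2d) (.cj (nat_lit 0x98c0) (nat_lit 1) (nat_lit 0x1) (.pw (nat_lit 1) (nat_lit 0x1))))))
 (.s3 (.cj (nat_lit 0x29) (nat_lit 1) (nat_lit 0xbd8c) (.cj (nat_lit 0x549) (nat_lit 1) (nat_lit 0x2d) (.cj (nat_lit 0x28) (nat_lit 1) (nat_lit 0x5ce) (.cj (nat_lit 0x2d) (nat_lit 2) (nat_lit 0x1) (.cj (nat_lit 0x2b) (nat_lit 2) (nat_lit 0x1) (.lf (nat_lit 0x107bb70002e0004d00dbb0117a0000d00015000190163103350000080067a1867100003)))))))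
 (.cj (nat_lit 0x24) (nat_lit 1) (nat_lit 0x17b5ac) (.cj (nat_lit 0x4c5) (nat_lit 2) (nat_lit 0x1) (.cj (nat_lit 0x5ef6b521) (nat_lit 1) (nat_lit 0x2f) (.pw (nat_lit 2) (nat_lit 0x5ef)))))
 (.cj (nat_lit 0x2a) (nat_lit 2) (nat_lit 0x2e7358c) (.cj (nat_lit 0x544) (nat_lit 2) (nat_lit 0x5ee) (.cj (nat_lit 0x28) (nat_lit 2) (nat_lit 0x2e) (.pw (nat_lit 1) (nat_lit 0x1))))))
 (.s3 (.cj (nat_lit 0x29) (nat_lit 1) (nat_lit 0xbd8c) (.cj (nat_lit 0x21) (nat_lit 2) (nat_lit 0x5cd) (.cj (nat_lit 0xa928) (nat_lit 1) (nat_lit 0x17bdce) (.pw (nat_lit 2) (nat_lit 0x5ef)))))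
 (.cj (nat_lit 0x24) (nat_lit 2) (nat_lit 0x2e) (.cj (nat_lit 0x28) (nat_lit 2) (nat_lit 0xbdcd) (.cj (nat_lit 0xa941) (nat_lit 2) (nat_lit 0x5ef) (.pw (nat_lit 2) (nat_lit 0x5ef)))))
 (.cj (nat_lit 0x24) (nat_lit 2) (nat_lit 0x17bd8c) (.cj (nat_lit 0x28) (nat_lit 2) (nat_lit 0xbdce) (.cj (nat_lit 0xa944) (nat_lit 1) (nat_lit 0x5ce) (.pw (nat_lit 2) (nat_lit 0x2f))))))))),
 ([nat_lit 3, nat_lit 1, nat_lit 1, nat_lit 0], nat_lit 4, .cj (nat_lit 0x21) (nat_lit 1) (nat_lit 0x16b188) (.cj (nat_lit 0x8c62) (nat_lit 2) (nat_lit 0x17b9ad6314a4a0e6) (.s3 (.cj (nat_lit 0x25) (nat_lit 2) (nat_lit 0x2e735ac62d6a) (.pw (nat_lit 2) (nat_lit 0x17b9cd62d6a)))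
 (.cj (nat_lit 0x25) (nat_lit 2) (nat_lit 0x5cd6b16a) (.pw (nat_lit 2) (nat_lit 0x2f7394a)))
 (.cj (nat_lit 0x25) (nat_lit 2) (nat_lit 0x2e735aa) (.pw (nat_lit 2) (nat_lit 0x17bdad6316b)))))),
 ([nat_lit 3, nat_lit 3, nat_lit 1, nat_lit 1, nat_lit 0], nat_lit 4, .cj (nat_lit 0x21) (nat_lit 2) (nat_lit 0x2f7316b) (.cj (nat_lit 0x462) (nat_lit 2) (nat_lit 0x16316b52929420e6) (.s3 (.cj (nat_lit 0x25) (nat_lit 2) (nat_lit 0x5ef72d4a) (.pw (nat_lit 2) (nat_lit 0xbdee6b56a)))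
 (.cj (nat_lit 0x25) (nat_lit 2) (nat_lit 0x5ef6b14a) (.pw (nat_lit 2) (nat_lit 0x2f7b9cd62d4a)))
 (.cj (nat_lit 0x26) (nat_lit 1) (nat_lit 0x5ac5ad29) (.pw (nat_lit 2) (nat_lit 0x5ee))))))]
theorem hj10 : jobsChk 3 16 T pb (lf3 F24.cd om T gb 16 reps) js10 = true := by decide +kernel

noncomputable def js11 : List Job := [([nat_lit 2, nat_lit 1, nat_lit 1, nat_lit 0], nat_lit 3, .s3 (.s3 (.cj (nat_lit 0x20) (nat_lit 1) (nat_lit 0x56a) (.cj (nat_lit 0x440) (nat_lit 1) (nat_lit 0xb58a) (.cj (nat_lit 0x26) (nat_lit 1) (nat_lit 0xbdee6b18b4a508) (.cj (nat_lit 0x23) (nat_lit 2) (nat_lit 0x5cd52929) (.cj (nat_lit 0x24) (nat_lit 1) (nat_lit 0x2e6314a) (.pw (nat_lit 2) (nat_lit 0x2e6b56b)))))))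
 (.cj (nat_lit 0x22) (nat_lit 2) (nat_lit 0x2d6316a4a4e6) (.cj (nat_lit 0x21) (nat_lit 1) (nat_lit 0x5ee731894a107) (.cj (nat_lit 0x26) (nat_lit 1) (nat_lit 0x5ee4a508) (.cj (nat_lit 0x23) (nat_lit 1) (nat_lit 0x2e7358c5a929) (.cj (nat_lit 0x24) (nat_lit 1) (nat_lit 0x2e6314a) (.pw (nat_lit 1) (nat_lit 0xbdee)))))))
 (.cj (nat_lit 0x20) (nat_lit 1) (nat_lit 0x2e7358a) (.cj (nat_lit 0x440) (nat_lit 1) (nat_lit 0x589) (.cj (nat_lit 0x26) (nat_lit 1) (nat_lit 0xbdcd6b16b4a508) (.s3 (.cj (nat_lit 0x23) (nat_lit 2) (nat_lit 0x2e6b16b) (.cj (nat_lit 0x28) (nat_lit 1) (nat_lit 0x17316b) (.s3 (.cj (nat_lit 0x27) (nat_lit 2) (nat_lit 0x2e) (.pw (nat_lit 2) (nat_lit 0x5ee)))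
 (.cj (nat_lit 0x27) (nat_lit 2) (nat_lit 0x2e) (.cj (nat_lit 0x2c) (nat_lit 1) (nat_lit 0x5ce) (.cj (nat_lit 0xad25) (nat_lit 2) (nat_lit 0x5ef) (.pw (nat_lit 2) (nat_lit 0x1)))))
 (.cj (nat_lit 0x27) (nat_lit 2) (nat_lit 0x2e) (.pw (nat_lit 1) (nat_lit 0x5ce))))))
 (.cj (nat_lit 0x23) (nat_lit 2) (nat_lit 0x2e7316b) (.cj (nat_lit 0x25) (nat_lit 1) (nat_lit 0x56b) (.s3 (.cj (nat_lit 0x27) (nat_lit 2) (nat_lit 0x5ef) (.pw (nat_lit 2) (nat_lit 0xbdee)))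
 (.cj (nat_lit 0x27) (nat_lit 2) (nat_lit 0x5ef) (.cj (nat_lit 0x2c) (nat_lit 1) (nat_lit 0x5ce) (.cj (nat_lit 0x15ad25) (nat_lit 2) (nat_lit 0x1) (.pw (nat_lit 1) (nat_lit 0x1)))))
 (.cj (nat_lit 0x27) (nat_lit 2) (nat_lit 0x5ef) (.pw (nat_lit 1) (nat_lit 0x5ce))))))
 (.cj (nat_lit 0x23) (nat_lit 2) (nat_lit 0x2d6b16b) (.cj (nat_lit 0x28) (nat_lit 1) (nat_lit 0x17316b) (.s3 (.cj (nat_lit 0x2a) (nat_lit 1) (nat_lit 0x2f) (.cj (nat_lit 0x2c) (nat_lit 1) (nat_lit 0x5ce) (.cj (nat_lit 0x525) (nat_lit 2) (nat_lit 0x1) (.cj (nat_lit 0x2d) (nat_lit 1) (nat_lit 0x1) (.lf (nat_lit 0x107bb700db60006b0109d0001a00fbe0004a017c50234a003fd002b63a8e700004))))))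
 (.cj (nat_lit 0x2a) (nat_lit 1) (nat_lit 0x1) (.pw (nat_lit 1) (nat_lit 0x5ce)))
 (.cj (nat_lit 0x2a) (nat_lit 1) (nat_lit 0x5ef) (.pw (nat_lit 2) (nat_lit 0x2e)))))))))))
 (.cj (nat_lit 0x21) (nat_lit 1) (nat_lit 0xbdee735ac5ace6) (.cj (nat_lit 0x20) (nat_lit 1) (nat_lit 0xbdee7358b52508) (.s3 (.cj (nat_lit 0x26) (nat_lit 1) (nat_lit 0xbded6ad08) (.cj (nat_lit 0x24) (nat_lit 1) (nat_lit 0x16ad69) (.s3 (.cj (nat_lit 0x483) (nat_lit 1) (nat_lit 0x2e6b56b) (.s3 (.cj (nat_lit 0x27) (nat_lit 1) (nat_lit 0xb9ad) (.cj (nat_lit 0x2c) (nat_lit 2) (nat_lit 0x2e) (.cj (nat_lit 0x2c5ad05) (nat_lit 2) (nat_lit 0x1) (.pw (nat_lit 2) (nat_lit 0x1)))))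
 (.cj (nat_lit 0x29) (nat_lit 2) (nat_lit 0x2e) (.pw (nat_lit 1) (nat_lit 0xbdce)))
 (.cj (nat_lit 0x29) (nat_lit 2) (nat_lit 0x5ef) (.pw (nat_lit 2) (nat_lit 0x2e)))))
 (.cj (nat_lit 0x28) (nat_lit 1) (nat_lit 0x2e7356b) (.s3 (.cj (nat_lit 0x2b) (nat_lit 2) (nat_lit 0x1) (.pw (nat_lit 1) (nat_lit 0xbdce)))
 (.cj (nat_lit 0x2b) (nat_lit 2) (nat_lit 0x1) (.pw (nat_lit 2) (nat_lit 0xbdee)))
 (.cj (nat_lit 0x2b) (nat_lit 2) (nat_lit 0x1) (.cj (nat_lit 0x567) (nat_lit 2) (nat_lit 0x2f) (.cj (nat_lit 0x15ad05) (nat_lit 2) (nat_lit 0x1) (.cj (nat_lit 0x2d) (nat_lit 1) (nat_lit 0x1) (.lf (nat_lit 0x100db60006b00dbb000410117a00015010dd0004f015a6001070000301a7a002b63e46800004))))))))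
 (.cj (nat_lit 0x28) (nat_lit 1) (nat_lit 0x5ef6316b) (.s3 (.cj (nat_lit 0x2b) (nat_lit 2) (nat_lit 0x5ee) (.pw (nat_lit 2) (nat_lit 0x5ee)))
 (.cj (nat_lit 0x29) (nat_lit 2) (nat_lit 0x2e) (.cj (nat_lit 0x567) (nat_lit 2) (nat_lit 0x1) (.cj (nat_lit 0xa083) (nat_lit 1) (nat_lit 0x5ef) (.pw (nat_lit 1) (nat_lit 0x1)))))
 (.cj (nat_lit 0x29) (nat_lit 2) (nat_lit 0x5ef) (.pw (nat_lit 1) (nat_lit 0xbdce))))))))
 (.cj (nat_lit 0x26) (nat_lit 1) (nat_lit 0xbded6ad08) (.cj (nat_lit 0x24) (nat_lit 1) (nat_lit 0x2e735a9) (.cj (nat_lit 0x483) (nat_lit 2) (nat_lit 0x5ec62d6a) (.pw (nat_lit 2) (nat_lit 0xbdec)))))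
 (.cj (nat_lit 0x26) (nat_lit 1) (nat_lit 0xbded6ad08) (.cj (nat_lit 0x24) (nat_lit 1) (nat_lit 0x2f7b969) (.cj (nat_lit 0x483) (nat_lit 1) (nat_lit 0x2f7356a) (.pw (nat_lit 1) (nat_lit 0x5ef7398b))))))))
 (.cj (nat_lit 0x22) (nat_lit 2) (nat_lit 0x2d62d68398a5) (.cj (nat_lit 0x20) (nat_lit 1) (nat_lit 0x2f739ad6316a52528) (.s3 (.cj (nat_lit 0x26) (nat_lit 1) (nat_lit 0x17b9ab52508) (.cj (nat_lit 0x23) (nat_lit 2) (nat_lit 0x5cd52929) (.cj (nat_lit 0x9083) (nat_lit 1) (nat_lit 0xb9cd6b14a) (.cj (nat_lit 0x28) (nat_lit 1) (nat_lit 0x2f7b16b) (.pw (nat_lit 1) (nat_lit 0x17b9ad))))))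
 (.cj (nat_lit 0x26) (nat_lit 1) (nat_lit 0x17b9ab52508) (.cj (nat_lit 0x24) (nat_lit 2) (nat_lit 0x17b98c5ad49) (.s3 (.cj (nat_lit 0x29) (nat_lit 1) (nat_lit 0xbdeb) (.s3 (.cj (nat_lit 0x25) (nat_lit 1) (nat_lit 0x17bdce) (.cj (nat_lit 0x2a) (nat_lit 1) (nat_lit 0x5ef) (.cj (nat_lit 0x27) (nat_lit 1) (nat_lit 0x2f) (.pw (nat_lit 2) (nat_lit 0x1)))))
 (.cj (nat_lit 0x25) (nat_lit 1) (nat_lit 0x5ce) (.cj (nat_lit 0x2a) (nat_lit 1) (nat_lit 0x2f) (.cj (nat_lit 0x27) (nat_lit 1) (nat_lit 0x2f) (.cj (nat_lit 0x2c) (nat_lit 2) (nat_lit 0x1) (.lf (nat_lit 0x107bb70002e0006b00dbb0109d000a800002010a400080000010044a09d1500003))))))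
 (.cj (nat_lit 0x25) (nat_lit 1) (nat_lit 0xbdce) (.cj (nat_lit 0x2a) (nat_lit 1) (nat_lit 0x1) (.cj (nat_lit 0x27) (nat_lit 1) (nat_lit 0x2f) (.pw (nat_lit 1) (nat_lit 0x1)))))))
 (.cj (nat_lit 0x29) (nat_lit 1) (nat_lit 0xbdeb) (.s3 (.cj (nat_lit 0x25) (nat_lit 2) (nat_lit 0x5cd) (.cj (nat_lit 0x2a) (nat_lit 2) (nat_lit 0x5ef) (.cj (nat_lit 0x2b) (nat_lit 2) (nat_lit 0x1) (.cj (nat_lit 0x27) (nat_lit 2) (nat_lit 0x1) (.lf (nat_lit 0x107bb700069010a0000a8011790004501a41035b80000405543345c600003))))))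
 (.cj (nat_lit 0x25) (nat_lit 2) (nat_lit 0xbdcd) (.cj (nat_lit 0x2a) (nat_lit 2) (nat_lit 0x2f) (.cj (nat_lit 0x2b) (nat_lit 2) (nat_lit 0x1) (.pw (nat_lit 2) (nat_lit 0x1)))))
 (.cj (nat_lit 0x25) (nat_lit 2) (nat_lit 0x17bdcd) (.cj (nat_lit 0x2a) (nat_lit 2) (nat_lit 0x1) (.cj (nat_lit 0x2b) (nat_lit 2) (nat_lit 0x1) (.pw (nat_lit 1) (nat_lit 0x1)))))))
 (.cj (nat_lit 0x28) (nat_lit 1) (nat_lit 0x2b) (.s3 (.cj (nat_lit 0x149083) (nat_lit 2) (nat_lit 0xb9cd) (.pw (nat_lit 1) (nat_lit 0xbdee)))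
 (.cj (nat_lit 0x149083) (nat_lit 1) (nat_lit 0x2f7b9cd) (.pw (nat_lit 1) (nat_lit 0xbdee)))
 (.s3 (.pw (nat_lit 1) (nat_lit 0xbdee))
 (.pw (nat_lit 1) (nat_lit 0xbdee))
 (.pw (nat_lit 1) (nat_lit 0xbdee))))))))
 (.cj (nat_lit 0x26) (nat_lit 1) (nat_lit 0x17b9ab52508) (.cj (nat_lit 0x23) (nat_lit 2) (nat_lit 0xb9ad) (.cj (nat_lit 0x9083) (nat_lit 2) (nat_lit 0x2f7318b) (.cj (nat_lit 0x28) (nat_lit 1) (nat_lit 0x5ef739ad) (.pw (nat_lit 1) (nat_lit 0x17bdce6b58c)))))))))),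
 ([nat_lit 2, nat_lit 2, nat_lit 1, nat_lit 1, nat_lit 0], nat_lit 3, .s3 (.cj (nat_lit 0x23) (nat_lit 2) (nat_lit 0x2e6ad49) (.cj (nat_lit 0x20) (nat_lit 2) (nat_lit 0x17b9cd6b167) (.cj (nat_lit 0x21) (nat_lit 2) (nat_lit 0x2e72ce7) (.pw (nat_lit 2) (nat_lit 0x17358c4a508)))))
 (.cj (nat_lit 0x23) (nat_lit 2) (nat_lit 0x2e6ad49) (.cj (nat_lit 0x462) (nat_lit 2) (nat_lit 0x5ac628e6) (.cj (nat_lit 0x461) (nat_lit 2) (nat_lit 0x2f6b58b5a0e7) (.pw (nat_lit 2) (nat_lit 0x5ed6b18b)))))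
 (.cj (nat_lit 0x23) (nat_lit 2) (nat_lit 0x2e6ad49) (.cj (nat_lit 0x20) (nat_lit 2) (nat_lit 0xb98b4a507) (.cj (nat_lit 0x8c61) (nat_lit 2) (nat_lit 0x2f6b16b520e7) (.pw (nat_lit 2) (nat_lit 0x5ed63149))))))]
theorem hj11 : jobsChk 3 16 T pb (lf3 F24.cd om T gb 16 reps) js11 = true := by decide +kernel

noncomputable def js12 : List Job := [([nat_lit 1], nat_lit 6, .cj (nat_lit 0x22) (nat_lit 2) (nat_lit 0x17bdcd) (.cj (nat_lit 0x25) (nat_lit 1) (nat_lit 0x5ef) (.s3 (.s3 (.s3 (.cj (nat_lit 0x2a) (nat_lit 1) (nat_lit 0x1) (.cj (nat_lit 0x28) (nat_lit 1) (nat_lit 0x5ad) (.cj (nat_lit 0x26) (nat_lit 2) (nat_lit 0x2e) (.cj (nat_lit 0x2d) (nat_lit 1) (nat_lit 0x1) (.pw (nat_lit 2) (nat_lit 0x1))))))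
 (.cj (nat_lit 0x2a) (nat_lit 1) (nat_lit 0x1) (.cj (nat_lit 0x29) (nat_lit 2) (nat_lit 0x2e) (.cj (nat_lit 0x528) (nat_lit 1) (nat_lit 0x1) (.cj (nat_lit 0x2d) (nat_lit 1) (nat_lit 0x1) (.pw (nat_lit 1) (nat_lit 0x1))))))
 (.cj (nat_lit 0x21) (nat_lit 1) (nat_lit 0x1) (.cj (nat_lit 0x28) (nat_lit 1) (nat_lit 0x2e) (.cj (nat_lit 0x520) (nat_lit 1) (nat_lit 0xbdee) (.cj (nat_lit 0x2d) (nat_lit 1) (nat_lit 0x1) (.pw (nat_lit 1) (nat_lit 0x1)))))))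
 (.s3 (.cj (nat_lit 0x26) (nat_lit 2) (nat_lit 0x5cc) (.cj (nat_lit 0x21) (nat_lit 1) (nat_lit 0x17b9ad) (.cj (nat_lit 0xa940) (nat_lit 1) (nat_lit 0x5ee) (.cj (nat_lit 0x28) (nat_lit 2) (nat_lit 0x1) (.pw (nat_lit 1) (nat_lit 0x1))))))
 (.cj (nat_lit 0x20) (nat_lit 1) (nat_lit 0x2d) (.cj (nat_lit 0x29) (nat_lit 2) (nat_lit 0x2e) (.cj (nat_lit 0x28) (nat_lit 2) (nat_lit 0x2e) (.pw (nat_lit 2) (nat_lit 0x1)))))
 (.cj (nat_lit 0x20) (nat_lit 1) (nat_lit 0xbdce) (.cj (nat_lit 0x546) (nat_lit 2) (nat_lit 0x2d) (.cj (nat_lit 0x28) (nat_lit 1) (nat_lit 0x1) (.pw (nat_lit 1) (nat_lit 0x1))))))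
 (.s3 (.cj (nat_lit 0x20) (nat_lit 2) (nat_lit 0x58c) (.cj (nat_lit 0x24) (nat_lit 2) (nat_lit 0x2e) (.cj (nat_lit 0xa524) (nat_lit 2) (nat_lit 0x2f) (.cj (nat_lit 0x27) (nat_lit 1) (nat_lit 0x1) (.pw (nat_lit 1) (nat_lit 0x1))))))
 (.cj (nat_lit 0x21) (nat_lit 2) (nat_lit 0xb58c) (.cj (nat_lit 0x28) (nat_lit 2) (nat_lit 0x2f) (.cj (nat_lit 0x17bdad52926) (nat_lit 2) (nat_lit 0x2f) (.pw (nat_lit 1) (nat_lit 0x1)))))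
 (.cj (nat_lit 0x21) (nat_lit 1) (nat_lit 0x2f7358c) (.cj (nat_lit 0x29) (nat_lit 2) (nat_lit 0x17bdad) (.cj (nat_lit 0xa946) (nat_lit 2) (nat_lit 0xbdee) (.pw (nat_lit 2) (nat_lit 0x1)))))))
 (.s3 (.s3 (.cj (nat_lit 0x24) (nat_lit 1) (nat_lit 0x2c) (.cj (nat_lit 0x21) (nat_lit 2) (nat_lit 0x2d) (.cj (nat_lit 0x5ad52906) (nat_lit 2) (nat_lit 0x2e) (.cj (nat_lit 0x2b) (nat_lit 1) (nat_lit 0x1) (.cj (nat_lit 0x29) (nat_lit 2) (nat_lit 0x1) (.lf (nat_lit 0x10002e00db80004100ff200dbf0007001a470024804a7723ae600004)))))))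
 (.cj (nat_lit 0x24) (nat_lit 1) (nat_lit 0x2e) (.cj (nat_lit 0x28) (nat_lit 1) (nat_lit 0xb9cd) (.cj (nat_lit 0x29) (nat_lit 2) (nat_lit 0xbdce) (.pw (nat_lit 2) (nat_lit 0x5ef)))))
 (.cj (nat_lit 0x2a) (nat_lit 1) (nat_lit 0x5cd) (.cj (nat_lit 0x28) (nat_lit 1) (nat_lit 0x2e) (.cj (nat_lit 0x29) (nat_lit 1) (nat_lit 0x2e) (.pw (nat_lit 1) (nat_lit 0x5ef))))))
 (.s3 (.cj (nat_lit 0x24) (nat_lit 2) (nat_lit 0x5ed) (.s3 (.cj (nat_lit 0x26) (nat_lit 2) (nat_lit 0x5ce) (.cj (nat_lit 0x28) (nat_lit 2) (nat_lit 0x1) (.pw (nat_lit 1) (nat_lit 0x1))))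
 (.cj (nat_lit 0x26) (nat_lit 2) (nat_lit 0x2f) (.cj (nat_lit 0x28) (nat_lit 2) (nat_lit 0x1) (.pw (nat_lit 1) (nat_lit 0x1))))
 (.cj (nat_lit 0x26) (nat_lit 2) (nat_lit 0xbdee) (.cj (nat_lit 0x28) (nat_lit 2) (nat_lit 0x1) (.pw (nat_lit 1) (nat_lit 0x1))))))
 (.cj (nat_lit 0x20) (nat_lit 2) (nat_lit 0x5ed) (.cj (nat_lit 0x26) (nat_lit 2) (nat_lit 0x17bdad) (.cj (nat_lit 0x28) (nat_lit 2) (nat_lit 0x2e) (.pw (nat_lit 1) (nat_lit 0x1)))))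
 (.cj (nat_lit 0x21) (nat_lit 1) (nat_lit 0x2f) (.cj (nat_lit 0x544) (nat_lit 1) (nat_lit 0x5ef) (.cj (nat_lit 0x28) (nat_lit 1) (nat_lit 0x1) (.pw (nat_lit 2) (nat_lit 0x1))))))
 (.s3 (.cj (nat_lit 0x2a) (nat_lit 1) (nat_lit 0x5ef) (.cj (nat_lit 0x20) (nat_lit 2) (nat_lit 0x5ee) (.cj (nat_lit 0xa100) (nat_lit 2) (nat_lit 0x1) (.cj (nat_lit 0x2d) (nat_lit 1) (nat_lit 0x1) (.pw (nat_lit 2) (nat_lit 0x1))))))
 (.cj (nat_lit 0x2a) (nat_lit 1) (nat_lit 0x5ef) (.cj (nat_lit 0x28) (nat_lit 2) (nat_lit 0x2f) (.cj (nat_lit 0x504) (nat_lit 2) (nat_lit 0x2e) (.cj (nat_lit 0x2d) (nat_lit 1) (nat_lit 0x1) (.pw (nat_lit 1) (nat_lit 0x1))))))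
 (.cj (nat_lit 0x2a) (nat_lit 1) (nat_lit 0x5ef) (.cj (nat_lit 0x20) (nat_lit 2) (nat_lit 0xb9cd) (.cj (nat_lit 0x24) (nat_lit 2) (nat_lit 0x2f) (.cj (nat_lit 0x2d) (nat_lit 1) (nat_lit 0x1) (.pw (nat_lit 1) (nat_lit 0x1))))))))
 (.s3 (.s3 (.cj (nat_lit 0x26) (nat_lit 2) (nat_lit 0x2c) (.cj (nat_lit 0x21) (nat_lit 1) (nat_lit 0x5ad) (.cj (nat_lit 0xbdaa52524) (nat_lit 1) (nat_lit 0xbdee) (.cj (nat_lit 0x2b) (nat_lit 2) (nat_lit 0x1) (.pw (nat_lit 1) (nat_lit 0x1))))))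
 (.cj (nat_lit 0x26) (nat_lit 2) (nat_lit 0x5ee) (.cj (nat_lit 0x28) (nat_lit 1) (nat_lit 0xb9cd) (.cj (nat_lit 0x546) (nat_lit 2) (nat_lit 0xbdce) (.pw (nat_lit 1) (nat_lit 0x1)))))
 (.cj (nat_lit 0x20) (nat_lit 2) (nat_lit 0xb5ac) (.cj (nat_lit 0x28) (nat_lit 1) (nat_lit 0x2e) (.cj (nat_lit 0x2f6a926) (nat_lit 2) (nat_lit 0x2f) (.pw (nat_lit 2) (nat_lit 0x1))))))
 (.s3 (.cj (nat_lit 0x2a) (nat_lit 1) (nat_lit 0x2f) (.cj (nat_lit 0x21) (nat_lit 2) (nat_lit 0xbdcd) (.cj (nat_lit 0x20) (nat_lit 2) (nat_lit 0xbdce) (.cj (nat_lit 0x28) (nat_lit 2) (nat_lit 0x1) (.pw (nat_lit 1) (nat_lit 0x1))))))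
 (.cj (nat_lit 0x2a) (nat_lit 1) (nat_lit 0x2f) (.cj (nat_lit 0x29) (nat_lit 1) (nat_lit 0xbded) (.cj (nat_lit 0x28) (nat_lit 2) (nat_lit 0x2e) (.cj (nat_lit 0x2c) (nat_lit 1) (nat_lit 0x1) (.cj (nat_lit 0x2b) (nat_lit 1) (nat_lit 0x1) (.lf (nat_lit 0x100db6000690004101023000ab00fee002ad00013053d02191200003)))))))
 (.cj (nat_lit 0x2a) (nat_lit 1) (nat_lit 0x2f) (.cj (nat_lit 0x29) (nat_lit 1) (nat_lit 0xbdce) (.cj (nat_lit 0x28) (nat_lit 1) (nat_lit 0x1) (.cj (nat_lit 0x2c) (nat_lit 1) (nat_lit 0x1) (.cj (nat_lit 0x27) (nat_lit 2) (nat_lit 0x1) (.lf (nat_lit 0x100db70006b00dba010a000043000450117601344042ce365b800003))))))))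
 (.s3 (.cj (nat_lit 0x20) (nat_lit 1) (nat_lit 0x17bd8c) (.cj (nat_lit 0x24) (nat_lit 2) (nat_lit 0x5cd) (.cj (nat_lit 0x26) (nat_lit 2) (nat_lit 0xbdee) (.cj (nat_lit 0x27) (nat_lit 2) (nat_lit 0x1) (.cj (nat_lit 0x5a1) (nat_lit 1) (nat_lit 0x1) (.lf (nat_lit 0x10002e0006900025010a00002f00ff30000b0135b0234d0000702be91f55900004)))))))
 (.cj (nat_lit 0x21) (nat_lit 2) (nat_lit 0x2e) (.cj (nat_lit 0x28) (nat_lit 2) (nat_lit 0x2f) (.cj (nat_lit 0x528) (nat_lit 1) (nat_lit 0x1) (.pw (nat_lit 2) (nat_lit 0x5ef)))))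
 (.cj (nat_lit 0x21) (nat_lit 1) (nat_lit 0x2f) (.cj (nat_lit 0x29) (nat_lit 1) (nat_lit 0xbdce) (.cj (nat_lit 0x24) (nat_lit 1) (nat_lit 0x2f) (.pw (nat_lit 1) (nat_lit 0x5ef))))))))))]
theorem hj12 : jobsChk 3 16 T pb (lf3 F24.cd om T gb 16 reps) js12 = true := by decide +kernel

noncomputable def js13 : List Job := [([nat_lit 5, nat_lit 1], nat_lit 6, .cj (nat_lit 0x22) (nat_lit 2) (nat_lit 0x17bdab528e7) (.cj (nat_lit 0x21) (nat_lit 2) (nat_lit 0x5ef) (.s3 (.s3 (.s3 (.cj (nat_lit 0x2a) (nat_lit 1) (nat_lit 0x1) (.cj (nat_lit 0x29) (nat_lit 1) (nat_lit 0xbdee) (.cj (nat_lit 0x20) (nat_lit 1) (nat_lit 0x5ef) (.cj (nat_lit 0x2c) (nat_lit 1) (nat_lit 0x1) (.pw (nat_lit 2) (nat_lit 0x1))))))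
 (.cj (nat_lit 0x2a) (nat_lit 1) (nat_lit 0x1) (.cj (nat_lit 0x29) (nat_lit 1) (nat_lit 0xbdad) (.s3 (.cj (nat_lit 0x20) (nat_lit 2) (nat_lit 0x1) (.s3 (.lf (nat_lit 0x100db600db700069000410109d0001a000270002a0129201167017d40dfce00001))
 (.lf (nat_lit 0x107bb700db70004d00ff20117a0001a000ea000160117f0264700008027442a93b00002))
 (.lf (nat_lit 0x100db600db90004d00db8000410013a000a901633036be000090049d07bc307bb900000))))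
 (.cj (nat_lit 0x28) (nat_lit 1) (nat_lit 0x1) (.cj (nat_lit 0x5a0) (nat_lit 2) (nat_lit 0x1) (.lf (nat_lit 0x1000690002500ff20117a00015011260000500188024ce0000106751360b500003))))
 (.cj (nat_lit 0x28) (nat_lit 1) (nat_lit 0x1) (.cj (nat_lit 0x5a0) (nat_lit 1) (nat_lit 0x1) (.lf (nat_lit 0x107bb70002e0006b000420117a0000a0109e0135e0266b00010067e91533c00003)))))))
 (.cj (nat_lit 0x2a) (nat_lit 1) (nat_lit 0x1) (.cj (nat_lit 0x29) (nat_lit 1) (nat_lit 0xb9cd) (.cj (nat_lit 0x28) (nat_lit 2) (nat_lit 0x1) (.cj (nat_lit 0x2c) (nat_lit 1) (nat_lit 0x1) (.pw (nat_lit 2) (nat_lit 0x1)))))))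
 (.s3 (.cj (nat_lit 0x2a) (nat_lit 1) (nat_lit 0xbdcd) (.cj (nat_lit 0x26) (nat_lit 1) (nat_lit 0xbdad) (.cj (nat_lit 0x24) (nat_lit 1) (nat_lit 0x5ef) (.pw (nat_lit 1) (nat_lit 0x2f)))))
 (.cj (nat_lit 0x20) (nat_lit 1) (nat_lit 0xb58c) (.cj (nat_lit 0x28) (nat_lit 2) (nat_lit 0x5ed) (.cj (nat_lit 0x26) (nat_lit 2) (nat_lit 0x5ee) (.cj (nat_lit 0x2b) (nat_lit 1) (nat_lit 0x1) (.pw (nat_lit 2) (nat_lit 0x1))))))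
 (.cj (nat_lit 0x2a) (nat_lit 1) (nat_lit 0xbdcd) (.cj (nat_lit 0x24) (nat_lit 1) (nat_lit 0xb9cd) (.cj (nat_lit 0x528) (nat_lit 1) (nat_lit 0x5ee) (.pw (nat_lit 2) (nat_lit 0x2f))))))
 (.s3 (.cj (nat_lit 0x20) (nat_lit 2) (nat_lit 0x2c) (.cj (nat_lit 0x28) (nat_lit 1) (nat_lit 0x1) (.cj (nat_lit 0x2f6a926) (nat_lit 2) (nat_lit 0x17bdce) (.pw (nat_lit 2) (nat_lit 0x5ef)))))
 (.cj (nat_lit 0x26) (nat_lit 2) (nat_lit 0x5ec) (.cj (nat_lit 0x29) (nat_lit 1) (nat_lit 0xbdad) (.cj (nat_lit 0xbdaa52524) (nat_lit 1) (nat_lit 0x5ce) (.cj (nat_lit 0x2b) (nat_lit 2) (nat_lit 0x1) (.cj (nat_lit 0xb5a7) (nat_lit 1) (nat_lit 0x1) (.lf (nat_lit 0x10002e00db600db800025000270117b00048000b600228025450baa807bb800003)))))))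
 (.cj (nat_lit 0x26) (nat_lit 2) (nat_lit 0xbdee) (.cj (nat_lit 0x28) (nat_lit 1) (nat_lit 0x5cd) (.cj (nat_lit 0x546) (nat_lit 2) (nat_lit 0xbdce) (.pw (nat_lit 1) (nat_lit 0x5ef)))))))
 (.s3 (.s3 (.cj (nat_lit 0x2a) (nat_lit 1) (nat_lit 0x5cd) (.cj (nat_lit 0x544) (nat_lit 1) (nat_lit 0x17bdce) (.cj (nat_lit 0x28) (nat_lit 1) (nat_lit 0x5ce) (.pw (nat_lit 1) (nat_lit 0x5ef)))))
 (.cj (nat_lit 0x20) (nat_lit 1) (nat_lit 0x2e) (.cj (nat_lit 0x29) (nat_lit 2) (nat_lit 0xbdcd) (.cj (nat_lit 0xa940) (nat_lit 2) (nat_lit 0x2e) (.cj (nat_lit 0x27) (nat_lit 2) (nat_lit 0x1) (.s3 (.lf (nat_lit 0x107bb700db700db800ff20117a0000a01126000290122001f420055744f4500003))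
 (.lf (nat_lit 0x107bb70006b00db8000420001a011220000e024eb01957011fe3c0c300001))
 (.lf (nat_lit 0x10002e00db90002f01058000020145f07b1200004017ef002b6389d600003)))))))
 (.cj (nat_lit 0x2a) (nat_lit 1) (nat_lit 0x5cd) (.cj (nat_lit 0x29) (nat_lit 2) (nat_lit 0x1) (.cj (nat_lit 0x28) (nat_lit 2) (nat_lit 0x1) (.pw (nat_lit 2) (nat_lit 0x5ef))))))
 (.s3 (.cj (nat_lit 0x26) (nat_lit 1) (nat_lit 0xbdcd) (.cj (nat_lit 0x28) (nat_lit 2) (nat_lit 0x17b9ad) (.cj (nat_lit 0xa946) (nat_lit 2) (nat_lit 0x5ef) (.pw (nat_lit 2) (nat_lit 0x5ef)))))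
 (.cj (nat_lit 0x20) (nat_lit 2) (nat_lit 0xb58c) (.cj (nat_lit 0x24) (nat_lit 2) (nat_lit 0x2f) (.cj (nat_lit 0xa524) (nat_lit 2) (nat_lit 0x5ef) (.cj (nat_lit 0x2b) (nat_lit 2) (nat_lit 0x1) (.cj (nat_lit 0xb5a7) (nat_lit 2) (nat_lit 0x1) (.lf (nat_lit 0x100db600db8010a000027010dd000b3015a30209400009073411063100003)))))))
 (.cj (nat_lit 0x26) (nat_lit 1) (nat_lit 0xbdac) (.cj (nat_lit 0x29) (nat_lit 2) (nat_lit 0x1) (.cj (nat_lit 0x17bdad52520) (nat_lit 2) (nat_lit 0x2f) (.pw (nat_lit 1) (nat_lit 0x5ef))))))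
 (.s3 (.cj (nat_lit 0x2a) (nat_lit 1) (nat_lit 0x5ef) (.cj (nat_lit 0x28) (nat_lit 1) (nat_lit 0x1) (.cj (nat_lit 0x520) (nat_lit 2) (nat_lit 0x2f) (.cj (nat_lit 0x2d) (nat_lit 1) (nat_lit 0x1) (.cj (nat_lit 0x27) (nat_lit 2) (nat_lit 0x1) (.lf (nat_lit 0x107bb70004d00025010a00006f00f6a0002a000fc03e4d00024054a11f48b00003)))))))
 (.cj (nat_lit 0x2a) (nat_lit 1) (nat_lit 0x5ef) (.cj (nat_lit 0x20) (nat_lit 1) (nat_lit 0xbdad) (.cj (nat_lit 0x26) (nat_lit 2) (nat_lit 0x2f) (.cj (nat_lit 0x2d) (nat_lit 1) (nat_lit 0x1) (.pw (nat_lit 1) (nat_lit 0x1))))))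
 (.cj (nat_lit 0x2a) (nat_lit 1) (nat_lit 0x5ef) (.cj (nat_lit 0x29) (nat_lit 2) (nat_lit 0x1) (.cj (nat_lit 0x528) (nat_lit 1) (nat_lit 0x2e) (.cj (nat_lit 0x2d) (nat_lit 1) (nat_lit 0x1) (.cj (nat_lit 0x2b) (nat_lit 1) (nat_lit 0x1) (.lf (nat_lit 0x10002e00db9000690002500ff20109e000b2017c0021c700008072e71eabe00003)))))))))
 (.s3 (.s3 (.cj (nat_lit 0x24) (nat_lit 2) (nat_lit 0xbdac) (.cj (nat_lit 0x544) (nat_lit 1) (nat_lit 0xbdee) (.cj (nat_lit 0x28) (nat_lit 1) (nat_lit 0x5ce) (.pw (nat_lit 2) (nat_lit 0x5ef)))))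
 (.cj (nat_lit 0x20) (nat_lit 2) (nat_lit 0x2e) (.s3 (.cj (nat_lit 0x26) (nat_lit 2) (nat_lit 0x1) (.cj (nat_lit 0x27) (nat_lit 1) (nat_lit 0x1) (.cj (nat_lit 0x5a9) (nat_lit 1) (nat_lit 0x1) (.lf (nat_lit 0x107bb700db900069000410006f011cb000180135d028ba00013038c90a23300003)))))
 (.cj (nat_lit 0x26) (nat_lit 2) (nat_lit 0x5ee) (.cj (nat_lit 0x27) (nat_lit 1) (nat_lit 0x1) (.cj (nat_lit 0x5a9) (nat_lit 2) (nat_lit 0x1) (.lf (nat_lit 0x107bb70006b0006a0004e0109f000a90159a002a00001300bb51621e00003)))))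
 (.cj (nat_lit 0x26) (nat_lit 2) (nat_lit 0x17bdce) (.cj (nat_lit 0x27) (nat_lit 1) (nat_lit 0x1) (.s3 (.lf (nat_lit 0x10006b00dbb000250006a0006e00fbe0000b017c40101a00007055181286b00001))
 (.lf (nat_lit 0x10002e00db7000a6000430117b0000b0129101f6300011059e946f6200002))
 (.lf (nat_lit 0x10004d00db8000250109d0006f011220000e0013e02cc701f061bcd300003)))))))
 (.cj (nat_lit 0x20) (nat_lit 2) (nat_lit 0xbdad) (.cj (nat_lit 0x544) (nat_lit 2) (nat_lit 0x2f) (.cj (nat_lit 0x28) (nat_lit 2) (nat_lit 0x1) (.pw (nat_lit 1) (nat_lit 0x5ef))))))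
 (.s3 (.cj (nat_lit 0x2a) (nat_lit 1) (nat_lit 0x2f) (.cj (nat_lit 0x28) (nat_lit 2) (nat_lit 0x17b9ad) (.cj (nat_lit 0x29) (nat_lit 1) (nat_lit 0x5ef) (.cj (nat_lit 0x2d) (nat_lit 1) (nat_lit 0x1) (.cj (nat_lit 0x2b) (nat_lit 2) (nat_lit 0x1) (.lf (nat_lit 0x107bb700db900db8000410002f010dd000050014001cfc00008031921ed3400003)))))))
 (.cj (nat_lit 0x2a) (nat_lit 1) (nat_lit 0x2f) (.cj (nat_lit 0x20) (nat_lit 2) (nat_lit 0x5cd) (.cj (nat_lit 0xa104) (nat_lit 1) (nat_lit 0x1) (.cj (nat_lit 0x2d) (nat_lit 1) (nat_lit 0x1) (.pw (nat_lit 1) (nat_lit 0x1))))))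
 (.cj (nat_lit 0x2a) (nat_lit 1) (nat_lit 0x2f) (.cj (nat_lit 0x20) (nat_lit 2) (nat_lit 0x2f) (.cj (nat_lit 0x29) (nat_lit 2) (nat_lit 0x2e) (.cj (nat_lit 0x2d) (nat_lit 1) (nat_lit 0x1) (.cj (nat_lit 0x27) (nat_lit 1) (nat_lit 0x1) (.lf (nat_lit 0x100db600dbb000a60002f0007000fef019160000403e8b09f6300003))))))))
 (.s3 (.cj (nat_lit 0x20) (nat_lit 1) (nat_lit 0x2c) (.cj (nat_lit 0x28) (nat_lit 1) (nat_lit 0x1) (.cj (nat_lit 0x29) (nat_lit 1) (nat_lit 0x5ef) (.pw (nat_lit 1) (nat_lit 0x2f)))))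
 (.cj (nat_lit 0x24) (nat_lit 1) (nat_lit 0xbdcc) (.cj (nat_lit 0x28) (nat_lit 1) (nat_lit 0x1739ad) (.cj (nat_lit 0x5aa52100) (nat_lit 2) (nat_lit 0x5ef) (.cj (nat_lit 0x2b) (nat_lit 1) (nat_lit 0x1) (.pw (nat_lit 2) (nat_lit 0x1))))))
 (.cj (nat_lit 0x24) (nat_lit 1) (nat_lit 0xbdce) (.cj (nat_lit 0x28) (nat_lit 1) (nat_lit 0x5cd) (.cj (nat_lit 0x29) (nat_lit 2) (nat_lit 0x2e) (.pw (nat_lit 2) (nat_lit 0x2f))))))))))]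
theorem hj13 : jobsChk 3 16 T pb (lf3 F24.cd om T gb 16 reps) js13 = true := by decide +kernel

noncomputable def js14 : List Job := [([nat_lit 5, nat_lit 5, nat_lit 1], nat_lit 6, .cj (nat_lit 0x22) (nat_lit 2) (nat_lit 0x2f7b9cd5ad47) (.cj (nat_lit 0x21) (nat_lit 1) (nat_lit 0x5ef) (.s3 (.s3 (.s3 (.cj (nat_lit 0x2a) (nat_lit 1) (nat_lit 0x1) (.cj (nat_lit 0x20) (nat_lit 2) (nat_lit 0x2d) (.cj (nat_lit 0x29) (nat_lit 2) (nat_lit 0x2f) (.cj (nat_lit 0x2d) (nat_lit 1) (nat_lit 0x1) (.pw (nat_lit 1) (nat_lit 0x1))))))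
 (.cj (nat_lit 0x2a) (nat_lit 1) (nat_lit 0x1) (.cj (nat_lit 0x20) (nat_lit 2) (nat_lit 0xbdce) (.cj (nat_lit 0x24) (nat_lit 2) (nat_lit 0x2e) (.cj (nat_lit 0x2d) (nat_lit 1) (nat_lit 0x1) (.pw (nat_lit 1) (nat_lit 0x1))))))
 (.cj (nat_lit 0x2a) (nat_lit 1) (nat_lit 0x1) (.cj (nat_lit 0x546) (nat_lit 1) (nat_lit 0x1) (.cj (nat_lit 0xa104) (nat_lit 1) (nat_lit 0x5ee) (.cj (nat_lit 0x2d) (nat_lit 1) (nat_lit 0x1) (.pw (nat_lit 2) (nat_lit 0x1)))))))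
 (.s3 (.cj (nat_lit 0x2a) (nat_lit 1) (nat_lit 0xbdcd) (.cj (nat_lit 0x28) (nat_lit 1) (nat_lit 0x2d) (.cj (nat_lit 0x29) (nat_lit 2) (nat_lit 0x2f) (.pw (nat_lit 2) (nat_lit 0x5ef)))))
 (.cj (nat_lit 0x20) (nat_lit 1) (nat_lit 0xbdac) (.cj (nat_lit 0x28) (nat_lit 1) (nat_lit 0x5ce) (.cj (nat_lit 0x29) (nat_lit 1) (nat_lit 0x5ce) (.pw (nat_lit 1) (nat_lit 0x5ef)))))
 (.cj (nat_lit 0x2a) (nat_lit 1) (nat_lit 0xbdcd) (.cj (nat_lit 0x28) (nat_lit 1) (nat_lit 0xb9ad) (.cj (nat_lit 0x5ad52906) (nat_lit 2) (nat_lit 0x5ef) (.cj (nat_lit 0x27) (nat_lit 2) (nat_lit 0x1) (.cj (nat_lit 0xb5a9) (nat_lit 2) (nat_lit 0x1) (.lf (nat_lit 0x107bb70002e00db90006b0117a0000d0109f00028015a4028600000106ba33dc5700004))))))))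
 (.s3 (.cj (nat_lit 0x20) (nat_lit 2) (nat_lit 0x2f) (.cj (nat_lit 0x544) (nat_lit 2) (nat_lit 0x2f) (.cj (nat_lit 0x29) (nat_lit 2) (nat_lit 0x2f) (.pw (nat_lit 1) (nat_lit 0x1)))))
 (.cj (nat_lit 0x24) (nat_lit 2) (nat_lit 0x17bdac) (.cj (nat_lit 0x544) (nat_lit 1) (nat_lit 0xbdee) (.cj (nat_lit 0x28) (nat_lit 1) (nat_lit 0x2e) (.pw (nat_lit 2) (nat_lit 0x1)))))
 (.cj (nat_lit 0x20) (nat_lit 2) (nat_lit 0x5cd) (.s3 (.cj (nat_lit 0x26) (nat_lit 2) (nat_lit 0x2f) (.cj (nat_lit 0x2b) (nat_lit 2) (nat_lit 0x1) (.pw (nat_lit 1) (nat_lit 0x1))))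
 (.cj (nat_lit 0x26) (nat_lit 2) (nat_lit 0xbdee) (.cj (nat_lit 0x29) (nat_lit 1) (nat_lit 0x1) (.pw (nat_lit 1) (nat_lit 0x1))))
 (.cj (nat_lit 0x26) (nat_lit 2) (nat_lit 0x5ce) (.cj (nat_lit 0x2b) (nat_lit 2) (nat_lit 0x1) (.pw (nat_lit 1) (nat_lit 0x1))))))))
 (.s3 (.s3 (.cj (nat_lit 0x2a) (nat_lit 1) (nat_lit 0x5cd) (.cj (nat_lit 0x28) (nat_lit 2) (nat_lit 0x5ee) (.cj (nat_lit 0x528) (nat_lit 1) (nat_lit 0xbdce) (.pw (nat_lit 2) (nat_lit 0x5ef)))))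
 (.cj (nat_lit 0x2a) (nat_lit 1) (nat_lit 0x5cd) (.cj (nat_lit 0x29) (nat_lit 1) (nat_lit 0x5ef) (.cj (nat_lit 0x24) (nat_lit 1) (nat_lit 0x5ce) (.pw (nat_lit 1) (nat_lit 0x5ef)))))
 (.cj (nat_lit 0x2a) (nat_lit 1) (nat_lit 0x5cd) (.cj (nat_lit 0x24) (nat_lit 2) (nat_lit 0xbded) (.cj (nat_lit 0x26) (nat_lit 2) (nat_lit 0x2f) (.cj (nat_lit 0x2b) (nat_lit 1) (nat_lit 0x1) (.cj (nat_lit 0x5a7) (nat_lit 1) (nat_lit 0x1) (.lf (nat_lit 0x10002e00db900dbb0004e010250002901d300151e0000302516002b62c47400004))))))))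
 (.s3 (.cj (nat_lit 0x26) (nat_lit 2) (nat_lit 0x2f) (.cj (nat_lit 0x28) (nat_lit 1) (nat_lit 0x2d) (.cj (nat_lit 0x546) (nat_lit 2) (nat_lit 0xbdee) (.pw (nat_lit 1) (nat_lit 0x1)))))
 (.cj (nat_lit 0x20) (nat_lit 2) (nat_lit 0x5ac) (.cj (nat_lit 0x28) (nat_lit 1) (nat_lit 0x5ce) (.cj (nat_lit 0x2f6a926) (nat_lit 2) (nat_lit 0x1) (.pw (nat_lit 2) (nat_lit 0x1)))))
 (.cj (nat_lit 0x26) (nat_lit 2) (nat_lit 0xb9cc) (.cj (nat_lit 0x28) (nat_lit 1) (nat_lit 0xb9ad) (.cj (nat_lit 0xbdaa52524) (nat_lit 1) (nat_lit 0x17bdce) (.cj (nat_lit 0x27) (nat_lit 1) (nat_lit 0x1) (.pw (nat_lit 1) (nat_lit 0x1)))))))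
 (.s3 (.cj (nat_lit 0x2a) (nat_lit 1) (nat_lit 0x5ef) (.cj (nat_lit 0x29) (nat_lit 1) (nat_lit 0x5cd) (.cj (nat_lit 0x28) (nat_lit 2) (nat_lit 0x5ce) (.cj (nat_lit 0x20) (nat_lit 1) (nat_lit 0x1) (.cj (nat_lit 0x27) (nat_lit 1) (nat_lit 0x1) (.lf (nat_lit 0x107bb70002e00db70004d011cb000450145d078360003a0199e002b6452ca00003)))))))
 (.cj (nat_lit 0x2a) (nat_lit 1) (nat_lit 0x5ef) (.cj (nat_lit 0x29) (nat_lit 1) (nat_lit 0x5ef) (.cj (nat_lit 0x20) (nat_lit 2) (nat_lit 0x2f) (.cj (nat_lit 0x2c) (nat_lit 1) (nat_lit 0x1) (.cj (nat_lit 0x2b) (nat_lit 2) (nat_lit 0x1) (.lf (nat_lit 0x107bb700db70004d000690109d0000d0004300016013e507b3302cba35f1a00003)))))))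
 (.cj (nat_lit 0x24) (nat_lit 2) (nat_lit 0x2e) (.cj (nat_lit 0x29) (nat_lit 1) (nat_lit 0x2f739ad) (.cj (nat_lit 0x20) (nat_lit 1) (nat_lit 0x17bdce) (.cj (nat_lit 0x2c) (nat_lit 1) (nat_lit 0x1) (.pw (nat_lit 1) (nat_lit 0x1))))))))
 (.s3 (.s3 (.cj (nat_lit 0x26) (nat_lit 1) (nat_lit 0x17b9ac) (.cj (nat_lit 0x28) (nat_lit 2) (nat_lit 0x5ee) (.cj (nat_lit 0x17bdad52926) (nat_lit 2) (nat_lit 0x5ee) (.pw (nat_lit 1) (nat_lit 0x1)))))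
 (.cj (nat_lit 0x26) (nat_lit 1) (nat_lit 0x17b9cd) (.cj (nat_lit 0x28) (nat_lit 2) (nat_lit 0xbdad) (.cj (nat_lit 0xa946) (nat_lit 2) (nat_lit 0x2e) (.pw (nat_lit 2) (nat_lit 0x1)))))
 (.cj (nat_lit 0x20) (nat_lit 2) (nat_lit 0x16b58c) (.cj (nat_lit 0x29) (nat_lit 2) (nat_lit 0x2d) (.cj (nat_lit 0xa524) (nat_lit 2) (nat_lit 0xbdce) (.cj (nat_lit 0x2b) (nat_lit 2) (nat_lit 0x1) (.pw (nat_lit 1) (nat_lit 0x1)))))))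
 (.s3 (.cj (nat_lit 0x2a) (nat_lit 1) (nat_lit 0x2f) (.cj (nat_lit 0x28) (nat_lit 1) (nat_lit 0x2d) (.cj (nat_lit 0x520) (nat_lit 2) (nat_lit 0x5ee) (.cj (nat_lit 0x2d) (nat_lit 1) (nat_lit 0x1) (.pw (nat_lit 1) (nat_lit 0x1))))))
 (.cj (nat_lit 0x2a) (nat_lit 1) (nat_lit 0x2f) (.cj (nat_lit 0x28) (nat_lit 1) (nat_lit 0x5ce) (.cj (nat_lit 0x526) (nat_lit 1) (nat_lit 0x1) (.cj (nat_lit 0x2d) (nat_lit 1) (nat_lit 0x1) (.pw (nat_lit 1) (nat_lit 0x1))))))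
 (.cj (nat_lit 0x2a) (nat_lit 1) (nat_lit 0x2f) (.cj (nat_lit 0x20) (nat_lit 1) (nat_lit 0x1) (.cj (nat_lit 0x26) (nat_lit 2) (nat_lit 0x2e) (.cj (nat_lit 0x2d) (nat_lit 1) (nat_lit 0x1) (.pw (nat_lit 2) (nat_lit 0x1)))))))
 (.s3 (.cj (nat_lit 0x20) (nat_lit 1) (nat_lit 0x5ef) (.cj (nat_lit 0x29) (nat_lit 2) (nat_lit 0x17bdce) (.cj (nat_lit 0x28) (nat_lit 2) (nat_lit 0x5ce) (.pw (nat_lit 2) (nat_lit 0x1)))))
 (.cj (nat_lit 0x20) (nat_lit 1) (nat_lit 0x1739ad) (.cj (nat_lit 0x544) (nat_lit 1) (nat_lit 0x5ef) (.cj (nat_lit 0x28) (nat_lit 1) (nat_lit 0x2e) (.pw (nat_lit 1) (nat_lit 0x1)))))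
 (.cj (nat_lit 0x20) (nat_lit 1) (nat_lit 0xbdcd) (.cj (nat_lit 0x29) (nat_lit 2) (nat_lit 0x2d) (.cj (nat_lit 0x2f6a926) (nat_lit 2) (nat_lit 0x5ef) (.cj (nat_lit 0x2b) (nat_lit 1) (nat_lit 0x1) (.pw (nat_lit 1) (nat_lit 0x1))))))))))),
 ([nat_lit 3, nat_lit 1], nat_lit 4, .cj (nat_lit 0x23) (nat_lit 2) (nat_lit 0x5ad6316b) (.s3 (.cj (nat_lit 0x462) (nat_lit 2) (nat_lit 0xb98b) (.cj (nat_lit 0x25) (nat_lit 1) (nat_lit 0x5ef6b16a) (.pw (nat_lit 1) (nat_lit 0xbdee7316b))))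
 (.cj (nat_lit 0x462) (nat_lit 2) (nat_lit 0x2f739ab5a8e7) (.cj (nat_lit 0x25) (nat_lit 1) (nat_lit 0x5ef6b16a) (.pw (nat_lit 1) (nat_lit 0x2f7b58c))))
 (.cj (nat_lit 0x462) (nat_lit 2) (nat_lit 0x17b5ac62947) (.cj (nat_lit 0x25) (nat_lit 1) (nat_lit 0x5ef6b16a) (.pw (nat_lit 1) (nat_lit 0x2f735ab)))))),
 ([nat_lit 3, nat_lit 3, nat_lit 1], nat_lit 4, .cj (nat_lit 0x23) (nat_lit 2) (nat_lit 0x5ad6316b) (.s3 (.cj (nat_lit 0x8c62) (nat_lit 2) (nat_lit 0x17b18b5a908) (.cj (nat_lit 0x25) (nat_lit 1) (nat_lit 0xbdee7358c5ad4a) (.pw (nat_lit 1) (nat_lit 0x17b58b))))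
 (.cj (nat_lit 0x8c62) (nat_lit 2) (nat_lit 0x5ee7318a420e7) (.cj (nat_lit 0x8c61) (nat_lit 2) (nat_lit 0x5ad5ad48) (.pw (nat_lit 1) (nat_lit 0x17b9cc))))
 (.cj (nat_lit 0x8c62) (nat_lit 2) (nat_lit 0x5ef7318b52107) (.cj (nat_lit 0x25) (nat_lit 1) (nat_lit 0xbdee7358c5ad4a) (.pw (nat_lit 1) (nat_lit 0xbdcd6b16b))))))]
theorem hj14 : jobsChk 3 16 T pb (lf3 F24.cd om T gb 16 reps) js14 = true := by decide +kernel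

noncomputable def js15 : List Job := [([nat_lit 2, nat_lit 1], nat_lit 3, .s3 (.cj (nat_lit 0x23) (nat_lit 1) (nat_lit 0x5ef73988) (.cj (nat_lit 0x20) (nat_lit 1) (nat_lit 0x17bdcd628e7) (.cj (nat_lit 0x22) (nat_lit 2) (nat_lit 0x17bdcd) (.cj (nat_lit 0x25) (nat_lit 2) (nat_lit 0x17bdca) (.pw (nat_lit 1) (nat_lit 0xbdad62d49))))))
 (.cj (nat_lit 0x23) (nat_lit 1) (nat_lit 0x5ef73988) (.cj (nat_lit 0x20) (nat_lit 1) (nat_lit 0x2f73549420e7) (.cj (nat_lit 0x8c61) (nat_lit 1) (nat_lit 0x5ee6b188) (.cj (nat_lit 0x25) (nat_lit 2) (nat_lit 0xbdce5ad4a) (.cj (nat_lit 0x24) (nat_lit 1) (nat_lit 0x2d63169) (.pw (nat_lit 2) (nat_lit 0xbdcc5ad4a)))))))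
 (.cj (nat_lit 0x23) (nat_lit 1) (nat_lit 0x5ef73988) (.cj (nat_lit 0x20) (nat_lit 1) (nat_lit 0xb18b5a9494a0e7) (.cj (nat_lit 0x461) (nat_lit 1) (nat_lit 0x2e735ac62d49) (.cj (nat_lit 0x25) (nat_lit 2) (nat_lit 0x2f735ab) (.cj (nat_lit 0x24) (nat_lit 2) (nat_lit 0xb9cd63149) (.s3 (.cj (nat_lit 0x29) (nat_lit 1) (nat_lit 0xbdcc) (.pw (nat_lit 2) (nat_lit 0xbdee7358c)))
 (.cj (nat_lit 0x29) (nat_lit 1) (nat_lit 0xbdcc) (.pw (nat_lit 1) (nat_lit 0xbdcc)))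
 (.cj (nat_lit 0x29) (nat_lit 1) (nat_lit 0xbdcc) (.cj (nat_lit 0x2a) (nat_lit 2) (nat_lit 0xbdee6b58c) (.cj (nat_lit 0x2a518c4) (nat_lit 1) (nat_lit 0x2e) (.s3 (.cj (nat_lit 0x2d) (nat_lit 2) (nat_lit 0x1) (.pw (nat_lit 2) (nat_lit 0x1)))
 (.cj (nat_lit 0x2d) (nat_lit 2) (nat_lit 0x1) (.pw (nat_lit 1) (nat_lit 0x1)))
 (.cj (nat_lit 0x2d) (nat_lit 2) (nat_lit 0x1) (.cj (nat_lit 0x2e) (nat_lit 1) (nat_lit 0x1) (.lf (nat_lit 0x100db600dbb0006c0000a011790007701290016140000802c55477f400003))))))))))))))),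
 ([nat_lit 2, nat_lit 2, nat_lit 1], nat_lit 4, .s3 (.cj (nat_lit 0x20) (nat_lit 2) (nat_lit 0xbded62ce7) (.cj (nat_lit 0x22) (nat_lit 2) (nat_lit 0x17bdcd) (.s3 (.cj (nat_lit 0x26) (nat_lit 1) (nat_lit 0x5ce63169) (.cj (nat_lit 0x24) (nat_lit 2) (nat_lit 0x17bdce6b58b) (.pw (nat_lit 2) (nat_lit 0x17bdce6b58b))))
 (.cj (nat_lit 0x26) (nat_lit 1) (nat_lit 0x5ee63169) (.cj (nat_lit 0x24) (nat_lit 2) (nat_lit 0xbdee6b58b) (.pw (nat_lit 2) (nat_lit 0x2f7b58b))))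
 (.cj (nat_lit 0x23) (nat_lit 2) (nat_lit 0x5ec52929) (.cj (nat_lit 0x24) (nat_lit 2) (nat_lit 0x5ef6b58b) (.pw (nat_lit 2) (nat_lit 0x2f7b98b)))))))
 (.cj (nat_lit 0x20) (nat_lit 2) (nat_lit 0x5cc5ace7) (.cj (nat_lit 0x21) (nat_lit 2) (nat_lit 0x2e7358b) (.s3 (.cj (nat_lit 0x23) (nat_lit 1) (nat_lit 0x2f7ad29) (.cj (nat_lit 0x98c3) (nat_lit 1) (nat_lit 0x17b56a) (.pw (nat_lit 1) (nat_lit 0x5ef739ac))))
 (.cj (nat_lit 0x23) (nat_lit 1) (nat_lit 0x2d62d29) (.cj (nat_lit 0x24) (nat_lit 2) (nat_lit 0xbdee6b58b) (.pw (nat_lit 1) (nat_lit 0xb9cc))))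
 (.cj (nat_lit 0x26) (nat_lit 1) (nat_lit 0xb9cd6b189) (.cj (nat_lit 0x24) (nat_lit 2) (nat_lit 0x5ef6b58b) (.pw (nat_lit 1) (nat_lit 0x5ee735ac)))))))
 (.cj (nat_lit 0x20) (nat_lit 2) (nat_lit 0xb9cd6b0e7) (.cj (nat_lit 0x21) (nat_lit 2) (nat_lit 0x2f7b9ac) (.s3 (.cj (nat_lit 0x26) (nat_lit 1) (nat_lit 0x5ac62d69) (.cj (nat_lit 0x23) (nat_lit 2) (nat_lit 0x2f62d6a) (.cj (nat_lit 0x29) (nat_lit 1) (nat_lit 0x17bdcb) (.s3 (.cj (nat_lit 0x2a) (nat_lit 1) (nat_lit 0x1) (.pw (nat_lit 2) (nat_lit 0x17bdce)))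
 (.cj (nat_lit 0x2b) (nat_lit 2) (nat_lit 0x1) (.cj (nat_lit 0x2c) (nat_lit 2) (nat_lit 0x17bdce) (.cj (nat_lit 0x2b59083) (nat_lit 2) (nat_lit 0x2f) (.cj (nat_lit 0x2d) (nat_lit 1) (nat_lit 0x1) (.lf (nat_lit 0x10002e00db9000250109d0000a0002f0001601294014420000706c501772300004))))))
 (.cj (nat_lit 0x2b) (nat_lit 2) (nat_lit 0x1) (.pw (nat_lit 1) (nat_lit 0x5ee)))))))
 (.cj (nat_lit 0x26) (nat_lit 1) (nat_lit 0x2f739ac62d69) (.cj (nat_lit 0x24) (nat_lit 2) (nat_lit 0xbdee6b58b) (.cj (nat_lit 0x29) (nat_lit 1) (nat_lit 0x2f7b9cb) (.s3 (.cj (nat_lit 0x2b) (nat_lit 2) (nat_lit 0x1) (.pw (nat_lit 1) (nat_lit 0x5ee)))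
 (.cj (nat_lit 0x2a) (nat_lit 1) (nat_lit 0x1) (.pw (nat_lit 2) (nat_lit 0x17bdce)))
 (.cj (nat_lit 0x2b) (nat_lit 2) (nat_lit 0x1) (.cj (nat_lit 0x2c) (nat_lit 2) (nat_lit 0x17bdce) (.cj (nat_lit 0x58c5ad25) (nat_lit 1) (nat_lit 0x5ef) (.cj (nat_lit 0x2d) (nat_lit 1) (nat_lit 0x1) (.lf (nat_lit 0x107bb7000690006c011cb0007a014e601f7b00001005f91a25007bb800003))))))))))
 (.cj (nat_lit 0x26) (nat_lit 1) (nat_lit 0x2f7b9ac62d69) (.cj (nat_lit 0x24) (nat_lit 2) (nat_lit 0x5ef6b58b) (.cj (nat_lit 0x29) (nat_lit 1) (nat_lit 0xbdeb) (.s3 (.cj (nat_lit 0x2b) (nat_lit 2) (nat_lit 0x1) (.cj (nat_lit 0x2c) (nat_lit 2) (nat_lit 0x17bdce) (.cj (nat_lit 0x58b59083) (nat_lit 2) (nat_lit 0x1) (.cj (nat_lit 0x2d) (nat_lit 1) (nat_lit 0x1) (.lf (nat_lit 0x107bb700db70006b00db8000a60004e0006e00017010db0399f00004035012827100004))))))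
 (.cj (nat_lit 0x2b) (nat_lit 2) (nat_lit 0x1) (.pw (nat_lit 1) (nat_lit 0x5ee)))
 (.cj (nat_lit 0x2a) (nat_lit 1) (nat_lit 0x1) (.pw (nat_lit 2) (nat_lit 0x17bdce))))))))))),
 ([nat_lit 3, nat_lit 2, nat_lit 2, nat_lit 1], nat_lit 7, .s3 (.cj (nat_lit 0x24) (nat_lit 1) (nat_lit 0xb9cd52929) (.cj (nat_lit 0x4c3) (nat_lit 1) (nat_lit 0x2d62d4a) (.cj (nat_lit 0x29) (nat_lit 2) (nat_lit 0x1739ac) (.pw (nat_lit 2) (nat_lit 0x5ef7358c)))))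
 (.cj (nat_lit 0x24) (nat_lit 1) (nat_lit 0x5cd52929) (.cj (nat_lit 0x4c3) (nat_lit 1) (nat_lit 0x2c62d4a) (.cj (nat_lit 0x29) (nat_lit 2) (nat_lit 0x5ac) (.pw (nat_lit 2) (nat_lit 0x17358c)))))
 (.cj (nat_lit 0x24) (nat_lit 1) (nat_lit 0x2d52929) (.cj (nat_lit 0x4c3) (nat_lit 1) (nat_lit 0x2d6ad4a) (.cj (nat_lit 0x29) (nat_lit 2) (nat_lit 0xb9ac) (.pw (nat_lit 2) (nat_lit 0x2f7358c))))))]
theorem hj15 : jobsChk 3 16 T pb (lf3 F24.cd om T gb 16 reps) js15 = true := by decide +kernel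

noncomputable def js16 : List Job := [([nat_lit 6, nat_lit 3, nat_lit 2, nat_lit 2, nat_lit 1], nat_lit 8, .cj (nat_lit 0x23) (nat_lit 2) (nat_lit 0x5ee6ad69) (.s3 (.cj (nat_lit 0x29) (nat_lit 2) (nat_lit 0x2b) (.s3 (.cj (nat_lit 0x4c3) (nat_lit 1) (nat_lit 0x2f739ad) (.s3 (.s3 (.cj (nat_lit 0x25) (nat_lit 2) (nat_lit 0x1) (.lf (nat_lit 0x10002e0006900042000a6000430109e00016020ad041800000400c3032c2a00003)))
 (.cj (nat_lit 0x25) (nat_lit 2) (nat_lit 0x1) (.lf (nat_lit 0x10002e00db70006b00dbd0000a0007c00017017c3002280309d40c2d00003)))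
 (.cj (nat_lit 0x25) (nat_lit 2) (nat_lit 0x1) (.lf (nat_lit 0x107bb70002e0006b00ff200f6a00002016330160c0002405e630a26007bb800003))))
 (.s3 (.cj (nat_lit 0x25) (nat_lit 2) (nat_lit 0x1) (.lf (nat_lit 0x107bb700db90006b0004100ff20000d00ff30000c01292039e9077531064000003)))
 (.cj (nat_lit 0x25) (nat_lit 2) (nat_lit 0x1) (.lf (nat_lit 0x100db900dbb0002500ff20117a011790109c01aea00000046e121c9e00001)))
 (.cj (nat_lit 0x25) (nat_lit 2) (nat_lit 0x1) (.lf (nat_lit 0x100db7000690002500ff20000d0001500002000ba0029f00000007c71999000001))))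
 (.s3 (.cj (nat_lit 0x25) (nat_lit 2) (nat_lit 0x1) (.lf (nat_lit 0x10002e0004d00dbb0117a0002f010d900016016330159500e3e4536a00003)))
 (.cj (nat_lit 0x25) (nat_lit 2) (nat_lit 0x1) (.lf (nat_lit 0x1000250109d00026000ea0000c01292021da010af43e4f00003)))
 (.cj (nat_lit 0x25) (nat_lit 2) (nat_lit 0x1) (.lf (nat_lit 0x107bb70002e00db700dbd000a800ff000185020710003e032d53ef0e00001))))))
 (.s3 (.cj (nat_lit 0x4c3) (nat_lit 2) (nat_lit 0x2e) (.s3 (.cj (nat_lit 0x2a) (nat_lit 1) (nat_lit 0x1) (.lf (nat_lit 0x107bb700db60006900dbd0000d0001600dc707ba100001073de3574600001)))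
 (.cj (nat_lit 0x2a) (nat_lit 1) (nat_lit 0x1) (.lf (nat_lit 0x100db9000420117a0001a011260007a0129207b6f0003f054e311d7d00003)))
 (.cj (nat_lit 0x2a) (nat_lit 1) (nat_lit 0x1) (.lf (nat_lit 0x100db90006900dba0001a00dbf000290159d024bb0000103b1f1896b00003)))))
 (.cj (nat_lit 0x4c3) (nat_lit 1) (nat_lit 0xbdce) (.s3 (.cj (nat_lit 0x25) (nat_lit 1) (nat_lit 0x1) (.lf (nat_lit 0x100db600db70006b00025010a00001500070010a302bf7062291bc8200003)))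
 (.cj (nat_lit 0x25) (nat_lit 1) (nat_lit 0x1) (.lf (nat_lit 0x100dbb00041010a00000a000480010007b1c000040047a2b05200001)))
 (.cj (nat_lit 0x25) (nat_lit 1) (nat_lit 0x1) (.lf (nat_lit 0x10002e00db6000690006b0117a0000d000ea00005015a6024ac00000028a84390900003)))))
 (.s3 (.s3 (.cj (nat_lit 0x25) (nat_lit 2) (nat_lit 0x1) (.lf (nat_lit 0x100db90004d000690006a00043000b6015a503ce700000019ce218c800003)))
 (.cj (nat_lit 0x25) (nat_lit 2) (nat_lit 0x1) (.lf (nat_lit 0x107bb700db600025000a6000440128f0000c02a0e0263c000140422b3ce1a00003)))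
 (.cj (nat_lit 0x25) (nat_lit 2) (nat_lit 0x1) (.lf (nat_lit 0x100db70004d00ff20117a0007c00045020ad016bf000030315c0853807bb900000))))
 (.s3 (.cj (nat_lit 0x25) (nat_lit 2) (nat_lit 0x1) (.lf (nat_lit 0x107bb7000690006b000250006a0109d01122000ab07adf0003b018d50cc1200003)))
 (.cj (nat_lit 0x25) (nat_lit 2) (nat_lit 0x1) (.lf (nat_lit 0x107bb70006900025010a0000260117b0001b013590788b00008002da1ac4600003)))
 (.cj (nat_lit 0x25) (nat_lit 2) (nat_lit 0x1) (.lf (nat_lit 0x100db70004d000420117a0000d000eb0000c01d3107b88000350625c305f607bb900003))))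
 (.s3 (.cj (nat_lit 0x25) (nat_lit 2) (nat_lit 0x1) (.lf (nat_lit 0x100db900db8000a60004e00ff300005010da01b020000104da34762400003)))
 (.cj (nat_lit 0x25) (nat_lit 2) (nat_lit 0x1) (.lf (nat_lit 0x10002e00db900dbb000410109d0004e01058010db001a100000039f210fdb00003)))
 (.cj (nat_lit 0x25) (nat_lit 2) (nat_lit 0x1) (.lf (nat_lit 0x100db600db700042000a6000440117b00002000f90192300007052090a72100003))))))
 (.cj (nat_lit 0x4c3) (nat_lit 2) (nat_lit 0x17bdad) (.s3 (.s3 (.cj (nat_lit 0x25) (nat_lit 1) (nat_lit 0x1) (.lf (nat_lit 0x107bb700db600db9000410109d0007c011cb0007000f3e0027f000070119b23ec300003)))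
 (.cj (nat_lit 0x25) (nat_lit 1) (nat_lit 0x1) (.lf (nat_lit 0x10002e00db90006b00db80004201023000740117407a6c045da2d1c600003)))
 (.cj (nat_lit 0x25) (nat_lit 1) (nat_lit 0x1) (.lf (nat_lit 0x100db600db700dbb0006a000ea0128f000450112301f4206b84300a500003))))
 (.s3 (.cj (nat_lit 0x25) (nat_lit 1) (nat_lit 0x1) (.lf (nat_lit 0x107bb70006900dbd01122000aa00f3e07b5600001038d03c92600003)))
 (.cj (nat_lit 0x25) (nat_lit 1) (nat_lit 0x1) (.lf (nat_lit 0x100db90006900042000a60109e00019010a3078b60002305f1747d2807bb900001)))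
 (.cj (nat_lit 0x25) (nat_lit 1) (nat_lit 0x1) (.lf (nat_lit 0x10002e0004d0006900ff20117a0004e010dd00144028800000700a8b161d200003))))
 (.s3 (.cj (nat_lit 0x25) (nat_lit 1) (nat_lit 0x1) (.lf (nat_lit 0x10002e00db6000a60000d0007601a4203d050000303c3b09ac100002)))
 (.cj (nat_lit 0x25) (nat_lit 1) (nat_lit 0x1) (.lf (nat_lit 0x100db9000690006a0117a000270000e0007e07ba6051fe1156800003)))
 (.cj (nat_lit 0x25) (nat_lit 1) (nat_lit 0x1) (.lf (nat_lit 0x10002e00db7000690006b0002500ff2000020128807b580001406c33460a200003))))))))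
 (.cj (nat_lit 0x29) (nat_lit 2) (nat_lit 0x2b) (.cj (nat_lit 0x98c4) (nat_lit 2) (nat_lit 0x17bdcc) (.cj (nat_lit 0x25) (nat_lit 1) (nat_lit 0x17b9cd) (.pw (nat_lit 1) (nat_lit 0x17bdce)))))
 (.cj (nat_lit 0x29) (nat_lit 2) (nat_lit 0x2b) (.cj (nat_lit 0xa4c3) (nat_lit 2) (nat_lit 0x16b58c) (.cj (nat_lit 0x25) (nat_lit 2) (nat_lit 0x2f7b9ad) (.pw (nat_lit 1) (nat_lit 0x5ce))))))),
 ([nat_lit 7, nat_lit 6, nat_lit 3, nat_lit 2, nat_lit 2, nat_lit 1], nat_lit 8, .cj (nat_lit 0x23) (nat_lit 2) (nat_lit 0xbdee62d69) (.s3 (.cj (nat_lit 0x29) (nat_lit 2) (nat_lit 0x5cb) (.s3 (.cj (nat_lit 0x4c3) (nat_lit 2) (nat_lit 0xbdcd) (.s3 (.s3 (.cj (nat_lit 0x2b) (nat_lit 2) (nat_lit 0x1) (.lf (nat_lit 0x100db70004d000410004e0109f000b10128a0158e04c62130e300003)))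
 (.cj (nat_lit 0x2b) (nat_lit 2) (nat_lit 0x1) (.lf (nat_lit 0x10002e0004d000690000a00fbc0004b012ee0236100004019bc2eb5300003)))
 (.cj (nat_lit 0x2b) (nat_lit 2) (nat_lit 0x1) (.lf (nat_lit 0x10004d00069000420000d010d90014600de60000801ff927d7f00003))))
 (.s3 (.cj (nat_lit 0x2b) (nat_lit 2) (nat_lit 0x1) (.lf (nat_lit 0x107bb700db90006b000a60006e011790002a01a4001c1800004020f629d2600001)))
 (.cj (nat_lit 0x2b) (nat_lit 2) (nat_lit 0x1) (.lf (nat_lit 0x10006b00dbb00025000a60000d00f6a000b0012890017a0000003efb1c0dc00003)))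
 (.cj (nat_lit 0x2b) (nat_lit 2) (nat_lit 0x1) (.lf (nat_lit 0x107bb700069000250006a0109d0000d010d90000b013e301c6806e8f19ef600003))))
 (.s3 (.cj (nat_lit 0x2b) (nat_lit 2) (nat_lit 0x1) (.lf (nat_lit 0x10002e00db900db80109d000eb00dbc000020112401bed0001100d623a85500003)))
 (.cj (nat_lit 0x2b) (nat_lit 2) (nat_lit 0x1) (.lf (nat_lit 0x107bb700db900db8000410000d00027000450161000003056eb319b500003)))
 (.cj (nat_lit 0x2b) (nat_lit 2) (nat_lit 0x1) (.lf (nat_lit 0x100db900db80006a0109d0001a00017020af01cfe02f440eb2000002))))))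
 (.cj (nat_lit 0x4c3) (nat_lit 1) (nat_lit 0x2d) (.s3 (.s3 (.cj (nat_lit 0x25) (nat_lit 1) (nat_lit 0x1) (.lf (nat_lit 0x100db60004d0006a0109d011790000e01a4200fb30001d05ff73a58300003)))
 (.cj (nat_lit 0x25) (nat_lit 1) (nat_lit 0x1) (.lf (nat_lit 0x107bb70002e00db900ff20001a011c70000e016de07b560001d00c6f2798b00003)))
 (.cj (nat_lit 0x25) (nat_lit 1) (nat_lit 0x1) (.lf (nat_lit 0x107bb700db90006900042000a60002f0109e0004901114000010445d1c41700003))))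
 (.s3 (.cj (nat_lit 0x25) (nat_lit 1) (nat_lit 0x1) (.lf (nat_lit 0x10002e00db90004d00069000250006a0002f0109e00047035c900040012461cba700001)))
 (.cj (nat_lit 0x25) (nat_lit 1) (nat_lit 0x1) (.lf (nat_lit 0x100dbb000420109d000440109e00006010a303cea0002205f323ba3600001)))
 (.cj (nat_lit 0x25) (nat_lit 1) (nat_lit 0x1) (.lf (nat_lit 0x100db600db8010a0011c70004f0010001e0e000080640108d6000003))))
 (.s3 (.cj (nat_lit 0x25) (nat_lit 1) (nat_lit 0x1) (.lf (nat_lit 0x100db70004d00db800042000a700f6a0000b0018503276000080475548dc000003)))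
 (.cj (nat_lit 0x25) (nat_lit 1) (nat_lit 0x1) (.lf (nat_lit 0x10006b00025000a6000270128f0002a0010007b520003301b0b0a04800001)))
 (.cj (nat_lit 0x25) (nat_lit 1) (nat_lit 0x1) (.lf (nat_lit 0x10002e000690006b000410006f011cb000ab0135e07b6f00058068204461400003))))))
 (.s3 (.cj (nat_lit 0x4c3) (nat_lit 1) (nat_lit 0x17bdce) (.s3 (.cj (nat_lit 0x25) (nat_lit 2) (nat_lit 0x1) (.lf (nat_lit 0x107bb700db9010a00006f01179000750159d07b980003a054a812c4d00003)))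
 (.cj (nat_lit 0x25) (nat_lit 2) (nat_lit 0x1) (.lf (nat_lit 0x100db7000420109d0001a000a8000020002a01f6d0000705be828edc00003)))
 (.cj (nat_lit 0x25) (nat_lit 2) (nat_lit 0x1) (.lf (nat_lit 0x100db60006b00041000260109e000180117c03985000510276d4a34000001)))))
 (.s3 (.s3 (.cj (nat_lit 0x2a) (nat_lit 1) (nat_lit 0x1) (.lf (nat_lit 0x10002e0004d0006a0117a00015011260004f017bc02bdd0001205e7b18dbd00003)))
 (.cj (nat_lit 0x2a) (nat_lit 1) (nat_lit 0x1) (.lf (nat_lit 0x10002e00dbb0002f000f20000c00139041660001101ab310fdb00003)))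
 (.cj (nat_lit 0x2a) (nat_lit 1) (nat_lit 0x1) (.lf (nat_lit 0x107bb70004d010a000ff3014d100033079872e33200003))))
 (.s3 (.cj (nat_lit 0x2a) (nat_lit 1) (nat_lit 0x1) (.lf (nat_lit 0x10002e00db60006b00dba010a0010dd00030013e607b8a000110324b2602e00003)))
 (.cj (nat_lit 0x2a) (nat_lit 1) (nat_lit 0x1) (.lf (nat_lit 0x10002e00db60006b0006a0004e00002013ec029080000000781112bf00003)))
 (.cj (nat_lit 0x2a) (nat_lit 1) (nat_lit 0x1) (.lf (nat_lit 0x107bb700db60006a0013a01179000050018807af80000100d054a8d107bb900000))))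
 (.s3 (.cj (nat_lit 0x2a) (nat_lit 1) (nat_lit 0x1) (.lf (nat_lit 0x100069000a600026000eb0002c0129201e250001d050c909cbd07bb900003)))
 (.cj (nat_lit 0x2a) (nat_lit 1) (nat_lit 0x1) (.lf (nat_lit 0x107bb700db90006900ff200043010d90002d015a6001ea0000400e793794a07bb900003)))
 (.cj (nat_lit 0x2a) (nat_lit 1) (nat_lit 0x1) (.lf (nat_lit 0x107bb70002e0004d00db800016011800010700001061062606f00003)))))
 (.cj (nat_lit 0x4c3) (nat_lit 2) (nat_lit 0x5ee) (.s3 (.cj (nat_lit 0x25) (nat_lit 1) (nat_lit 0x1) (.lf (nat_lit 0x100db60004d000410117a0000a000eb0002b015a60299b00001037d7288b500003)))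
 (.cj (nat_lit 0x25) (nat_lit 1) (nat_lit 0x1) (.lf (nat_lit 0x107bb700db600db900dba0117a0109e0000e000ff041b000032038163c24b00001)))
 (.cj (nat_lit 0x25) (nat_lit 1) (nat_lit 0x1) (.lf (nat_lit 0x107bb700db60006b00ff20006f011790001b017c300f1c02eaa2735200003))))))))
 (.cj (nat_lit 0x29) (nat_lit 2) (nat_lit 0x5cb) (.cj (nat_lit 0x98c4) (nat_lit 2) (nat_lit 0xbdcc) (.cj (nat_lit 0x25) (nat_lit 1) (nat_lit 0x2f7b9cd) (.pw (nat_lit 1) (nat_lit 0x5ce)))))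
 (.cj (nat_lit 0x29) (nat_lit 2) (nat_lit 0x5cb) (.cj (nat_lit 0xa4c3) (nat_lit 2) (nat_lit 0x5ed) (.cj (nat_lit 0x25) (nat_lit 2) (nat_lit 0xb9ad) (.pw (nat_lit 1) (nat_lit 0x17bdce)))))))]
theorem hj16 : jobsChk 3 16 T pb (lf3 F24.cd om T gb 16 reps) js16 = true := by decide +kernel

noncomputable def js17 : List Job := [([nat_lit 7, nat_lit 7, nat_lit 6, nat_lit 3, nat_lit 2, nat_lit 2, nat_lit 1], nat_lit 8, .cj (nat_lit 0x24) (nat_lit 1) (nat_lit 0xbd8b52929) (.s3 (.cj (nat_lit 0x28) (nat_lit 2) (nat_lit 0xb9cb) (.s3 (.s3 (.s3 (.s3 (.cj (nat_lit 0x25) (nat_lit 1) (nat_lit 0x1) (.lf (nat_lit 0x10004d000690109d00ff00000e012ec028b700001027e62cd5100002)))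
 (.cj (nat_lit 0x25) (nat_lit 1) (nat_lit 0x1) (.lf (nat_lit 0x100db600db70006b00dbb000420109d0006d00079015a307b2c000240629a3383800001)))
 (.cj (nat_lit 0x25) (nat_lit 1) (nat_lit 0x1) (.lf (nat_lit 0x10004d00025000a60000d0105c00045020af07b97054a73126300002))))
 (.s3 (.cj (nat_lit 0x25) (nat_lit 1) (nat_lit 0x1) (.lf (nat_lit 0x100db90004d00042000270002c0014202ec10003b01473002b610fdb00003)))
 (.cj (nat_lit 0x25) (nat_lit 1) (nat_lit 0x1) (.lf (nat_lit 0x10006b00025010580002d0159c07b0f0002004524137de00001)))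
 (.cj (nat_lit 0x25) (nat_lit 1) (nat_lit 0x1) (.lf (nat_lit 0x10002e00db600db90006c0001a00ff30000b016310785c00011020333c89a00001))))
 (.s3 (.cj (nat_lit 0x25) (nat_lit 1) (nat_lit 0x1) (.lf (nat_lit 0x10002e0004d00dbb0002500ff20013a0000600fb9016d00169e0cc1200003)))
 (.cj (nat_lit 0x25) (nat_lit 1) (nat_lit 0x1) (.lf (nat_lit 0x100db70004d0006900026011c700017013e707b7500000020220ece200003)))
 (.cj (nat_lit 0x25) (nat_lit 1) (nat_lit 0x1) (.lf (nat_lit 0x107bb700db70006b00dba0001a0109e000060013e0498b0001302a971bcc300002)))))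
 (.cj (nat_lit 0x4c3) (nat_lit 2) (nat_lit 0xbdee) (.s3 (.cj (nat_lit 0x25) (nat_lit 2) (nat_lit 0x1) (.lf (nat_lit 0x100db900db800ff200fbe0001801d3007a90000120477b085a400003)))
 (.cj (nat_lit 0x25) (nat_lit 2) (nat_lit 0x1) (.lf (nat_lit 0x100db900dbb0006a0001a00f6a010a303a05000000777d002b60d31500003)))
 (.cj (nat_lit 0x25) (nat_lit 2) (nat_lit 0x1) (.lf (nat_lit 0x10002e00db7000410001a0109e000450129307b5000003070370a0c207bb900003)))))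
 (.cj (nat_lit 0x4c3) (nat_lit 1) (nat_lit 0x5ce) (.s3 (.cj (nat_lit 0x2a) (nat_lit 1) (nat_lit 0x1) (.lf (nat_lit 0x100db7000690006b00dbd000ea00045012eb02a0103a0e1b6c300003)))
 (.cj (nat_lit 0x2a) (nat_lit 1) (nat_lit 0x1) (.lf (nat_lit 0x10002e00db600db700db8000250002f010580002b041e30001c03bd92ffc300003)))
 (.cj (nat_lit 0x2a) (nat_lit 1) (nat_lit 0x1) (.lf (nat_lit 0x100db800025010a00004e000f200005017b9039b900009039c522aef00003))))))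
 (.cj (nat_lit 0x4c3) (nat_lit 2) (nat_lit 0x5ce) (.s3 (.s3 (.cj (nat_lit 0x25) (nat_lit 2) (nat_lit 0x1) (.lf (nat_lit 0x1000690006b00025011c70004c01220035bb0000104ea543ea300001)))
 (.cj (nat_lit 0x25) (nat_lit 2) (nat_lit 0x1) (.lf (nat_lit 0x10002e0004d00db8000410109d00044011790000b010dc002b4006c91aef000003)))
 (.cj (nat_lit 0x25) (nat_lit 2) (nat_lit 0x1) (.lf (nat_lit 0x10002500ff20006e0102300017011c903d270002104c253896500003))))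
 (.s3 (.cj (nat_lit 0x25) (nat_lit 2) (nat_lit 0x1) (.lf (nat_lit 0x107bb700db90004d00069000420006f011220007d00f8f07bb00000306c1f1763c00001)))
 (.cj (nat_lit 0x25) (nat_lit 2) (nat_lit 0x1) (.lf (nat_lit 0x100db70004d00dbb00dba0006d0109f0000500ff802e3f00012070d827e8600001)))
 (.cj (nat_lit 0x25) (nat_lit 2) (nat_lit 0x1) (.lf (nat_lit 0x100db90004d00dbb00dbd0000d0013a0001903af80003305cf838e4a07bb900003))))
 (.s3 (.cj (nat_lit 0x25) (nat_lit 2) (nat_lit 0x1) (.lf (nat_lit 0x10004d0004100ff2000a700f6a00017015a6026550001c0130619a1a00003)))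
 (.cj (nat_lit 0x25) (nat_lit 2) (nat_lit 0x1) (.lf (nat_lit 0x10002e00db600db90006b00025000a6011790000b01d38041b00000f034cf0956f00003)))
 (.cj (nat_lit 0x25) (nat_lit 2) (nat_lit 0x1) (.lf (nat_lit 0x10004d000690006a000a80128f000720128d0284e000000407e347ce00003))))))
 (.cj (nat_lit 0x4c3) (nat_lit 1) (nat_lit 0xbdee) (.s3 (.s3 (.cj (nat_lit 0x2a) (nat_lit 2) (nat_lit 0x1) (.lf (nat_lit 0x100db90004d00db800dbd0002f00f6a0004b017c10249204aa239f3b00003)))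
 (.cj (nat_lit 0x2a) (nat_lit 2) (nat_lit 0x1) (.lf (nat_lit 0x10006b00dbb00041010a00001a011c700070013f207b1a00010065023896500003)))
 (.cj (nat_lit 0x2a) (nat_lit 2) (nat_lit 0x1) (.lf (nat_lit 0x1000250006f011cb0010002fa70002307a8b25fb400001))))
 (.s3 (.cj (nat_lit 0x2a) (nat_lit 2) (nat_lit 0x1) (.lf (nat_lit 0x100db700069000410004e0118107b85000000071146d3007bb900003)))
 (.cj (nat_lit 0x2a) (nat_lit 2) (nat_lit 0x1) (.lf (nat_lit 0x100db70004d00db8000420109d000eb00dbc00002013f0079b7079b13a28307bb900000)))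
 (.cj (nat_lit 0x2a) (nat_lit 2) (nat_lit 0x1) (.lf (nat_lit 0x10002e0006b00dbb000a60007c00f6a0122207ad4000010077f3b13300003))))
 (.s3 (.cj (nat_lit 0x2a) (nat_lit 2) (nat_lit 0x1) (.lf (nat_lit 0x10002e00db900db8000420000d000b2012940193e00035053dc2349900002)))
 (.cj (nat_lit 0x2a) (nat_lit 2) (nat_lit 0x1) (.lf (nat_lit 0x100db90004d00dbb00dba010a00000d000260002c014620236c0000f06cba30e9a00003)))
 (.cj (nat_lit 0x2a) (nat_lit 2) (nat_lit 0x1) (.lf (nat_lit 0x100dbb0002f00dbc0001b0013f07b5f0001404e1a2602e00003))))))))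
 (.cj (nat_lit 0x29) (nat_lit 2) (nat_lit 0xb9cb) (.cj (nat_lit 0x98c4) (nat_lit 2) (nat_lit 0x5cc) (.cj (nat_lit 0x25) (nat_lit 1) (nat_lit 0xb9cd) (.pw (nat_lit 1) (nat_lit 0xbdce)))))
 (.cj (nat_lit 0x29) (nat_lit 2) (nat_lit 0xb9cb) (.cj (nat_lit 0xa4c3) (nat_lit 2) (nat_lit 0xbdec) (.cj (nat_lit 0x25) (nat_lit 2) (nat_lit 0x17b9ad) (.pw (nat_lit 1) (nat_lit 0xbdce))))))),
 ([nat_lit 6, nat_lit 6, nat_lit 3, nat_lit 2, nat_lit 2, nat_lit 1], nat_lit 7, .s3 (.cj (nat_lit 0x23) (nat_lit 2) (nat_lit 0x17bdce6b18a) (.cj (nat_lit 0x4c3) (nat_lit 2) (nat_lit 0x17bdce6316a) (.cj (nat_lit 0x28) (nat_lit 2) (nat_lit 0x17b9ac) (.pw (nat_lit 2) (nat_lit 0x17b58c)))))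
 (.cj (nat_lit 0x23) (nat_lit 2) (nat_lit 0x5ca) (.cj (nat_lit 0x4c3) (nat_lit 2) (nat_lit 0x5ef6b56a) (.cj (nat_lit 0x28) (nat_lit 2) (nat_lit 0x1739ac) (.pw (nat_lit 2) (nat_lit 0xb58c)))))
 (.cj (nat_lit 0x23) (nat_lit 2) (nat_lit 0x2f6b58a) (.cj (nat_lit 0x4c3) (nat_lit 2) (nat_lit 0xbdee6b16a) (.cj (nat_lit 0x28) (nat_lit 2) (nat_lit 0x17bdac) (.pw (nat_lit 2) (nat_lit 0x2f7b58c)))))),
 ([nat_lit 3, nat_lit 3, nat_lit 2, nat_lit 2, nat_lit 1], nat_lit 4, .cj (nat_lit 0x21) (nat_lit 2) (nat_lit 0x17bdce624c6) (.cj (nat_lit 0x20) (nat_lit 2) (nat_lit 0xb9694a0e7) (.s3 (.s3 (.cj (nat_lit 0x24) (nat_lit 2) (nat_lit 0x17b18b5a929) (.cj (nat_lit 0x4c4) (nat_lit 2) (nat_lit 0x17b5ac) (.cj (nat_lit 0x25) (nat_lit 1) (nat_lit 0x5cb) (.s3 (.cj (nat_lit 0x27) (nat_lit 2) (nat_lit 0x2e) (.pw (nat_lit 2) (nat_lit 0x5ce)))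
 (.cj (nat_lit 0x27) (nat_lit 2) (nat_lit 0x2e) (.cj (nat_lit 0x29) (nat_lit 2) (nat_lit 0x5ef) (.cj (nat_lit 0x589) (nat_lit 1) (nat_lit 0x2f) (.cj (nat_lit 0x2d) (nat_lit 1) (nat_lit 0x1) (.lf (nat_lit 0x107bb70002e00db90006b00041010a00006f011220000e0159a000bc00003037ac40cdd00003))))))
 (.cj (nat_lit 0x27) (nat_lit 2) (nat_lit 0x2e) (.pw (nat_lit 1) (nat_lit 0x2e)))))))
 (.cj (nat_lit 0x26) (nat_lit 1) (nat_lit 0x5ac62d4a) (.cj (nat_lit 0x4c3) (nat_lit 2) (nat_lit 0x5ef7396a) (.cj (nat_lit 0x25) (nat_lit 1) (nat_lit 0xbdcb) (.s3 (.cj (nat_lit 0x27) (nat_lit 2) (nat_lit 0x2e) (.pw (nat_lit 1) (nat_lit 0x2e)))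
 (.cj (nat_lit 0x27) (nat_lit 2) (nat_lit 0x2e) (.pw (nat_lit 2) (nat_lit 0x5ce)))
 (.cj (nat_lit 0x27) (nat_lit 2) (nat_lit 0x2e) (.cj (nat_lit 0x29) (nat_lit 2) (nat_lit 0x1) (.cj (nat_lit 0x589) (nat_lit 1) (nat_lit 0x5ef) (.cj (nat_lit 0x2d) (nat_lit 1) (nat_lit 0x1) (.lf (nat_lit 0x1000690006b0004100ff20000a000a800002013ee0109105e8348e3e00004))))))))))
 (.cj (nat_lit 0x23) (nat_lit 2) (nat_lit 0x17bdac52929) (.cj (nat_lit 0x4c4) (nat_lit 2) (nat_lit 0x2e735ac) (.cj (nat_lit 0x25) (nat_lit 1) (nat_lit 0x17bdcb) (.s3 (.cj (nat_lit 0x27) (nat_lit 2) (nat_lit 0x2e) (.cj (nat_lit 0x29) (nat_lit 2) (nat_lit 0x2f) (.cj (nat_lit 0x589) (nat_lit 1) (nat_lit 0x1) (.cj (nat_lit 0x2d) (nat_lit 1) (nat_lit 0x1) (.lf (nat_lit 0x10002e00db90004d00db80006a0004e010250007b014e907aa0000330245e49f3200004))))))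
 (.cj (nat_lit 0x27) (nat_lit 2) (nat_lit 0x2e) (.pw (nat_lit 1) (nat_lit 0x2e)))
 (.cj (nat_lit 0x27) (nat_lit 2) (nat_lit 0x2e) (.pw (nat_lit 2) (nat_lit 0x5ce))))))))
 (.s3 (.cj (nat_lit 0x23) (nat_lit 2) (nat_lit 0x1735ab5a949) (.cj (nat_lit 0x4c4) (nat_lit 2) (nat_lit 0x5eb) (.pw (nat_lit 2) (nat_lit 0x2f7b98c))))
 (.cj (nat_lit 0x26) (nat_lit 1) (nat_lit 0x5ac62d4a) (.cj (nat_lit 0x4c4) (nat_lit 2) (nat_lit 0x17bdcb) (.pw (nat_lit 2) (nat_lit 0xbdee6b58c))))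
 (.cj (nat_lit 0x24) (nat_lit 2) (nat_lit 0xbded62929) (.cj (nat_lit 0x4c4) (nat_lit 2) (nat_lit 0xb9cb) (.pw (nat_lit 2) (nat_lit 0x5ef7358c)))))
 (.s3 (.cj (nat_lit 0x23) (nat_lit 2) (nat_lit 0x2e6b14a) (.cj (nat_lit 0x4c4) (nat_lit 2) (nat_lit 0x2d6316b) (.pw (nat_lit 1) (nat_lit 0x5ef6b16b))))
 (.cj (nat_lit 0x26) (nat_lit 1) (nat_lit 0x5ac62d4a) (.cj (nat_lit 0x4c4) (nat_lit 2) (nat_lit 0xbdcd6316b) (.pw (nat_lit 1) (nat_lit 0x5ef7316b))))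
 (.cj (nat_lit 0x23) (nat_lit 2) (nat_lit 0x5ee7354a) (.cj (nat_lit 0x4c4) (nat_lit 2) (nat_lit 0x2f7b9cd6316b) (.pw (nat_lit 1) (nat_lit 0x2f7b9cd6b16b))))))))]
theorem hj17 : jobsChk 3 16 T pb (lf3 F24.cd om T gb 16 reps) js17 = true := by decide +kernel


end Cfsg.Agent.Fi.Q24b
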