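import Cfsg.Agent.Fi.Q24br

set_option autoImplicit false
set_option maxRecDepth 100000
set_option Elab.async false

namespace Cfsg.Agent.Fi.Q24b

open Cfsg.Agent.FM Cfsg.Agent.Fi
open Cfsg.Agent.M24 (nall lall)

noncomputable def js18 : List Job := [([nat_lit 2], nat_lit 3, .s3 (.cj (nat_lit 0x23) (nat_lit 2) (nat_lit 0x2f7b9ac62d68) (.cj (nat_lit 0x20) (nat_lit 1) (nat_lit 0xbdee5ad47) (.cj (nat_lit 0x21) (nat_lit 1) (nat_lit 0x5ab4a508) (.cj (nat_lit 0x25) (nat_lit 1) (nat_lit 0x5ef72d6a) (.pw (nat_lit 2) (nat_lit 0x17b98c5a929))))))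
 (.cj (nat_lit 0x22) (nat_lit 1) (nat_lit 0x16b18b) (.cj (nat_lit 0x20) (nat_lit 1) (nat_lit 0x2d62d6a4a107) (.cj (nat_lit 0x461) (nat_lit 1) (nat_lit 0x2f6b168) (.cj (nat_lit 0x25) (nat_lit 1) (nat_lit 0x2f7394a) (.cj (nat_lit 0x24) (nat_lit 1) (nat_lit 0x17b989) (.pw (nat_lit 1) (nat_lit 0x2d6ad4a)))))))
 (.cj (nat_lit 0x22) (nat_lit 2) (nat_lit 0x17bdac62d68) (.cj (nat_lit 0x20) (nat_lit 1) (nat_lit 0x2f7b9cd6314a4a507) (.cj (nat_lit 0x8c61) (nat_lit 1) (nat_lit 0x2e6b56b52508) (.cj (nat_lit 0x25) (nat_lit 1) (nat_lit 0x2e735ab) (.cj (nat_lit 0x24) (nat_lit 2) (nat_lit 0x5ef6ad49) (.s3 (.cj (nat_lit 0x29) (nat_lit 1) (nat_lit 0xb9ad6316b) (.cj (nat_lit 0x2a) (nat_lit 1) (nat_lit 0x17b98c) (.cj (nat_lit 0x152528) (nat_lit 2) (nat_lit 0x1739ad) (.s3 (.cj (nat_lit 0x2b) (nat_lit 2) (nat_lit 0x1) (.pw (nat_lit 1) (nat_lit 0x1)))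
 (.cj (nat_lit 0x2b) (nat_lit 2) (nat_lit 0x1) (.pw (nat_lit 2) (nat_lit 0x1)))
 (.cj (nat_lit 0x2b) (nat_lit 2) (nat_lit 0x1) (.cj (nat_lit 0x2e) (nat_lit 1) (nat_lit 0x1) (.lf (nat_lit 0x100db600db90004d00dba000a700f6a0000200dce018480000706f3e32d8300003))))))))
 (.cj (nat_lit 0x28) (nat_lit 1) (nat_lit 0x2f6b58b) (.pw (nat_lit 1) (nat_lit 0x5ce6b58c)))
 (.cj (nat_lit 0x28) (nat_lit 1) (nat_lit 0xbdcb) (.pw (nat_lit 2) (nat_lit 0x2f7b5ac)))))))))),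
 ([nat_lit 3], nat_lit 4, .cj (nat_lit 0x21) (nat_lit 1) (nat_lit 0xb5a8) (.s3 (.s3 (.s3 (.cj (nat_lit 0x24) (nat_lit 1) (nat_lit 0xb9cd) (.cj (nat_lit 0x26) (nat_lit 1) (nat_lit 0xb5aa) (.cj (nat_lit 0x25) (nat_lit 1) (nat_lit 0xb9ac) (.s3 (.cj (nat_lit 0x27) (nat_lit 2) (nat_lit 0x1) (.pw (nat_lit 1) (nat_lit 0x1)))
 (.cj (nat_lit 0x27) (nat_lit 2) (nat_lit 0x1) (.pw (nat_lit 2) (nat_lit 0x1)))
 (.cj (nat_lit 0x27) (nat_lit 2) (nat_lit 0x1) (.cj (nat_lit 0x28) (nat_lit 1) (nat_lit 0x1) (.cj (nat_lit 0x52931880) (nat_lit 2) (nat_lit 0x1) (.cj (nat_lit 0xa52420841) (nat_lit 1) (nat_lit 0x1) (.lf (nat_lit 0x10002e0006b00dbd0000d0109f000050014201b070001301728468f200004))))))))))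
 (.cj (nat_lit 0x24) (nat_lit 1) (nat_lit 0x17bdcd) (.cj (nat_lit 0x26) (nat_lit 1) (nat_lit 0x2e735aa) (.cj (nat_lit 0x29) (nat_lit 1) (nat_lit 0x5cd) (.s3 (.cj (nat_lit 0x23) (nat_lit 1) (nat_lit 0x1) (.cj (nat_lit 0x28) (nat_lit 1) (nat_lit 0x1) (.s3 (.cj (nat_lit 0x2c6252420841) (nat_lit 1) (nat_lit 0x1) (.lf (nat_lit 0x107bb700db600db70006b00db8000a60004901022039b106d4f0a4c300003)))
 (.cj (nat_lit 0x2c6252420841) (nat_lit 2) (nat_lit 0x1) (.lf (nat_lit 0x100db80004100ff20000a000a80007100efb02e360001001ca22017e00003)))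
 (.s3 (.lf (nat_lit 0x107bb70002e00db70004d000690006d0007c000280007d0327604dda3549100003))
 (.lf (nat_lit 0x100db600db700dbb010a00006e0117b0004700ff8029e80000703e5e1035700003))
 (.lf (nat_lit 0x10002e00db600db70004d00db80006a010580002a01a4107af40000005ecf35ac000000))))))
 (.cj (nat_lit 0x27) (nat_lit 2) (nat_lit 0x1) (.pw (nat_lit 1) (nat_lit 0x1)))
 (.cj (nat_lit 0x27) (nat_lit 2) (nat_lit 0x1) (.pw (nat_lit 2) (nat_lit 0x1)))))))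
 (.cj (nat_lit 0x24) (nat_lit 1) (nat_lit 0x5ed) (.cj (nat_lit 0x26) (nat_lit 1) (nat_lit 0x1735aa) (.cj (nat_lit 0x29) (nat_lit 1) (nat_lit 0x17b9cd) (.s3 (.cj (nat_lit 0x23) (nat_lit 2) (nat_lit 0x1) (.pw (nat_lit 2) (nat_lit 0x1)))
 (.cj (nat_lit 0x27) (nat_lit 2) (nat_lit 0x1) (.cj (nat_lit 0x28) (nat_lit 1) (nat_lit 0x1) (.cj (nat_lit 0x52931880) (nat_lit 1) (nat_lit 0x1) (.cj (nat_lit 0xb18b5a525) (nat_lit 1) (nat_lit 0x1) (.lf (nat_lit 0x10002e00db7000420117a0007c00fbe0002900ff90249a00009078b72232d00004))))))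
 (.cj (nat_lit 0x27) (nat_lit 2) (nat_lit 0x1) (.pw (nat_lit 1) (nat_lit 0x1))))))))
 (.cj (nat_lit 0x20) (nat_lit 2) (nat_lit 0x5ee6316a52508) (.cj (nat_lit 0x24) (nat_lit 1) (nat_lit 0xbded6b18b) (.cj (nat_lit 0x26) (nat_lit 1) (nat_lit 0xb5aa) (.pw (nat_lit 1) (nat_lit 0x5cd6316b)))))
 (.cj (nat_lit 0x20) (nat_lit 1) (nat_lit 0x17bdce6b18a52508) (.cj (nat_lit 0x24) (nat_lit 1) (nat_lit 0x17316b) (.cj (nat_lit 0x23) (nat_lit 1) (nat_lit 0xb5aa) (.pw (nat_lit 2) (nat_lit 0x2e6b16b))))))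
 (.s3 (.s3 (.cj (nat_lit 0x24) (nat_lit 1) (nat_lit 0x17b58b) (.cj (nat_lit 0x480) (nat_lit 1) (nat_lit 0x2f7ad4a) (.cj (nat_lit 0x25) (nat_lit 1) (nat_lit 0xb9ac) (.s3 (.cj (nat_lit 0x27) (nat_lit 2) (nat_lit 0x5ef) (.cj (nat_lit 0x2a) (nat_lit 1) (nat_lit 0x5ef) (.cj (nat_lit 0x16312931880) (nat_lit 2) (nat_lit 0x2f) (.cj (nat_lit 0x163167) (nat_lit 2) (nat_lit 0x1) (.lf (nat_lit 0x100db60004d00069000410000d000260121e0025300011054a745f4f00004))))))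
 (.cj (nat_lit 0x27) (nat_lit 2) (nat_lit 0x5ef) (.pw (nat_lit 1) (nat_lit 0x5ef)))
 (.cj (nat_lit 0x27) (nat_lit 2) (nat_lit 0x5ef) (.pw (nat_lit 2) (nat_lit 0x2f)))))))
 (.cj (nat_lit 0x24) (nat_lit 1) (nat_lit 0x2e7358b) (.cj (nat_lit 0x26) (nat_lit 1) (nat_lit 0x5ed6b16a) (.cj (nat_lit 0x23) (nat_lit 2) (nat_lit 0x1739ad) (.s3 (.cj (nat_lit 0x27) (nat_lit 2) (nat_lit 0x5ef) (.pw (nat_lit 2) (nat_lit 0x2f)))
 (.cj (nat_lit 0x27) (nat_lit 2) (nat_lit 0x5ef) (.cj (nat_lit 0x2a) (nat_lit 1) (nat_lit 0x5ef) (.s3 (.cj (nat_lit 0x15ad23) (nat_lit 1) (nat_lit 0x1) (.lf (nat_lit 0x100069010a00000a0006f000ab01222021e6000510163648e4100001)))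
 (.cj (nat_lit 0x15ad23) (nat_lit 1) (nat_lit 0x1) (.lf (nat_lit 0x10002e0004d00db8000420117a011260001800f720014b00007015b92e61800003)))
 (.cj (nat_lit 0x15ad23) (nat_lit 1) (nat_lit 0x1) (.lf (nat_lit 0x100db6000690006b000250001a0006f00002015ab02bf200010062e02492c00003))))))
 (.cj (nat_lit 0x27) (nat_lit 2) (nat_lit 0x5ef) (.pw (nat_lit 1) (nat_lit 0x5ef)))))))
 (.cj (nat_lit 0x24) (nat_lit 1) (nat_lit 0x5ef7358b) (.cj (nat_lit 0x480) (nat_lit 1) (nat_lit 0x2e72d4a) (.cj (nat_lit 0x29) (nat_lit 1) (nat_lit 0x16b58c) (.s3 (.cj (nat_lit 0x27) (nat_lit 2) (nat_lit 0x5ef) (.pw (nat_lit 1) (nat_lit 0x5ef)))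
 (.cj (nat_lit 0x27) (nat_lit 2) (nat_lit 0x5ef) (.pw (nat_lit 2) (nat_lit 0x2f)))
 (.cj (nat_lit 0x27) (nat_lit 2) (nat_lit 0x5ef) (.cj (nat_lit 0x2a) (nat_lit 1) (nat_lit 0x5ef) (.cj (nat_lit 0x16312931880) (nat_lit 1) (nat_lit 0x2f) (.cj (nat_lit 0x163167) (nat_lit 2) (nat_lit 0x1) (.lf (nat_lit 0x100db900db8000420007c00dbf0001b0129607b75018344452700004)))))))))))
 (.cj (nat_lit 0x20) (nat_lit 2) (nat_lit 0x2f7b9cd6b16a52508) (.cj (nat_lit 0x24) (nat_lit 1) (nat_lit 0x5ee6b56b) (.cj (nat_lit 0x23) (nat_lit 2) (nat_lit 0xbdee6ad6a) (.pw (nat_lit 1) (nat_lit 0x17bdce6316b)))))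
 (.cj (nat_lit 0x20) (nat_lit 1) (nat_lit 0x17bd8a52508) (.cj (nat_lit 0x24) (nat_lit 1) (nat_lit 0x17398c) (.cj (nat_lit 0x23) (nat_lit 1) (nat_lit 0x17b5ac) (.pw (nat_lit 2) (nat_lit 0xb16b))))))
 (.s3 (.s3 (.cj (nat_lit 0x20) (nat_lit 2) (nat_lit 0x2b5a949) (.cj (nat_lit 0x480) (nat_lit 1) (nat_lit 0x17b9ad5ad4a) (.cj (nat_lit 0x23) (nat_lit 1) (nat_lit 0xb9ac) (.s3 (.cj (nat_lit 0x27) (nat_lit 2) (nat_lit 0x2f) (.pw (nat_lit 2) (nat_lit 0x5ef)))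
 (.cj (nat_lit 0x28) (nat_lit 1) (nat_lit 0x1) (.cj (nat_lit 0x2a) (nat_lit 1) (nat_lit 0x2f) (.cj (nat_lit 0xb12931880) (nat_lit 2) (nat_lit 0x2f) (.cj (nat_lit 0xa525) (nat_lit 2) (nat_lit 0x1) (.lf (nat_lit 0x100db600db90004d0006c0000a00fbc0000c016dd0157607b0743ac700004))))))
 (.cj (nat_lit 0x27) (nat_lit 2) (nat_lit 0x2f) (.pw (nat_lit 1) (nat_lit 0x2f)))))))
 (.cj (nat_lit 0x24) (nat_lit 1) (nat_lit 0x2d6316b) (.cj (nat_lit 0x26) (nat_lit 1) (nat_lit 0x2f735ac62d6a) (.cj (nat_lit 0x29) (nat_lit 1) (nat_lit 0xbdec) (.s3 (.cj (nat_lit 0x27) (nat_lit 2) (nat_lit 0x2f) (.pw (nat_lit 1) (nat_lit 0x2f)))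
 (.cj (nat_lit 0x27) (nat_lit 2) (nat_lit 0x2f) (.pw (nat_lit 2) (nat_lit 0x5ef)))
 (.cj (nat_lit 0x28) (nat_lit 1) (nat_lit 0x1) (.cj (nat_lit 0x2a) (nat_lit 1) (nat_lit 0x2f) (.s3 (.cj (nat_lit 0x15a523) (nat_lit 2) (nat_lit 0x1) (.lf (nat_lit 0x107bb70002e00db60006b00db80109d0000d0187503d370001002049002b63920f00003)))
 (.cj (nat_lit 0x15a523) (nat_lit 2) (nat_lit 0x1) (.lf (nat_lit 0x100db600069010a00001a0004300006017c900063008f131d5c00001)))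
 (.cj (nat_lit 0x15a523) (nat_lit 2) (nat_lit 0x1) (.lf (nat_lit 0x100db900dbb000410109d0000d000a70001800fb902098000000662d11e0b00003))))))))))
 (.cj (nat_lit 0x20) (nat_lit 2) (nat_lit 0x5cb5a949) (.cj (nat_lit 0x26) (nat_lit 1) (nat_lit 0x17b5ac62d6a) (.cj (nat_lit 0x29) (nat_lit 1) (nat_lit 0x5cc) (.s3 (.cj (nat_lit 0x28) (nat_lit 1) (nat_lit 0x1) (.cj (nat_lit 0x2a) (nat_lit 1) (nat_lit 0x2f) (.cj (nat_lit 0xb12931880) (nat_lit 1) (nat_lit 0x2f) (.cj (nat_lit 0xa525) (nat_lit 1) (nat_lit 0x1) (.lf (nat_lit 0x100db60004d00db8000410006f010d9000020187502fe200037036394acc407bb900004))))))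
 (.cj (nat_lit 0x27) (nat_lit 2) (nat_lit 0x2f) (.pw (nat_lit 1) (nat_lit 0x2f)))
 (.cj (nat_lit 0x27) (nat_lit 2) (nat_lit 0x2f) (.pw (nat_lit 2) (nat_lit 0x5ef))))))))
 (.cj (nat_lit 0x20) (nat_lit 2) (nat_lit 0x17b56a52508) (.cj (nat_lit 0x24) (nat_lit 1) (nat_lit 0xbdee735ac) (.cj (nat_lit 0x8841) (nat_lit 2) (nat_lit 0x5ce) (.pw (nat_lit 1) (nat_lit 0x5ad6316b)))))
 (.cj (nat_lit 0x20) (nat_lit 1) (nat_lit 0x1735aa52508) (.cj (nat_lit 0x24) (nat_lit 1) (nat_lit 0xbdeb) (.cj (nat_lit 0x23) (nat_lit 1) (nat_lit 0xbdad6314a) (.pw (nat_lit 2) (nat_lit 0x2f7b9cd6b16b))))))))]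
theorem hj18 : jobsChk 3 16 T pb (lf3 F24.cd om T gb 16 reps) js18 = true := by decide +kernel

noncomputable def js19 : List Job := [([nat_lit 4], nat_lit 6, .s3 (.s3 (.cj (nat_lit 0x23) (nat_lit 2) (nat_lit 0x1739ad) (.cj (nat_lit 0x22) (nat_lit 2) (nat_lit 0x17b96b) (.s3 (.cj (nat_lit 0x29) (nat_lit 2) (nat_lit 0xb5ac) (.cj (nat_lit 0x2a) (nat_lit 1) (nat_lit 0x5ef) (.cj (nat_lit 0x28) (nat_lit 1) (nat_lit 0x2e) (.pw (nat_lit 1) (nat_lit 0x1)))))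
 (.cj (nat_lit 0x26) (nat_lit 2) (nat_lit 0x5ac) (.cj (nat_lit 0x24) (nat_lit 2) (nat_lit 0x2f) (.s3 (.cj (nat_lit 0x27) (nat_lit 1) (nat_lit 0x1) (.cj (nat_lit 0xa920) (nat_lit 1) (nat_lit 0x1) (.lf (nat_lit 0x100db600db9000690006b000a6000eb0000e0014700e7d00e2f002b70f3ba00003))))
 (.cj (nat_lit 0x27) (nat_lit 1) (nat_lit 0x1) (.s3 (.lf (nat_lit 0x107bb700db90004d00069011790007200f4001c360000302f70491d300000))
 (.lf (nat_lit 0x100db90006b000a800f6a000aa01d3100298029542604d00003))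
 (.lf (nat_lit 0x107bb70002e00db600db70004d00ff00004901a41026420001e03e0040fac00003))))
 (.cj (nat_lit 0x27) (nat_lit 1) (nat_lit 0x1) (.cj (nat_lit 0xa920) (nat_lit 2) (nat_lit 0x1) (.lf (nat_lit 0x107bb700db600069000420109d011c700f8f0120a0003a0742e1b0dd00003)))))))
 (.cj (nat_lit 0x29) (nat_lit 2) (nat_lit 0x5ec) (.cj (nat_lit 0x24) (nat_lit 1) (nat_lit 0x5ef) (.cj (nat_lit 0x28) (nat_lit 2) (nat_lit 0x2e) (.pw (nat_lit 2) (nat_lit 0x1))))))))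
 (.cj (nat_lit 0x23) (nat_lit 2) (nat_lit 0xb9ac) (.cj (nat_lit 0x22) (nat_lit 2) (nat_lit 0x17bdcd6b16b) (.s3 (.cj (nat_lit 0x20) (nat_lit 1) (nat_lit 0xbdcc) (.cj (nat_lit 0x2a) (nat_lit 1) (nat_lit 0x1) (.cj (nat_lit 0x28) (nat_lit 1) (nat_lit 0x5ce) (.pw (nat_lit 1) (nat_lit 0x1)))))
 (.cj (nat_lit 0x25) (nat_lit 2) (nat_lit 0xb9cd) (.cj (nat_lit 0x2a) (nat_lit 1) (nat_lit 0x1) (.s3 (.cj (nat_lit 0x27) (nat_lit 1) (nat_lit 0x1) (.cj (nat_lit 0xb121) (nat_lit 2) (nat_lit 0x1) (.lf (nat_lit 0x107bb700db6000420109d000270002f0000b012940178c00000030f122ae700001))))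
 (.cj (nat_lit 0x27) (nat_lit 1) (nat_lit 0x1) (.cj (nat_lit 0x521) (nat_lit 2) (nat_lit 0x1) (.lf (nat_lit 0x1000250006a0000d0117b0007a015a3021cc0796c2e65400003))))
 (.cj (nat_lit 0x27) (nat_lit 1) (nat_lit 0x1) (.cj (nat_lit 0xa920) (nat_lit 1) (nat_lit 0x1) (.lf (nat_lit 0x100db90004d00069000420006f00ff30000200f0701a280000000bca306a600003)))))))
 (.cj (nat_lit 0x20) (nat_lit 1) (nat_lit 0xb9ac) (.cj (nat_lit 0x2a) (nat_lit 1) (nat_lit 0x1) (.cj (nat_lit 0x28) (nat_lit 2) (nat_lit 0x5ce) (.pw (nat_lit 2) (nat_lit 0x1))))))))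
 (.cj (nat_lit 0x23) (nat_lit 2) (nat_lit 0x58c) (.cj (nat_lit 0x22) (nat_lit 2) (nat_lit 0x5cd6316b) (.s3 (.cj (nat_lit 0x20) (nat_lit 1) (nat_lit 0x5ec) (.cj (nat_lit 0x2a) (nat_lit 1) (nat_lit 0x2f) (.cj (nat_lit 0x28) (nat_lit 1) (nat_lit 0x1) (.pw (nat_lit 1) (nat_lit 0x1)))))
 (.cj (nat_lit 0x26) (nat_lit 2) (nat_lit 0xb9ac) (.cj (nat_lit 0x2a) (nat_lit 1) (nat_lit 0x2f) (.s3 (.cj (nat_lit 0x27) (nat_lit 1) (nat_lit 0x1) (.cj (nat_lit 0xa920) (nat_lit 2) (nat_lit 0x1) (.lf (nat_lit 0x10002e00db600db7000690006a0006e0117b000720135b011c0042cc0931d00003))))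
 (.cj (nat_lit 0x27) (nat_lit 1) (nat_lit 0x1) (.cj (nat_lit 0xa920) (nat_lit 1) (nat_lit 0x1) (.lf (nat_lit 0x100db900041010a0000f200019017ca035720001c008af2c3af00003))))
 (.cj (nat_lit 0x27) (nat_lit 1) (nat_lit 0x1) (.cj (nat_lit 0x521) (nat_lit 1) (nat_lit 0x1) (.lf (nat_lit 0x100db70006b0006c0004e00f6a000060121e07ba500001077a23f43e00001)))))))
 (.cj (nat_lit 0x20) (nat_lit 1) (nat_lit 0x5ac) (.cj (nat_lit 0x24) (nat_lit 1) (nat_lit 0x2e) (.cj (nat_lit 0x28) (nat_lit 2) (nat_lit 0x1) (.pw (nat_lit 2) (nat_lit 0x1)))))))))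
 (.cj (nat_lit 0x20) (nat_lit 2) (nat_lit 0xb5ac) (.cj (nat_lit 0x22) (nat_lit 1) (nat_lit 0x17316b) (.cj (nat_lit 0x462) (nat_lit 2) (nat_lit 0x2c) (.s3 (.cj (nat_lit 0x21) (nat_lit 2) (nat_lit 0xb98c) (.cj (nat_lit 0x505) (nat_lit 1) (nat_lit 0x2d) (.cj (nat_lit 0x29) (nat_lit 1) (nat_lit 0x5ce) (.pw (nat_lit 2) (nat_lit 0x2f)))))
 (.cj (nat_lit 0x24) (nat_lit 1) (nat_lit 0xb9ad) (.cj (nat_lit 0x504) (nat_lit 1) (nat_lit 0x1) (.cj (nat_lit 0x501) (nat_lit 1) (nat_lit 0x5ef) (.pw (nat_lit 1) (nat_lit 0x5ef)))))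
 (.cj (nat_lit 0x28) (nat_lit 2) (nat_lit 0x2c) (.cj (nat_lit 0x21) (nat_lit 2) (nat_lit 0x1) (.cj (nat_lit 0x504) (nat_lit 2) (nat_lit 0x5ee) (.cj (nat_lit 0x27) (nat_lit 2) (nat_lit 0x5ef) (.cj (nat_lit 0x2d) (nat_lit 1) (nat_lit 0x1) (.lf (nat_lit 0x10002e00db7010a0010dd00006013e7017ae05a750a63400003)))))))))))
 (.cj (nat_lit 0x20) (nat_lit 1) (nat_lit 0x5ce6b16b) (.cj (nat_lit 0x23) (nat_lit 2) (nat_lit 0x5cd6ad69) (.s3 (.s3 (.cj (nat_lit 0x28) (nat_lit 1) (nat_lit 0x58c) (.cj (nat_lit 0x521) (nat_lit 1) (nat_lit 0x5ed) (.s3 (.cj (nat_lit 0x2f718c1) (nat_lit 2) (nat_lit 0x5ef) (.cj (nat_lit 0x27) (nat_lit 1) (nat_lit 0x1) (.lf (nat_lit 0x10002e00dbb0006c0004e00fbc00018015a203545000140565b087da07bb800003))))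
 (.cj (nat_lit 0x2f718c1) (nat_lit 1) (nat_lit 0x1) (.cj (nat_lit 0x27) (nat_lit 1) (nat_lit 0x1) (.lf (nat_lit 0x10002e0006b00db800dba0004e00dbc00005011250193900000052d00951507bb800003))))
 (.s3 (.cj (nat_lit 0x27) (nat_lit 1) (nat_lit 0x1) (.lf (nat_lit 0x10004d00069000420000d010d90007d020af02061030163499b00001)))
 (.cj (nat_lit 0x27) (nat_lit 1) (nat_lit 0x1) (.lf (nat_lit 0x107bb700db700069010a00004e00fbc00016010a60356e03f512b0b000002)))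
 (.cj (nat_lit 0x27) (nat_lit 1) (nat_lit 0x1) (.lf (nat_lit 0x100db600db90004d000410004e00070010a303250000040350b0dfe600000)))))))
 (.cj (nat_lit 0x21) (nat_lit 1) (nat_lit 0x2e7358c) (.s3 (.cj (nat_lit 0xa521) (nat_lit 2) (nat_lit 0x5ce) (.s3 (.cj (nat_lit 0x2a) (nat_lit 1) (nat_lit 0x1) (.lf (nat_lit 0x10004d0006900dbd00026000ea0000200fee020b800000007d3491d500001)))
 (.cj (nat_lit 0x2a) (nat_lit 1) (nat_lit 0x1) (.lf (nat_lit 0x107bb700db90004d00dba0117a0000a0109e00028017bf01f5b00001010c83513500002)))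
 (.cj (nat_lit 0x2a) (nat_lit 1) (nat_lit 0x1) (.lf (nat_lit 0x10109d0007c0105c0002c0014003d1500008052f52681100003)))))
 (.cj (nat_lit 0xa521) (nat_lit 2) (nat_lit 0x5ee) (.cj (nat_lit 0x524) (nat_lit 1) (nat_lit 0x2f) (.cj (nat_lit 0x25) (nat_lit 1) (nat_lit 0x1) (.lf (nat_lit 0x100db90006b0006c0006f011790000b0112302bc401e911294100003)))))
 (.cj (nat_lit 0xa521) (nat_lit 2) (nat_lit 0x5ef) (.cj (nat_lit 0x526) (nat_lit 2) (nat_lit 0x1) (.cj (nat_lit 0x25) (nat_lit 2) (nat_lit 0x1) (.lf (nat_lit 0x100069000420001a000ea0001901a4e000810000003abf2f29800003)))))))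
 (.cj (nat_lit 0x26) (nat_lit 2) (nat_lit 0x5cd) (.cj (nat_lit 0x21) (nat_lit 2) (nat_lit 0xb9cd) (.cj (nat_lit 0x2930c62) (nat_lit 2) (nat_lit 0x5ef) (.s3 (.cj (nat_lit 0x27) (nat_lit 2) (nat_lit 0x1) (.lf (nat_lit 0x10002e00db700db800042000150013a000190135e01a1000023050d813d5e00003)))
 (.cj (nat_lit 0x27) (nat_lit 2) (nat_lit 0x1) (.lf (nat_lit 0x10002e00db9000690006b0117a000270117900076017ca07a540003302eab2e57000003)))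
 (.cj (nat_lit 0x27) (nat_lit 2) (nat_lit 0x1) (.lf (nat_lit 0x10004d00ff20117a0128f000050109a036d600013045750ea5900001))))))))
 (.cj (nat_lit 0x8c62) (nat_lit 2) (nat_lit 0x17b9ad) (.cj (nat_lit 0x21) (nat_lit 2) (nat_lit 0x2f) (.cj (nat_lit 0x521) (nat_lit 2) (nat_lit 0x2e) (.cj (nat_lit 0x2a) (nat_lit 1) (nat_lit 0x2f) (.pw (nat_lit 2) (nat_lit 0x1))))))
 (.cj (nat_lit 0x8c62) (nat_lit 1) (nat_lit 0x5ef739ab) (.cj (nat_lit 0x24) (nat_lit 1) (nat_lit 0xbdce) (.cj (nat_lit 0x26) (nat_lit 1) (nat_lit 0xbdee) (.cj (nat_lit 0x2a) (nat_lit 2) (nat_lit 0x2f) (.pw (nat_lit 2) (nat_lit 0x2f))))))))))]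
theorem hj19 : jobsChk 3 16 T pb (lf3 F24.cd om T gb 16 reps) js19 = true := by decide +kernel

noncomputable def js20 : List Job := [([nat_lit 5, nat_lit 4], nat_lit 6, .s3 (.cj (nat_lit 0x21) (nat_lit 2) (nat_lit 0x5ef739ad6316b) (.cj (nat_lit 0x23) (nat_lit 2) (nat_lit 0xbdce6b14a) (.cj (nat_lit 0x8841) (nat_lit 1) (nat_lit 0x5cd) (.s3 (.cj (nat_lit 0x20) (nat_lit 1) (nat_lit 0xbdee) (.cj (nat_lit 0x28) (nat_lit 2) (nat_lit 0x2f) (.cj (nat_lit 0x520) (nat_lit 1) (nat_lit 0x2e) (.cj (nat_lit 0x27) (nat_lit 1) (nat_lit 0x1) (.cj (nat_lit 0x587) (nat_lit 2) (nat_lit 0x1) (.lf (nat_lit 0x100db60004d00025000440102500017015a60015b004ec2ea0000004)))))))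
 (.cj (nat_lit 0x20) (nat_lit 1) (nat_lit 0xb9ad) (.cj (nat_lit 0x26) (nat_lit 1) (nat_lit 0x5ee) (.cj (nat_lit 0x548) (nat_lit 2) (nat_lit 0x1) (.pw (nat_lit 2) (nat_lit 0x5ef)))))
 (.cj (nat_lit 0x20) (nat_lit 1) (nat_lit 0xbdcd) (.cj (nat_lit 0x28) (nat_lit 2) (nat_lit 0x5ed) (.cj (nat_lit 0x548) (nat_lit 1) (nat_lit 0x1) (.pw (nat_lit 1) (nat_lit 0x2f)))))))))
 (.cj (nat_lit 0x20) (nat_lit 2) (nat_lit 0x1739ad) (.cj (nat_lit 0x23) (nat_lit 2) (nat_lit 0xbdce52929) (.cj (nat_lit 0x2318841) (nat_lit 1) (nat_lit 0xb14a) (.s3 (.cj (nat_lit 0x28) (nat_lit 2) (nat_lit 0xb9cd) (.cj (nat_lit 0x26) (nat_lit 2) (nat_lit 0x5ee) (.s3 (.pw (nat_lit 1) (nat_lit 0x2f))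
 (.pw (nat_lit 1) (nat_lit 0x2f))
 (.pw (nat_lit 1) (nat_lit 0x2f)))))
 (.cj (nat_lit 0x25) (nat_lit 1) (nat_lit 0x17bdad) (.cj (nat_lit 0x29) (nat_lit 2) (nat_lit 0xb9ad) (.cj (nat_lit 0x505) (nat_lit 2) (nat_lit 0x5ce) (.cj (nat_lit 0x2b) (nat_lit 2) (nat_lit 0x1) (.cj (nat_lit 0x2d) (nat_lit 1) (nat_lit 0x1) (.lf (nat_lit 0x107bb700db90004d011220000c013e4021b30000004b8c35abd00004)))))))
 (.cj (nat_lit 0x25) (nat_lit 1) (nat_lit 0x17bdad) (.cj (nat_lit 0x29) (nat_lit 2) (nat_lit 0xbdcd) (.cj (nat_lit 0x505) (nat_lit 1) (nat_lit 0x17bdce) (.pw (nat_lit 2) (nat_lit 0x5ef)))))))))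
 (.cj (nat_lit 0x20) (nat_lit 1) (nat_lit 0x5ef7356b) (.cj (nat_lit 0x23) (nat_lit 2) (nat_lit 0xbdeb5a949) (.s3 (.s3 (.cj (nat_lit 0x29) (nat_lit 1) (nat_lit 0x2e735ac) (.cj (nat_lit 0x24) (nat_lit 2) (nat_lit 0x2e) (.s3 (.cj (nat_lit 0x2918c40) (nat_lit 1) (nat_lit 0x1) (.cj (nat_lit 0x25) (nat_lit 2) (nat_lit 0x1) (.lf (nat_lit 0x10002e00db90006b00dbb010a0000150112200019012950133e0005d0525c1783100003))))
 (.s3 (.cj (nat_lit 0x25) (nat_lit 2) (nat_lit 0x1) (.lf (nat_lit 0x107bb700db70006a00026000a800005015a902bbc00008050c04a7f107bb900001)))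
 (.cj (nat_lit 0x25) (nat_lit 2) (nat_lit 0x1) (.lf (nat_lit 0x10002e0006b00dbb0117a0007c0105c00028015a4021c400062079fc21e3600003)))
 (.cj (nat_lit 0x25) (nat_lit 2) (nat_lit 0x1) (.lf (nat_lit 0x10002e00db600db90004d00dba010dd00045024eb010d20378d2c9b900002))))
 (.cj (nat_lit 0x2918c40) (nat_lit 2) (nat_lit 0x1) (.cj (nat_lit 0x25) (nat_lit 2) (nat_lit 0x1) (.lf (nat_lit 0x100dbb0006a0109d0002f00dbc00efb028550000303f1f0c6f800003)))))))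
 (.cj (nat_lit 0x29) (nat_lit 1) (nat_lit 0x1739ac) (.cj (nat_lit 0x26) (nat_lit 1) (nat_lit 0x1) (.cj (nat_lit 0x52918c40) (nat_lit 1) (nat_lit 0x2e) (.s3 (.cj (nat_lit 0x25) (nat_lit 2) (nat_lit 0x1) (.lf (nat_lit 0x10004d00db80006a0117a011790004f013ec07b390000804ab01054f00003)))
 (.cj (nat_lit 0x25) (nat_lit 2) (nat_lit 0x1) (.lf (nat_lit 0x107bb700db700dbb00042000a60000d010580004b0187401f4703bf80e28e00003)))
 (.cj (nat_lit 0x25) (nat_lit 2) (nat_lit 0x1) (.lf (nat_lit 0x100db6000690006b0006a0109d0002f00fbc011740235f0000f01e2f416a500001)))))))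
 (.cj (nat_lit 0x28) (nat_lit 1) (nat_lit 0xb9cc) (.s3 (.s3 (.cj (nat_lit 0x24) (nat_lit 2) (nat_lit 0x5ef) (.cj (nat_lit 0x25) (nat_lit 2) (nat_lit 0x1) (.lf (nat_lit 0x107bb700dbb00dba000440004e0001701182029fa0000306cac0fd6200003))))
 (.cj (nat_lit 0x26) (nat_lit 2) (nat_lit 0x2f) (.cj (nat_lit 0x25) (nat_lit 2) (nat_lit 0x1) (.lf (nat_lit 0x100db600069000eb00dbf000aa012930249a000090413b3ee2f00003))))
 (.cj (nat_lit 0x26) (nat_lit 2) (nat_lit 0x1) (.cj (nat_lit 0x25) (nat_lit 2) (nat_lit 0x1) (.lf (nat_lit 0x107bb70002e00dbb0000a0117b000aa020ae024a20001f042e712bc100001)))))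
 (.s3 (.cj (nat_lit 0x118c40) (nat_lit 2) (nat_lit 0x5ef) (.cj (nat_lit 0x24) (nat_lit 2) (nat_lit 0x1) (.lf (nat_lit 0x10006b00db8000410109d0000d0117b000450129602bb60000001e3f4113500003))))
 (.cj (nat_lit 0x118c40) (nat_lit 1) (nat_lit 0x5ef) (.cj (nat_lit 0x24) (nat_lit 2) (nat_lit 0x1) (.lf (nat_lit 0x100db600db9000a60000d0013a00002012ef0020a0001005ae0318d600003))))
 (.s3 (.cj (nat_lit 0x24) (nat_lit 2) (nat_lit 0x1) (.lf (nat_lit 0x100db700db8010a00004e00fbc0002a013ef0019a00000031be3c47400003)))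
 (.cj (nat_lit 0x24) (nat_lit 2) (nat_lit 0x1) (.lf (nat_lit 0x107bb70002e00db700dbb00dbd000440109e00149029080003203577196fc00000)))
 (.cj (nat_lit 0x24) (nat_lit 2) (nat_lit 0x1) (.lf (nat_lit 0x107bb700db900dba000a800dbc000050145d079aa0000f049f52b42300003)))))
 (.s3 (.cj (nat_lit 0x26) (nat_lit 1) (nat_lit 0x2f) (.cj (nat_lit 0x25) (nat_lit 1) (nat_lit 0x1) (.lf (nat_lit 0x1000690006b010a0000430006f00018011800194003cce4733500003))))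
 (.cj (nat_lit 0x26) (nat_lit 1) (nat_lit 0x1) (.cj (nat_lit 0x25) (nat_lit 1) (nat_lit 0x1) (.lf (nat_lit 0x100db600db70006b00dbb0002500ff20117a0004e0006e001850418b037e914a4a00003))))
 (.cj (nat_lit 0x24) (nat_lit 1) (nat_lit 0x5ef) (.cj (nat_lit 0x25) (nat_lit 1) (nat_lit 0x1) (.lf (nat_lit 0x10002e00db600db8000250000d0002600dc207a0d000080130b46a8d00001))))))))
 (.cj (nat_lit 0x118c40) (nat_lit 2) (nat_lit 0xb98b) (.cj (nat_lit 0x28) (nat_lit 1) (nat_lit 0x5ee) (.cj (nat_lit 0x526) (nat_lit 1) (nat_lit 0x2e) (.cj (nat_lit 0x2a) (nat_lit 1) (nat_lit 0x5ef) (.pw (nat_lit 2) (nat_lit 0x1))))))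
 (.cj (nat_lit 0x118c40) (nat_lit 1) (nat_lit 0xbded) (.cj (nat_lit 0x24) (nat_lit 2) (nat_lit 0x5ad) (.cj (nat_lit 0x25) (nat_lit 2) (nat_lit 0x17b9ad) (.cj (nat_lit 0x2a) (nat_lit 2) (nat_lit 0x5ef) (.pw (nat_lit 2) (nat_lit 0x5ef))))))))))]
theorem hj20 : jobsChk 3 16 T pb (lf3 F24.cd om T gb 16 reps) js20 = true := by decide +kernel

noncomputable def js21 : List Job := [([nat_lit 5, nat_lit 5, nat_lit 4], nat_lit 6, .s3 (.cj (nat_lit 0x21) (nat_lit 1) (nat_lit 0xb9ad6316b) (.cj (nat_lit 0x23) (nat_lit 2) (nat_lit 0x2e7318a) (.cj (nat_lit 0x8841) (nat_lit 1) (nat_lit 0x5ef7396a) (.s3 (.cj (nat_lit 0x20) (nat_lit 1) (nat_lit 0xbd8c) (.cj (nat_lit 0x2a) (nat_lit 1) (nat_lit 0x5ef) (.cj (nat_lit 0xa948) (nat_lit 2) (nat_lit 0xbdce) (.pw (nat_lit 2) (nat_lit 0x2f)))))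
 (.cj (nat_lit 0x25) (nat_lit 2) (nat_lit 0x2f7b9cd) (.cj (nat_lit 0x2a) (nat_lit 1) (nat_lit 0x5ef) (.cj (nat_lit 0x526) (nat_lit 1) (nat_lit 0x1) (.pw (nat_lit 1) (nat_lit 0x5ef)))))
 (.cj (nat_lit 0x20) (nat_lit 1) (nat_lit 0xb58c) (.cj (nat_lit 0x28) (nat_lit 1) (nat_lit 0x5ce) (.cj (nat_lit 0x152920) (nat_lit 2) (nat_lit 0xbdce) (.cj (nat_lit 0x27) (nat_lit 1) (nat_lit 0x1) (.cj (nat_lit 0x587) (nat_lit 1) (nat_lit 0x1) (.lf (nat_lit 0x100db70006900ff2000270013a000180146101e0c00003027a647a5100004)))))))))))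
 (.cj (nat_lit 0x20) (nat_lit 2) (nat_lit 0x5ee6b58c) (.cj (nat_lit 0x23) (nat_lit 2) (nat_lit 0x2c62929) (.cj (nat_lit 0x8c40) (nat_lit 2) (nat_lit 0x2f7358c5ad4a) (.s3 (.cj (nat_lit 0x25) (nat_lit 1) (nat_lit 0x5ad) (.cj (nat_lit 0x2a) (nat_lit 2) (nat_lit 0x5ce) (.cj (nat_lit 0x549) (nat_lit 2) (nat_lit 0xbdce) (.cj (nat_lit 0x2c) (nat_lit 1) (nat_lit 0x1) (.cj (nat_lit 0x2d) (nat_lit 1) (nat_lit 0x1) (.lf (nat_lit 0x100db600069000250000a0000d000060002a079be00e21002b648a1100004)))))))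
 (.cj (nat_lit 0x25) (nat_lit 1) (nat_lit 0x5ad) (.cj (nat_lit 0x29) (nat_lit 1) (nat_lit 0x2d) (.cj (nat_lit 0x506) (nat_lit 1) (nat_lit 0x5ee) (.pw (nat_lit 2) (nat_lit 0x1)))))
 (.cj (nat_lit 0x25) (nat_lit 1) (nat_lit 0x5ad) (.cj (nat_lit 0x29) (nat_lit 1) (nat_lit 0x2f) (.s3 (.pw (nat_lit 1) (nat_lit 0x1))
 (.pw (nat_lit 1) (nat_lit 0x1))
 (.pw (nat_lit 1) (nat_lit 0x1)))))))))
 (.cj (nat_lit 0x21) (nat_lit 1) (nat_lit 0x2d6316b) (.cj (nat_lit 0x23) (nat_lit 2) (nat_lit 0xb9cd5ad49) (.s3 (.s3 (.cj (nat_lit 0x28) (nat_lit 1) (nat_lit 0x5cd) (.cj (nat_lit 0xa524) (nat_lit 2) (nat_lit 0x5cd) (.s3 (.s3 (.cj (nat_lit 0x25) (nat_lit 1) (nat_lit 0x1) (.lf (nat_lit 0x100db8000a60000a01126000700129301a340000303df01301500002)))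
 (.cj (nat_lit 0x25) (nat_lit 1) (nat_lit 0x1) (.lf (nat_lit 0x100db600db900025000260006f0000201631018570000800ca437a8e00001)))
 (.cj (nat_lit 0x25) (nat_lit 1) (nat_lit 0x1) (.lf (nat_lit 0x107bb70004d0004e00ff30001801b0400008043c110ee600003))))
 (.cj (nat_lit 0x17bdcd6b18b4a4c618840) (nat_lit 1) (nat_lit 0x5ef) (.cj (nat_lit 0x25) (nat_lit 1) (nat_lit 0x1) (.lf (nat_lit 0x100db600db70006a0001a0117b000020013f04161045753919f00003))))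
 (.cj (nat_lit 0x17bdcd6b18b4a4c618840) (nat_lit 2) (nat_lit 0x5ef) (.cj (nat_lit 0x25) (nat_lit 1) (nat_lit 0x1) (.lf (nat_lit 0x107bb700db60004d0006a0109d0000a010230002b0007203d6c0001e0070233c2000003)))))))
 (.cj (nat_lit 0x29) (nat_lit 1) (nat_lit 0x2e) (.cj (nat_lit 0xa526) (nat_lit 1) (nat_lit 0xbdad) (.cj (nat_lit 0x2f7358b5a4c618840) (nat_lit 2) (nat_lit 0xbdee) (.s3 (.cj (nat_lit 0x25) (nat_lit 1) (nat_lit 0x1) (.lf (nat_lit 0x1000250006a00015000ea0000b0135e0361600004043eb16d4700001)))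
 (.cj (nat_lit 0x25) (nat_lit 1) (nat_lit 0x1) (.lf (nat_lit 0x100db90006b000250109d0000d01058000b201d31024bd050ab0e5e300003)))
 (.cj (nat_lit 0x25) (nat_lit 1) (nat_lit 0x1) (.lf (nat_lit 0x100db600db8010a000015011cb0002d017c101c1a0001200c502a5cc00003)))))))
 (.cj (nat_lit 0x26) (nat_lit 1) (nat_lit 0x5ad) (.s3 (.s3 (.cj (nat_lit 0xa526) (nat_lit 2) (nat_lit 0x1) (.cj (nat_lit 0x25) (nat_lit 1) (nat_lit 0x1) (.lf (nat_lit 0x100db60006900ff20006f0128f0000200ee10024000003069723aa3800001))))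
 (.cj (nat_lit 0xa524) (nat_lit 2) (nat_lit 0x2f) (.cj (nat_lit 0x25) (nat_lit 1) (nat_lit 0x1) (.lf (nat_lit 0x107bb700db600db7000a800ff00000b000450355700007055c72e29300003))))
 (.cj (nat_lit 0xa524) (nat_lit 2) (nat_lit 0x2f) (.cj (nat_lit 0x25) (nat_lit 1) (nat_lit 0x1) (.lf (nat_lit 0x100db70006900025010a000027010580007400ff800dcf00a273088100003)))))
 (.s3 (.cj (nat_lit 0x52918840) (nat_lit 1) (nat_lit 0x2f) (.cj (nat_lit 0x25) (nat_lit 2) (nat_lit 0x1) (.lf (nat_lit 0x107bb700db60006b0006a000150007c000b3016310264e0000101c562d03600003))))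
 (.cj (nat_lit 0x52918840) (nat_lit 2) (nat_lit 0x1) (.cj (nat_lit 0x25) (nat_lit 2) (nat_lit 0x1) (.lf (nat_lit 0x100db70006a0117a00027000ea0000b00fef035510000704b15360b500003))))
 (.s3 (.cj (nat_lit 0x25) (nat_lit 2) (nat_lit 0x1) (.lf (nat_lit 0x10002e00db600db90006b00dbb0006c0006e0109e00076017c501f7e04c8c360b500003)))
 (.cj (nat_lit 0x25) (nat_lit 2) (nat_lit 0x1) (.lf (nat_lit 0x107bb700db700dba010a00002f010250004f013f001cf60000904e9010c9600003)))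
 (.cj (nat_lit 0x25) (nat_lit 2) (nat_lit 0x1) (.lf (nat_lit 0x10004d00dbb0006a0117a0001a00dbc0001701a4007ae60001100f580991807bb900000)))))
 (.s3 (.cj (nat_lit 0xa526) (nat_lit 1) (nat_lit 0x1) (.cj (nat_lit 0x2b) (nat_lit 1) (nat_lit 0x1) (.lf (nat_lit 0x10006b00041010a00000a010230002d0117d028440001304d2b1d8a500003))))
 (.cj (nat_lit 0xa524) (nat_lit 1) (nat_lit 0x5ef) (.cj (nat_lit 0x2b) (nat_lit 1) (nat_lit 0x1) (.lf (nat_lit 0x107bb700db90004d000690117a0001a010230000501d3202bcc0001e02dc5345ad00001))))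
 (.cj (nat_lit 0xa526) (nat_lit 1) (nat_lit 0x2f) (.cj (nat_lit 0x2b) (nat_lit 1) (nat_lit 0x1) (.lf (nat_lit 0x10006b00db800041010a0000150109e000740109a0234c0001300eed0a0e900003))))))))
 (.cj (nat_lit 0x118841) (nat_lit 1) (nat_lit 0x5cd) (.cj (nat_lit 0x29) (nat_lit 1) (nat_lit 0x5cd) (.cj (nat_lit 0x25) (nat_lit 1) (nat_lit 0xb9cd) (.cj (nat_lit 0x2a) (nat_lit 1) (nat_lit 0x1) (.pw (nat_lit 2) (nat_lit 0x5ef))))))
 (.cj (nat_lit 0x118841) (nat_lit 2) (nat_lit 0xb98b) (.cj (nat_lit 0x29) (nat_lit 1) (nat_lit 0x5cd) (.cj (nat_lit 0x25) (nat_lit 2) (nat_lit 0x17b9ad) (.cj (nat_lit 0x2a) (nat_lit 2) (nat_lit 0x1) (.pw (nat_lit 2) (nat_lit 0x2f))))))))))]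
theorem hj21 : jobsChk 3 16 T pb (lf3 F24.cd om T gb 16 reps) js21 = true := by decide +kernel

noncomputable def js22 : List Job := [([nat_lit 5], nat_lit 6, .s3 (.cj (nat_lit 0x21) (nat_lit 2) (nat_lit 0x2f) (.s3 (.s3 (.cj (nat_lit 0x23) (nat_lit 2) (nat_lit 0x2e7358c) (.cj (nat_lit 0x24) (nat_lit 1) (nat_lit 0xbdad) (.cj (nat_lit 0x20) (nat_lit 2) (nat_lit 0x5ee) (.cj (nat_lit 0xa520) (nat_lit 1) (nat_lit 0x5ef) (.s3 (.cj (nat_lit 0x27) (nat_lit 2) (nat_lit 0x1) (.lf (nat_lit 0x10002e00db600db90006b00025010a0010250000c016dd011bf00011073283d19a00003)))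
 (.cj (nat_lit 0x27) (nat_lit 2) (nat_lit 0x1) (.lf (nat_lit 0x107bb700db600dbd0000d00dbc0000500dce0018b0000706ea51becb00001)))
 (.cj (nat_lit 0x27) (nat_lit 2) (nat_lit 0x1) (.lf (nat_lit 0x107bb70004d0000a010d9000450128b014ca0000300471378f300003))))))))
 (.cj (nat_lit 0x23) (nat_lit 1) (nat_lit 0x5ef7398c) (.cj (nat_lit 0x24) (nat_lit 2) (nat_lit 0x17398c) (.cj (nat_lit 0x28) (nat_lit 1) (nat_lit 0x1) (.cj (nat_lit 0x2a) (nat_lit 1) (nat_lit 0x2f) (.cj (nat_lit 0x27) (nat_lit 2) (nat_lit 0x2f) (.pw (nat_lit 1) (nat_lit 0x1)))))))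
 (.cj (nat_lit 0x8841) (nat_lit 2) (nat_lit 0x5ef7358c) (.cj (nat_lit 0x20) (nat_lit 2) (nat_lit 0x17b9ad) (.cj (nat_lit 0x23) (nat_lit 2) (nat_lit 0xb9cd) (.cj (nat_lit 0x28) (nat_lit 1) (nat_lit 0x5ce) (.cj (nat_lit 0x27) (nat_lit 1) (nat_lit 0x1) (.cj (nat_lit 0x567) (nat_lit 2) (nat_lit 0x1) (.lf (nat_lit 0x100db90006b00dbb00dba0117a000f20000b0117d03ae00001c002de4697c00003)))))))))
 (.s3 (.cj (nat_lit 0x23) (nat_lit 2) (nat_lit 0x58c) (.cj (nat_lit 0x20) (nat_lit 1) (nat_lit 0xbd8c) (.cj (nat_lit 0x28) (nat_lit 2) (nat_lit 0x17b9ad) (.cj (nat_lit 0x2a) (nat_lit 1) (nat_lit 0x1) (.cj (nat_lit 0x27) (nat_lit 2) (nat_lit 0x5ef) (.pw (nat_lit 1) (nat_lit 0x1)))))))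
 (.cj (nat_lit 0x23) (nat_lit 1) (nat_lit 0x2f7b58c) (.cj (nat_lit 0x26) (nat_lit 1) (nat_lit 0x17b9ad) (.cj (nat_lit 0x28) (nat_lit 1) (nat_lit 0x1) (.cj (nat_lit 0x2a) (nat_lit 2) (nat_lit 0x2f) (.cj (nat_lit 0x27) (nat_lit 1) (nat_lit 0x2f) (.pw (nat_lit 2) (nat_lit 0x1)))))))
 (.s3 (.s3 (.cj (nat_lit 0x24) (nat_lit 1) (nat_lit 0x1) (.cj (nat_lit 0x28) (nat_lit 1) (nat_lit 0x5ce) (.cj (nat_lit 0x520) (nat_lit 1) (nat_lit 0x2f) (.cj (nat_lit 0x25) (nat_lit 1) (nat_lit 0x1) (.lf (nat_lit 0x10002e00db60004d0002f00fbe0004c012900192301eab452ca00003))))))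
 (.cj (nat_lit 0x23) (nat_lit 1) (nat_lit 0x2d) (.cj (nat_lit 0x28) (nat_lit 1) (nat_lit 0x2e) (.cj (nat_lit 0x520) (nat_lit 2) (nat_lit 0x2f) (.cj (nat_lit 0x25) (nat_lit 2) (nat_lit 0x1) (.lf (nat_lit 0x100db90004d00dbb0117a0000d00ff00105b079e7000030059238e4a07bb900003))))))
 (.cj (nat_lit 0x26) (nat_lit 1) (nat_lit 0x2e) (.cj (nat_lit 0x23) (nat_lit 1) (nat_lit 0x1) (.s3 (.cj (nat_lit 0x2b) (nat_lit 2) (nat_lit 0x1) (.lf (nat_lit 0x10004d000250000a011220000c0014001e1a0001d07095432db07bb900001)))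
 (.cj (nat_lit 0x2b) (nat_lit 2) (nat_lit 0x1) (.lf (nat_lit 0x10006b00db8000250117a0004e00ff0000730013c00feb00000031de40bb900002)))
 (.cj (nat_lit 0x2b) (nat_lit 2) (nat_lit 0x1) (.lf (nat_lit 0x107bb700db600db90004d00dbb0109d01023000ab0451f00004079a00811b07bb900000)))))))
 (.s3 (.cj (nat_lit 0x23) (nat_lit 2) (nat_lit 0x2f) (.cj (nat_lit 0x20) (nat_lit 1) (nat_lit 0x17bdce) (.cj (nat_lit 0x28) (nat_lit 2) (nat_lit 0x1) (.cj (nat_lit 0x25) (nat_lit 1) (nat_lit 0x1) (.lf (nat_lit 0x100db600db90004d0117a0109f00fef001e400000022e6496a000003))))))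
 (.cj (nat_lit 0x23) (nat_lit 1) (nat_lit 0x2f) (.cj (nat_lit 0x20) (nat_lit 1) (nat_lit 0xbdee) (.cj (nat_lit 0x26) (nat_lit 1) (nat_lit 0x1) (.cj (nat_lit 0x25) (nat_lit 2) (nat_lit 0x1) (.lf (nat_lit 0x10004d00db80004100ff200dbc0000c0163107b790002002a381817b00003))))))
 (.s3 (.cj (nat_lit 0x20) (nat_lit 1) (nat_lit 0x5ef) (.s3 (.cj (nat_lit 0x23) (nat_lit 1) (nat_lit 0x1) (.lf (nat_lit 0x107bb70002e00dbb0006a0117a000a80128f0000b000f9028310000f0140623a3900003)))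
 (.cj (nat_lit 0x23) (nat_lit 1) (nat_lit 0x1) (.lf (nat_lit 0x10006b00042000a6000a800ff300002012230197f05bfb429af07bb900000)))
 (.cj (nat_lit 0x23) (nat_lit 1) (nat_lit 0x1) (.lf (nat_lit 0x10004d0006900dba010a00004400fbc0001600ff6049320001005fb50b51300003)))))
 (.cj (nat_lit 0x20) (nat_lit 1) (nat_lit 0x2f) (.cj (nat_lit 0x24) (nat_lit 1) (nat_lit 0x1) (.cj (nat_lit 0x25) (nat_lit 1) (nat_lit 0x1) (.lf (nat_lit 0x100db600db90004d00069000410006e011790000600fbb02e4400004069ae44e0300001)))))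
 (.cj (nat_lit 0x20) (nat_lit 1) (nat_lit 0x1) (.cj (nat_lit 0x24) (nat_lit 2) (nat_lit 0x1) (.cj (nat_lit 0x25) (nat_lit 2) (nat_lit 0x1) (.lf (nat_lit 0x10006b00db800dbd000440007c0007a017c1019850002005fb63aea300001)))))))
 (.s3 (.cj (nat_lit 0x26) (nat_lit 2) (nat_lit 0x2e) (.cj (nat_lit 0x28) (nat_lit 2) (nat_lit 0x5ce) (.cj (nat_lit 0x20) (nat_lit 2) (nat_lit 0x1) (.cj (nat_lit 0x25) (nat_lit 1) (nat_lit 0x1) (.lf (nat_lit 0x107bb700db70004d00db80109d0007c00f6a0002d024eb04193000040653e3ca6800003))))))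
 (.cj (nat_lit 0x24) (nat_lit 2) (nat_lit 0x1) (.cj (nat_lit 0x28) (nat_lit 2) (nat_lit 0x2e) (.cj (nat_lit 0x20) (nat_lit 1) (nat_lit 0x1) (.cj (nat_lit 0x25) (nat_lit 2) (nat_lit 0x1) (.lf (nat_lit 0x107bb700ff2000150002f00030014ea023440000302c8808d5f07bb900003))))))
 (.cj (nat_lit 0x24) (nat_lit 2) (nat_lit 0xbdce) (.cj (nat_lit 0x28) (nat_lit 2) (nat_lit 0x1) (.s3 (.cj (nat_lit 0x27) (nat_lit 1) (nat_lit 0x1) (.lf (nat_lit 0x100db600db90004d00dbb000a60006f0109f000af02e2b00009041cd4a8b607bbb00000)))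
 (.cj (nat_lit 0x27) (nat_lit 1) (nat_lit 0x1) (.lf (nat_lit 0x10002e0006900042000a6000260128f0000c01359021e000057065b5248e200002)))
 (.cj (nat_lit 0x27) (nat_lit 1) (nat_lit 0x1) (.lf (nat_lit 0x1000690004100ff2000270002f0001b0013f0416800014036322370800001)))))))))
 (.s3 (.cj (nat_lit 0x23) (nat_lit 2) (nat_lit 0x2e6b58c) (.cj (nat_lit 0x24) (nat_lit 1) (nat_lit 0x5ee) (.cj (nat_lit 0x26) (nat_lit 1) (nat_lit 0x1) (.cj (nat_lit 0x2a) (nat_lit 2) (nat_lit 0x1) (.cj (nat_lit 0x27) (nat_lit 1) (nat_lit 0x5ef) (.pw (nat_lit 2) (nat_lit 0x1)))))))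
 (.cj (nat_lit 0x23) (nat_lit 1) (nat_lit 0xbdee6b58c) (.cj (nat_lit 0x24) (nat_lit 2) (nat_lit 0x2e7358c) (.cj (nat_lit 0x28) (nat_lit 1) (nat_lit 0x1) (.cj (nat_lit 0xa520) (nat_lit 1) (nat_lit 0x2f) (.s3 (.cj (nat_lit 0x25) (nat_lit 1) (nat_lit 0x1) (.lf (nat_lit 0x100db600db90109d000430007c0002c0163107ba20003f0045b4ac5e00001)))
 (.cj (nat_lit 0x25) (nat_lit 1) (nat_lit 0x1) (.lf (nat_lit 0x107bb700db700dbb00dba0000a0112201d3001f7a0005a02f3e1823700003)))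
 (.cj (nat_lit 0x25) (nat_lit 1) (nat_lit 0x1) (.lf (nat_lit 0x107bb70004d00069000420117a00015000a800002011740170d0000700bdf49b5c00003))))))))
 (.cj (nat_lit 0x8841) (nat_lit 1) (nat_lit 0x5ce6b58c) (.cj (nat_lit 0x26) (nat_lit 1) (nat_lit 0x5ad) (.cj (nat_lit 0x29) (nat_lit 1) (nat_lit 0x1) (.cj (nat_lit 0x28) (nat_lit 1) (nat_lit 0x5ce) (.cj (nat_lit 0x27) (nat_lit 2) (nat_lit 0x1) (.cj (nat_lit 0x567) (nat_lit 2) (nat_lit 0x1) (.lf (nat_lit 0x107bb700db60006b00dbb0117a000a800f6a0007d013ee0009b06ca13abc800003)))))))))))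
 (.cj (nat_lit 0x21) (nat_lit 2) (nat_lit 0x17bdcd) (.cj (nat_lit 0x8841) (nat_lit 2) (nat_lit 0x5ee7318b5a929) (.cj (nat_lit 0x23) (nat_lit 2) (nat_lit 0x5cc5ad4a) (.s3 (.cj (nat_lit 0x24) (nat_lit 2) (nat_lit 0xbdac) (.cj (nat_lit 0x2a) (nat_lit 1) (nat_lit 0x5ef) (.cj (nat_lit 0x152925) (nat_lit 2) (nat_lit 0x1) (.cj (nat_lit 0x2b) (nat_lit 1) (nat_lit 0x1) (.cj (nat_lit 0x2d) (nat_lit 1) (nat_lit 0x1) (.lf (nat_lit 0x100db700db800ff20117a000440004e0002b0101e024940000002a9315cee00004)))))))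
 (.cj (nat_lit 0x24) (nat_lit 2) (nat_lit 0x5ed) (.cj (nat_lit 0x2a) (nat_lit 1) (nat_lit 0x5ef) (.cj (nat_lit 0x152924) (nat_lit 1) (nat_lit 0x1) (.pw (nat_lit 2) (nat_lit 0x2f)))))
 (.cj (nat_lit 0x26) (nat_lit 1) (nat_lit 0xb5ac) (.cj (nat_lit 0x525) (nat_lit 1) (nat_lit 0x1) (.s3 (.pw (nat_lit 1) (nat_lit 0x5ef))
 (.pw (nat_lit 1) (nat_lit 0x5ef))
 (.pw (nat_lit 1) (nat_lit 0x5ef)))))))))
 (.cj (nat_lit 0x21) (nat_lit 2) (nat_lit 0x2f739ad) (.cj (nat_lit 0x8841) (nat_lit 1) (nat_lit 0x17b549) (.cj (nat_lit 0x23) (nat_lit 1) (nat_lit 0xb14a) (.s3 (.cj (nat_lit 0x29) (nat_lit 2) (nat_lit 0x5ef) (.cj (nat_lit 0x24) (nat_lit 2) (nat_lit 0x1) (.cj (nat_lit 0x525) (nat_lit 2) (nat_lit 0x5ef) (.pw (nat_lit 1) (nat_lit 0x1)))))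
 (.cj (nat_lit 0x28) (nat_lit 1) (nat_lit 0x5cc) (.cj (nat_lit 0x24) (nat_lit 1) (nat_lit 0x5ee) (.cj (nat_lit 0x525) (nat_lit 1) (nat_lit 0x5ef) (.cj (nat_lit 0x2c) (nat_lit 1) (nat_lit 0x1) (.cj (nat_lit 0x2d) (nat_lit 2) (nat_lit 0x1) (.lf (nat_lit 0x100db700dbb0006c0109f0001702a0e03d4c00008072e125e1300004)))))))
 (.cj (nat_lit 0x25) (nat_lit 1) (nat_lit 0xbdad) (.cj (nat_lit 0x2a) (nat_lit 2) (nat_lit 0x5ce) (.s3 (.pw (nat_lit 2) (nat_lit 0x1))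
 (.pw (nat_lit 2) (nat_lit 0x1))
 (.pw (nat_lit 2) (nat_lit 0x1)))))))))),
 ([nat_lit 6], nat_lit 7, .cj (nat_lit 0x20) (nat_lit 2) (nat_lit 0x5ef6b56b) (.cj (nat_lit 0x22) (nat_lit 1) (nat_lit 0x5ef73969) (.cj (nat_lit 0x23) (nat_lit 2) (nat_lit 0x2f6b16b) (.s3 (.cj (nat_lit 0x25) (nat_lit 2) (nat_lit 0x17b9cd) (.cj (nat_lit 0x2a) (nat_lit 1) (nat_lit 0x1) (.cj (nat_lit 0x21) (nat_lit 1) (nat_lit 0x5ee) (.pw (nat_lit 1) (nat_lit 0x2f)))))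
 (.cj (nat_lit 0x28) (nat_lit 2) (nat_lit 0x5cc) (.cj (nat_lit 0x26) (nat_lit 2) (nat_lit 0x1) (.cj (nat_lit 0x528) (nat_lit 1) (nat_lit 0x5ef) (.cj (nat_lit 0x27) (nat_lit 1) (nat_lit 0x5ef) (.cj (nat_lit 0x2d) (nat_lit 1) (nat_lit 0x1) (.lf (nat_lit 0x10109d0000d0006e0159c012dc00007027541653c00003)))))))
 (.cj (nat_lit 0x29) (nat_lit 1) (nat_lit 0x58c) (.cj (nat_lit 0x26) (nat_lit 1) (nat_lit 0x1) (.cj (nat_lit 0x528) (nat_lit 2) (nat_lit 0x5ef) (.pw (nat_lit 2) (nat_lit 0x5ef)))))))))]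
theorem hj22 : jobsChk 3 16 T pb (lf3 F24.cd om T gb 16 reps) js22 = true := by decide +kernel

noncomputable def js23 : List Job := [([nat_lit 7], nat_lit 8, .s3 (.s3 (.s3 (.s3 (.cj (nat_lit 0x23) (nat_lit 1) (nat_lit 0x5ad) (.s3 (.cj (nat_lit 0x20) (nat_lit 2) (nat_lit 0x1) (.cj (nat_lit 0x21) (nat_lit 1) (nat_lit 0x1) (.lf (nat_lit 0x10002e00db90004d00dbb0006c0117b0013f00e230000300c58216b500000))))
 (.cj (nat_lit 0x28) (nat_lit 1) (nat_lit 0x1) (.cj (nat_lit 0x25) (nat_lit 1) (nat_lit 0x1) (.lf (nat_lit 0x10002e00db90006b000eb00dbf000290129407b7a0001d069a515e6707bb800002))))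
 (.cj (nat_lit 0x28) (nat_lit 1) (nat_lit 0x1) (.cj (nat_lit 0x25) (nat_lit 1) (nat_lit 0x1) (.lf (nat_lit 0x100db7000410117a0007c01023000b10128a0023900004073c54852700001))))))
 (.s3 (.cj (nat_lit 0x23) (nat_lit 2) (nat_lit 0x1) (.cj (nat_lit 0x20) (nat_lit 1) (nat_lit 0x1) (.cj (nat_lit 0x21) (nat_lit 1) (nat_lit 0x1) (.lf (nat_lit 0x100db60004d00069000270007c0102000fe3000000380d34d6700001)))))
 (.cj (nat_lit 0x22) (nat_lit 1) (nat_lit 0x1) (.cj (nat_lit 0x21) (nat_lit 2) (nat_lit 0x1) (.cj (nat_lit 0x29) (nat_lit 2) (nat_lit 0x1) (.lf (nat_lit 0x100db70006b000250109d000440109e0001b017c307b770000904c6033fdd00001)))))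
 (.s3 (.cj (nat_lit 0x20) (nat_lit 1) (nat_lit 0x2f) (.cj (nat_lit 0x25) (nat_lit 1) (nat_lit 0x1) (.lf (nat_lit 0x10002e00db800041010a00001a000440002b013e8032390003c024234a3f100003))))
 (.cj (nat_lit 0x20) (nat_lit 1) (nat_lit 0x1) (.cj (nat_lit 0x21) (nat_lit 2) (nat_lit 0x1) (.lf (nat_lit 0x107bb700db600db800ff20000a010580000e015a3021c00001f067412e86007bb900000))))
 (.cj (nat_lit 0x22) (nat_lit 2) (nat_lit 0x1) (.cj (nat_lit 0x25) (nat_lit 1) (nat_lit 0x1) (.lf (nat_lit 0x10004d00069000270117b0004f020af0369800009069bb18dbd00003))))))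
 (.cj (nat_lit 0x23) (nat_lit 2) (nat_lit 0x5ad) (.s3 (.cj (nat_lit 0x28) (nat_lit 2) (nat_lit 0x1) (.cj (nat_lit 0x21) (nat_lit 1) (nat_lit 0x1) (.lf (nat_lit 0x107bb700db7000690006b000420117a0105c00005014e8023500001405f0b3e96100000))))
 (.cj (nat_lit 0x28) (nat_lit 2) (nat_lit 0x1) (.cj (nat_lit 0x20) (nat_lit 2) (nat_lit 0x1) (.lf (nat_lit 0x100db800ff20117a0000d000a800049010a1039d800007051e641d7300001))))
 (.cj (nat_lit 0x28) (nat_lit 2) (nat_lit 0x1) (.cj (nat_lit 0x20) (nat_lit 1) (nat_lit 0x1) (.lf (nat_lit 0x107bb70002e00db600ff30002a0128c036c5000040385e1684a00002)))))))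
 (.cj (nat_lit 0x21) (nat_lit 2) (nat_lit 0x1) (.cj (nat_lit 0x24) (nat_lit 2) (nat_lit 0x2e) (.cj (nat_lit 0x28) (nat_lit 2) (nat_lit 0x2e) (.cj (nat_lit 0xa520) (nat_lit 1) (nat_lit 0x1) (.cj (nat_lit 0x25) (nat_lit 1) (nat_lit 0x1) (.lf (nat_lit 0x107bb70002e00dbb000250006a0109e0128903236069e61884500003)))))))
 (.cj (nat_lit 0x21) (nat_lit 1) (nat_lit 0x2f) (.cj (nat_lit 0x24) (nat_lit 1) (nat_lit 0x2f) (.cj (nat_lit 0x28) (nat_lit 1) (nat_lit 0x2e) (.cj (nat_lit 0xa520) (nat_lit 1) (nat_lit 0x2f) (.cj (nat_lit 0x25) (nat_lit 1) (nat_lit 0x1) (.lf (nat_lit 0x100db600db80006a0117a0001a00044000050112307bb0071ec1f2b300003))))))))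
 (.cj (nat_lit 0x23) (nat_lit 2) (nat_lit 0xbdac) (.cj (nat_lit 0x20) (nat_lit 1) (nat_lit 0x17b58c) (.cj (nat_lit 0x28) (nat_lit 2) (nat_lit 0x5ed) (.cj (nat_lit 0x2a) (nat_lit 1) (nat_lit 0x5ef) (.cj (nat_lit 0x2b) (nat_lit 1) (nat_lit 0x1) (.pw (nat_lit 1) (nat_lit 0x1)))))))
 (.cj (nat_lit 0x22) (nat_lit 2) (nat_lit 0xbdeb) (.cj (nat_lit 0x26) (nat_lit 1) (nat_lit 0x16b58c) (.cj (nat_lit 0x21) (nat_lit 2) (nat_lit 0xb9cd) (.cj (nat_lit 0x2a) (nat_lit 2) (nat_lit 0x1) (.cj (nat_lit 0x2b) (nat_lit 2) (nat_lit 0x1) (.pw (nat_lit 2) (nat_lit 0x1))))))))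
 (.s3 (.cj (nat_lit 0x22) (nat_lit 2) (nat_lit 0x17b9cc) (.cj (nat_lit 0x20) (nat_lit 1) (nat_lit 0x5ee) (.cj (nat_lit 0x23) (nat_lit 1) (nat_lit 0x5cd) (.cj (nat_lit 0x2a) (nat_lit 1) (nat_lit 0x2f) (.cj (nat_lit 0x27) (nat_lit 2) (nat_lit 0x1) (.cj (nat_lit 0xad21) (nat_lit 2) (nat_lit 0x1) (.lf (nat_lit 0x10002e00db60004d00026011c7000300135d01c66000400430010fdb00003))))))))
 (.cj (nat_lit 0x23) (nat_lit 2) (nat_lit 0x2f735ac) (.cj (nat_lit 0x24) (nat_lit 1) (nat_lit 0x17b98c) (.cj (nat_lit 0x28) (nat_lit 2) (nat_lit 0x5ed) (.cj (nat_lit 0x2a) (nat_lit 2) (nat_lit 0x5ef) (.cj (nat_lit 0x2b) (nat_lit 2) (nat_lit 0x1) (.pw (nat_lit 2) (nat_lit 0x1)))))))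
 (.cj (nat_lit 0x22) (nat_lit 1) (nat_lit 0x2f7b9cb) (.cj (nat_lit 0x24) (nat_lit 2) (nat_lit 0x2f739ac) (.cj (nat_lit 0x20) (nat_lit 1) (nat_lit 0xbdad) (.s3 (.cj (nat_lit 0xa520) (nat_lit 1) (nat_lit 0x2f) (.cj (nat_lit 0x25) (nat_lit 2) (nat_lit 0x1) (.lf (nat_lit 0x10002e00db7000420000d010580000b0135d0358e00004070804279b00001))))
 (.cj (nat_lit 0xa520) (nat_lit 1) (nat_lit 0x1) (.cj (nat_lit 0x25) (nat_lit 2) (nat_lit 0x1) (.lf (nat_lit 0x10006b00db8000250006a0117a000ea00dbc016310399d0003c0760b27c2400003))))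
 (.cj (nat_lit 0xa520) (nat_lit 1) (nat_lit 0x5ef) (.cj (nat_lit 0x25) (nat_lit 2) (nat_lit 0x1) (.lf (nat_lit 0x10002e00dbd0002601126000aa00fbb03d070001401ace09f3900003)))))))))
 (.s3 (.cj (nat_lit 0x22) (nat_lit 1) (nat_lit 0xbdec) (.cj (nat_lit 0x20) (nat_lit 2) (nat_lit 0xbdee) (.cj (nat_lit 0x21) (nat_lit 1) (nat_lit 0x5ad) (.cj (nat_lit 0x2a) (nat_lit 2) (nat_lit 0x2f) (.cj (nat_lit 0x27) (nat_lit 1) (nat_lit 0x1) (.cj (nat_lit 0x521) (nat_lit 2) (nat_lit 0x1) (.lf (nat_lit 0x10006b00db80109d0000d00043000460135b02eca00007025c22e35c00003))))))))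
 (.cj (nat_lit 0x23) (nat_lit 2) (nat_lit 0x17b9cc) (.cj (nat_lit 0x8c62) (nat_lit 1) (nat_lit 0x5ed) (.cj (nat_lit 0x20) (nat_lit 2) (nat_lit 0x5cd) (.s3 (.cj (nat_lit 0xa521) (nat_lit 1) (nat_lit 0x1) (.cj (nat_lit 0x25) (nat_lit 2) (nat_lit 0x1) (.lf (nat_lit 0x100db900dbb000a600045020af01957000230082f497c500003))))
 (.cj (nat_lit 0xa520) (nat_lit 1) (nat_lit 0x1) (.cj (nat_lit 0x25) (nat_lit 2) (nat_lit 0x1) (.lf (nat_lit 0x100ff20001501126000160018401f7d0001d0593a4a2f807bbb00001))))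
 (.cj (nat_lit 0xa521) (nat_lit 2) (nat_lit 0x1) (.cj (nat_lit 0x25) (nat_lit 2) (nat_lit 0x1) (.lf (nat_lit 0x107bb700db600025010a0000eb011790004a00ff900e8c03bf9290e500003))))))))
 (.cj (nat_lit 0x23) (nat_lit 1) (nat_lit 0x5ee735ac) (.cj (nat_lit 0x24) (nat_lit 2) (nat_lit 0x5ec) (.cj (nat_lit 0x29) (nat_lit 2) (nat_lit 0x5ed) (.cj (nat_lit 0x2a) (nat_lit 1) (nat_lit 0x1) (.cj (nat_lit 0x2b) (nat_lit 1) (nat_lit 0x1) (.pw (nat_lit 1) (nat_lit 0x1))))))))),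
 ([nat_lit 8], nat_lit 9, .s3 (.cj (nat_lit 0x22) (nat_lit 2) (nat_lit 0x17bdcd) (.cj (nat_lit 0x20) (nat_lit 1) (nat_lit 0xbdce) (.cj (nat_lit 0x21) (nat_lit 2) (nat_lit 0x5ed) (.cj (nat_lit 0x2a) (nat_lit 1) (nat_lit 0x1) (.cj (nat_lit 0x27) (nat_lit 2) (nat_lit 0x1) (.s3 (.lf (nat_lit 0x107bb70002e00db900dba010a00000d011c70000e0187401c71077aa3e45300001))
 (.lf (nat_lit 0x100db60004d00db8000410006f011cb01125012db0000300a6b47abb00002))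
 (.lf (nat_lit 0x107bb700db70004d00dbb011790001b013e301f97000030686b3dc1f00003))))))))
 (.cj (nat_lit 0x23) (nat_lit 2) (nat_lit 0xbdee) (.cj (nat_lit 0x22) (nat_lit 2) (nat_lit 0x2f7b5ac) (.cj (nat_lit 0x29) (nat_lit 1) (nat_lit 0xb9ad) (.cj (nat_lit 0x2a) (nat_lit 2) (nat_lit 0x2f) (.cj (nat_lit 0x26) (nat_lit 1) (nat_lit 0x1) (.pw (nat_lit 2) (nat_lit 0x1)))))))
 (.cj (nat_lit 0x23) (nat_lit 1) (nat_lit 0x2e) (.cj (nat_lit 0x26) (nat_lit 2) (nat_lit 0xbdac) (.cj (nat_lit 0x28) (nat_lit 1) (nat_lit 0xb9ad) (.s3 (.cj (nat_lit 0xa521) (nat_lit 1) (nat_lit 0x5ef) (.cj (nat_lit 0x25) (nat_lit 1) (nat_lit 0x1) (.lf (nat_lit 0x100db700069000a60000d010d900028020ad0127306dc344bc100003))))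
 (.s3 (.cj (nat_lit 0x25) (nat_lit 1) (nat_lit 0x1) (.lf (nat_lit 0x100db600db70006b010a00001a0000c014e90264c0000f056402137700000)))
 (.cj (nat_lit 0x25) (nat_lit 1) (nat_lit 0x1) (.lf (nat_lit 0x100db90004d000420117a00044010250002a01a4e00e01048fd3617f00003)))
 (.cj (nat_lit 0x25) (nat_lit 1) (nat_lit 0x1) (.lf (nat_lit 0x100db90006b000410006e0117b000a9013ec016b600020014af1dc2300003))))
 (.cj (nat_lit 0xa521) (nat_lit 2) (nat_lit 0x5ef) (.cj (nat_lit 0x25) (nat_lit 1) (nat_lit 0x1) (.lf (nat_lit 0x10002e00db700dbb0006f00ff3000b301d3802654000030195d1386e00003))))))))),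
 ([nat_lit 9], nat_lit 10, .cj (nat_lit 0x23) (nat_lit 2) (nat_lit 0x17bdad) (.cj (nat_lit 0x20) (nat_lit 1) (nat_lit 0x2f7358c) (.cj (nat_lit 0x21) (nat_lit 1) (nat_lit 0xb9ad) (.cj (nat_lit 0x2a) (nat_lit 1) (nat_lit 0x2f) (.cj (nat_lit 0x2b) (nat_lit 1) (nat_lit 0x1) (.pw (nat_lit 1) (nat_lit 0x1))))))),
 ([nat_lit 10], nat_lit 11, .cj (nat_lit 0x21) (nat_lit 2) (nat_lit 0x5ef) (.cj (nat_lit 0x24) (nat_lit 2) (nat_lit 0xbdce) (.cj (nat_lit 0x28) (nat_lit 2) (nat_lit 0x1) (.s3 (.cj (nat_lit 0x27) (nat_lit 2) (nat_lit 0x1) (.lf (nat_lit 0x100db90006b00dbb000410117a00026011c7000bb011600003f028d0499e607bb900001)))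
 (.cj (nat_lit 0x27) (nat_lit 2) (nat_lit 0x1) (.lf (nat_lit 0x107bb70002e00db6000420006f00ff0000280117803227000030449647a2f00003)))
 (.cj (nat_lit 0x27) (nat_lit 2) (nat_lit 0x1) (.lf (nat_lit 0x10006b010a0000440117900005001000237b05b1b3c6d500002))))))),
 ([nat_lit 11], nat_lit 12, .cj (nat_lit 0x23) (nat_lit 2) (nat_lit 0x1) (.s3 (.cj (nat_lit 0x20) (nat_lit 2) (nat_lit 0x1) (.cj (nat_lit 0x25) (nat_lit 1) (nat_lit 0x1) (.lf (nat_lit 0x107bb70006b00db80109d000f20002c00ff801fdd000070662d10e9800001))))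
 (.cj (nat_lit 0x21) (nat_lit 2) (nat_lit 0x1) (.cj (nat_lit 0x25) (nat_lit 1) (nat_lit 0x1) (.lf (nat_lit 0x107bb70004d00ff20007c00dbf0000b01d32016ce065434139000002))))
 (.cj (nat_lit 0x21) (nat_lit 1) (nat_lit 0x1) (.cj (nat_lit 0x25) (nat_lit 1) (nat_lit 0x1) (.lf (nat_lit 0x100db70004d00025010a00006f01023000190163201fdd00000010291d5f200003)))))),
 ([nat_lit 12], nat_lit 13, .cj (nat_lit 0x23) (nat_lit 2) (nat_lit 0x1) (.cj (nat_lit 0x24) (nat_lit 1) (nat_lit 0x1) (.cj (nat_lit 0x20) (nat_lit 2) (nat_lit 0x1) (.lf (nat_lit 0x107bb700db700db800dba000260109e0001901d30032360000704c954605b00000))))),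
 ([nat_lit 13], nat_lit 14, .cj (nat_lit 0x21) (nat_lit 2) (nat_lit 0x1) (.cj (nat_lit 0x20) (nat_lit 2) (nat_lit 0x1) (.lf (nat_lit 0x10002e00db6000690002f010230004501d3107b370003b012b23d7f107bb900002)))),
 ([nat_lit 14], nat_lit 15, .cj (nat_lit 0x22) (nat_lit 2) (nat_lit 0x1) (.lf (nat_lit 0x100db7000690006b0109d0013a0000b011c807b330003d0203a4774e00002))),
 ([nat_lit 15], nat_lit 16, .lf (nat_lit 0x10002e00db600db900dba00dbc0000b0005c000030067d23cd400002))]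
theorem hj23 : jobsChk 3 16 T pb (lf3 F24.cd om T gb 16 reps) js23 = true := by decide +kernel


end Cfsg.Agent.Fi.Q24b
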