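import Cfsg.Agent.Fi.Gg
import Cfsg.Agent.Fi.Q24b

/-! Classes of elements of order 3 in the model with tables `F24`. -/

set_option autoImplicit false
set_option maxRecDepth 100000
set_option Elab.async false

namespace Cfsg.Agent.Fi

open Cfsg.Agent.FM Subgroup

theorem g8_wd24_0 : wdChk F24.cd (.ps [nat_lit 31671, nat_lit 31672]) (.node (nat_lit 0) [nat_lit 4108, nat_lit 29828, nat_lit 2232, nat_lit 31457, nat_lit 29741] (.simd [nat_lit 0, nat_lit 1, nat_lit 2, nat_lit 4, nat_lit 0, nat_lit 3, nat_lit 2, nat_lit 1, nat_lit 0, nat_lit 4, nat_lit 3, nat_lit 2, nat_lit 1, nat_lit 0, nat_lit 3, nat_lit 2, nat_lit 4, nat_lit 0, nat_lit 1, nat_lit 0])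
 (.node (nat_lit 10) [nat_lit 3561, nat_lit 1992, nat_lit 3867, nat_lit 5428, nat_lit 3957, nat_lit 1664, nat_lit 2786] (.stk [nat_lit 1, nat_lit 2, nat_lit 1, nat_lit 3, nat_lit 4, nat_lit 5, nat_lit 7, nat_lit 0, nat_lit 0, nat_lit 6, nat_lit 0, nat_lit 0, nat_lit 0, nat_lit 4, nat_lit 2, nat_lit 3, nat_lit 0, nat_lit 0, nat_lit 3, nat_lit 5, nat_lit 7, nat_lit 0, nat_lit 0, nat_lit 0, nat_lit 6, nat_lit 0, nat_lit 0, nat_lit 6, nat_lit 4, nat_lit 7, nat_lit 0, nat_lit 0, nat_lit 7, nat_lit 0, nat_lit 0, nat_lit 0, nat_lit 4, nat_lit 3, nat_lit 1, nat_lit 7, nat_lit 0, nat_lit 0, nat_lit 5, nat_lit 2, nat_lit 0, nat_lit 3, nat_lit 0, nat_lit 4, nat_lit 0, nat_lit 6, nat_lit 0, nat_lit 0, nat_lit 6, nat_lit 0, nat_lit 7, nat_lit 0, nat_lit 0, nat_lit 5, nat_lit 3, nat_lit 7, nat_lit 0, nat_lit 0, nat_lit 6, nat_lit 0, nat_lit 7, nat_lit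 1, nat_lit 0, nat_lit 0, nat_lit 0, nat_lit 6, nat_lit 3, nat_lit 7, nat_lit 5, nat_lit 0, nat_lit 0, nat_lit 0, nat_lit 7, nat_lit 0, nat_lit 0, nat_lit 7, nat_lit 2, nat_lit 0, nat_lit 0, nat_lit 0, nat_lit 6, nat_lit 2, nat_lit 5, nat_lit 0, nat_lit 0, nat_lit 3, nat_lit 4, nat_lit 0, nat_lit 5, nat_lit 7, nat_lit 0, nat_lit 0, nat_lit 0, nat_lit 4, nat_lit 3, nat_lit 0, nat_lit 5, nat_lit 0, nat_lit 0, nat_lit 0, nat_lit 7, nat_lit 5, nat_lit 3, nat_lit 6, nat_lit 7, nat_lit 0, nat_lit 0, nat_lit 0, nat_lit 4, nat_lit 2, nat_lit 0, nat_lit 0, nat_lit 0, nat_lit 0, nat_lit 0, nat_lit 5, nat_lit 1, nat_lit 4, nat_lit 7, nat_lit 0, nat_lit 0, nat_lit 6, nat_lit 0, nat_lit 7, nat_lit 0, nat_lit 0, nat_lit 3, nat_lit 4, nat_lit 2, nat_lit 6, nat_lit 0, nat_lit 7, nat_lit 0, nat_lit 0, nat_lit 3, nat_lit 0, nat_lit 5, nat_lit 7, nat_lit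 1, nat_lit 0, nat_lit 2, nat_lit 0, nat_lit 0, nat_lit 0, nat_lit 0, nat_lit 6, nat_lit 2, nat_lit 0, nat_lit 3, nat_lit 7, nat_lit 0, nat_lit 0, nat_lit 7, nat_lit 5, nat_lit 0, nat_lit 0, nat_lit 0, nat_lit 0, nat_lit 4, nat_lit 3, nat_lit 5, nat_lit 7, nat_lit 0, nat_lit 0, nat_lit 6, nat_lit 0, nat_lit 0, nat_lit 0, nat_lit 6, nat_lit 2, nat_lit 3, nat_lit 0, nat_lit 0, nat_lit 3, nat_lit 4, nat_lit 7, nat_lit 0, nat_lit 0, nat_lit 7, nat_lit 5, nat_lit 2, nat_lit 0, nat_lit 0, nat_lit 0, nat_lit 0, nat_lit 7, nat_lit 0, nat_lit 0, nat_lit 0, nat_lit 6, nat_lit 2, nat_lit 3, nat_lit 4, nat_lit 0, nat_lit 7, nat_lit 5, nat_lit 0, nat_lit 0, nat_lit 0, nat_lit 4, nat_lit 3, nat_lit 5, nat_lit 0, nat_lit 0, nat_lit 0, nat_lit 5, nat_lit 0, nat_lit 7, nat_lit 0, nat_lit 0, nat_lit 3, nat_lit 5, nat_lit 4, nat_lit 6, nat_lit 0, nat_lit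 7, nat_lit 0, nat_lit 0, nat_lit 7, nat_lit 2, nat_lit 0, nat_lit 0, nat_lit 0, nat_lit 0, nat_lit 4, nat_lit 2, nat_lit 1, nat_lit 0, nat_lit 5, nat_lit 3, nat_lit 0, nat_lit 0, nat_lit 7, nat_lit 5, nat_lit 3, nat_lit 0, nat_lit 0, nat_lit 0, nat_lit 0, nat_lit 0, nat_lit 0, nat_lit 7, nat_lit 2, nat_lit 4, nat_lit 3, nat_lit 5, nat_lit 2, nat_lit 0, nat_lit 0, nat_lit 6, nat_lit 0, nat_lit 0, nat_lit 0, nat_lit 5, nat_lit 3, nat_lit 0, nat_lit 0, nat_lit 6, nat_lit 3, nat_lit 0, nat_lit 0, nat_lit 0, nat_lit 0, nat_lit 0, nat_lit 2, nat_lit 1, nat_lit 3, nat_lit 1, nat_lit 0, nat_lit 5, nat_lit 4, nat_lit 6, nat_lit 0, nat_lit 7, nat_lit 0, nat_lit 0, nat_lit 6, nat_lit 7, nat_lit 0, nat_lit 0, nat_lit 7, nat_lit 1, nat_lit 0, nat_lit 0, nat_lit 0, nat_lit 6, nat_lit 4, nat_lit 0, nat_lit 0, nat_lit 7, nat_lit 5, nat_lit 2, nat_lit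 0, nat_lit 0, nat_lit 0, nat_lit 0, nat_lit 4, nat_lit 2, nat_lit 6, nat_lit 3, nat_lit 0, nat_lit 0, nat_lit 7, nat_lit 0, nat_lit 0, nat_lit 6, nat_lit 0, nat_lit 7, nat_lit 2, nat_lit 0, nat_lit 5, nat_lit 3, nat_lit 0, nat_lit 0, nat_lit 0, nat_lit 0, nat_lit 5, nat_lit 3, nat_lit 4, nat_lit 0, nat_lit 6, nat_lit 7, nat_lit 0, nat_lit 0, nat_lit 0, nat_lit 0, nat_lit 7, nat_lit 6, nat_lit 0, nat_lit 0, nat_lit 0, nat_lit 3, nat_lit 1, nat_lit 4, nat_lit 5, nat_lit 4, nat_lit 0, nat_lit 7, nat_lit 0, nat_lit 0, nat_lit 0, nat_lit 5, nat_lit 4, nat_lit 7, nat_lit 0, nat_lit 0, nat_lit 6, nat_lit 0, nat_lit 7, nat_lit 0, nat_lit 0, nat_lit 6, nat_lit 4, nat_lit 0, nat_lit 0, nat_lit 0, nat_lit 4, nat_lit 2, nat_lit 7, nat_lit 0, nat_lit 0, nat_lit 3, nat_lit 5, nat_lit 0, nat_lit 0, nat_lit 6, nat_lit 0, nat_lit 0, nat_lit 5, nat_lit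 1, nat_lit 6, nat_lit 4, nat_lit 0, nat_lit 0, nat_lit 7, nat_lit 0, nat_lit 0, nat_lit 2, nat_lit 7, nat_lit 0, nat_lit 0, nat_lit 6, nat_lit 4, nat_lit 2, nat_lit 0, nat_lit 0, nat_lit 7, nat_lit 0, nat_lit 0, nat_lit 0, nat_lit 6, nat_lit 4, nat_lit 5, nat_lit 0, nat_lit 0, nat_lit 0, nat_lit 7, nat_lit 0, nat_lit 0, nat_lit 4, nat_lit 3, nat_lit 6, nat_lit 2, nat_lit 5, nat_lit 0, nat_lit 0, nat_lit 0, nat_lit 7, nat_lit 1, nat_lit 0, nat_lit 2, nat_lit 0, nat_lit 5, nat_lit 0, nat_lit 0, nat_lit 0, nat_lit 5, nat_lit 0, nat_lit 6, nat_lit 3, nat_lit 1, nat_lit 0, nat_lit 5, nat_lit 0, nat_lit 7, nat_lit 0, nat_lit 0, nat_lit 7, nat_lit 2, nat_lit 0, nat_lit 0, nat_lit 0, nat_lit 7, nat_lit 1, nat_lit 2, nat_lit 0, nat_lit 3, nat_lit 0, nat_lit 0, nat_lit 2, nat_lit 5, nat_lit 0, nat_lit 0, nat_lit 0, nat_lit 0, nat_lit 7, nat_lit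 1, nat_lit 0, nat_lit 5, nat_lit 2, nat_lit 0, nat_lit 6, nat_lit 3, nat_lit 7, nat_lit 0, nat_lit 0, nat_lit 7, nat_lit 1, nat_lit 0, nat_lit 0, nat_lit 0, nat_lit 0, nat_lit 6, nat_lit 0, nat_lit 0, nat_lit 0, nat_lit 3, nat_lit 4, nat_lit 2, nat_lit 1, nat_lit 6, nat_lit 7, nat_lit 0, nat_lit 0, nat_lit 0, nat_lit 5, nat_lit 3, nat_lit 0, nat_lit 0, nat_lit 6, nat_lit 0, nat_lit 7, nat_lit 5, nat_lit 1, nat_lit 0, nat_lit 6, nat_lit 0, nat_lit 0, nat_lit 6, nat_lit 4, nat_lit 0, nat_lit 0, nat_lit 0, nat_lit 0, nat_lit 6, nat_lit 7, nat_lit 1, nat_lit 0, nat_lit 2, nat_lit 1, nat_lit 0, nat_lit 4, nat_lit 0, nat_lit 0, nat_lit 5, nat_lit 0, nat_lit 0, nat_lit 0, nat_lit 0, nat_lit 5, nat_lit 1, nat_lit 7, nat_lit 1, nat_lit 0, nat_lit 5, nat_lit 2, nat_lit 0, nat_lit 4, nat_lit 0, nat_lit 6, nat_lit 0, nat_lit 0, nat_lit 6, nat_lit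 0, nat_lit 0, nat_lit 0, nat_lit 2, nat_lit 1, nat_lit 7, nat_lit 5, nat_lit 3, nat_lit 0, nat_lit 0, nat_lit 0, nat_lit 0, nat_lit 3, nat_lit 0, nat_lit 4, nat_lit 0, nat_lit 6, nat_lit 7, nat_lit 0, nat_lit 0, nat_lit 0, nat_lit 3, nat_lit 4, nat_lit 0, nat_lit 6, nat_lit 0, nat_lit 7, nat_lit 0, nat_lit 0, nat_lit 7, nat_lit 1, nat_lit 5, nat_lit 0, nat_lit 0, nat_lit 6, nat_lit 0, nat_lit 0, nat_lit 0, nat_lit 0, nat_lit 5, nat_lit 1, nat_lit 2, nat_lit 7, nat_lit 0, nat_lit 0, nat_lit 4, nat_lit 3, nat_lit 6, nat_lit 2, nat_lit 0, nat_lit 0, nat_lit 0, nat_lit 0, nat_lit 6, nat_lit 2, nat_lit 7, nat_lit 0, nat_lit 0, nat_lit 3, nat_lit 4, nat_lit 5, nat_lit 0, nat_lit 0, nat_lit 0, nat_lit 0, nat_lit 0, nat_lit 3, nat_lit 6, nat_lit 2, nat_lit 1, nat_lit 0, nat_lit 7, nat_lit 5, nat_lit 0, nat_lit 0, nat_lit 0, nat_lit 3, nat_lit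 1, nat_lit 0, nat_lit 0, nat_lit 0, nat_lit 7, nat_lit 1, nat_lit 0, nat_lit 2, nat_lit 4, nat_lit 0, nat_lit 0, nat_lit 5, nat_lit 6, nat_lit 2, nat_lit 0, nat_lit 3, nat_lit 0, nat_lit 0, nat_lit 0, nat_lit 6, nat_lit 2, nat_lit 0, nat_lit 0, nat_lit 0, nat_lit 0, nat_lit 4, nat_lit 7, nat_lit 5, nat_lit 1, nat_lit 0, nat_lit 2, nat_lit 0, nat_lit 3, nat_lit 0, nat_lit 0, nat_lit 0, nat_lit 0, nat_lit 6, nat_lit 2, nat_lit 1, nat_lit 0, nat_lit 3, nat_lit 4, nat_lit 0, nat_lit 7, nat_lit 1, nat_lit 0, nat_lit 0, nat_lit 0, nat_lit 4, nat_lit 0, nat_lit 7, nat_lit 5, nat_lit 3, nat_lit 0, nat_lit 0, nat_lit 0, nat_lit 0, nat_lit 3, nat_lit 1, nat_lit 7, nat_lit 5, nat_lit 0, nat_lit 0, nat_lit 0, nat_lit 0, nat_lit 0, nat_lit 7, nat_lit 2, nat_lit 5, nat_lit 0, nat_lit 0, nat_lit 0, nat_lit 0, nat_lit 6, nat_lit 4, nat_lit 5, nat_lit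 2, nat_lit 1, nat_lit 3, nat_lit 0, nat_lit 0, nat_lit 0, nat_lit 7, nat_lit 1, nat_lit 3, nat_lit 0, nat_lit 0, nat_lit 0, nat_lit 0, nat_lit 7, nat_lit 0, nat_lit 0, nat_lit 7])
 (.node (nat_lit 13) [nat_lit 6753, nat_lit 3581, nat_lit 7242, nat_lit 849, nat_lit 3842, nat_lit 4484] (.stk [nat_lit 1, nat_lit 2, nat_lit 1, nat_lit 3, nat_lit 5, nat_lit 0, nat_lit 0, nat_lit 4, nat_lit 5, nat_lit 0, nat_lit 0, nat_lit 5, nat_lit 6, nat_lit 2, nat_lit 0, nat_lit 0, nat_lit 0, nat_lit 0, nat_lit 3, nat_lit 0, nat_lit 4, nat_lit 2, nat_lit 0, nat_lit 0, nat_lit 6, nat_lit 5, nat_lit 0, nat_lit 0, nat_lit 0, nat_lit 3, nat_lit 4, nat_lit 3, nat_lit 5, nat_lit 0, nat_lit 0, nat_lit 5, nat_lit 0, nat_lit 6, nat_lit 0, nat_lit 0, nat_lit 5, nat_lit 6, nat_lit 2, nat_lit 3, nat_lit 0, nat_lit 0, nat_lit 3, nat_lit 0, nat_lit 0, nat_lit 0, nat_lit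 6, nat_lit 1, nat_lit 4, nat_lit 0, nat_lit 0, nat_lit 4, nat_lit 2, nat_lit 0, nat_lit 0, nat_lit 0, nat_lit 0, nat_lit 4, nat_lit 2, nat_lit 3, nat_lit 6, nat_lit 0, nat_lit 0, nat_lit 0, nat_lit 3, nat_lit 5, nat_lit 2, nat_lit 1, nat_lit 0, nat_lit 4, nat_lit 0, nat_lit 0, nat_lit 6, nat_lit 0, nat_lit 0, nat_lit 6, nat_lit 1, nat_lit 0, nat_lit 2, nat_lit 4, nat_lit 0, nat_lit 0, nat_lit 0, nat_lit 0, nat_lit 5, nat_lit 2, nat_lit 1, nat_lit 0, nat_lit 6, nat_lit 0, nat_lit 0, nat_lit 0, nat_lit 6, nat_lit 3, nat_lit 0, nat_lit 0, nat_lit 0, nat_lit 5, nat_lit 6, nat_lit 3, nat_lit 4, nat_lit 0, nat_lit 0, nat_lit 0, nat_lit 0, nat_lit 0, nat_lit 2, nat_lit 1, nat_lit 3, nat_lit 4, nat_lit 0, nat_lit 6, nat_lit 5, nat_lit 0, nat_lit 0, nat_lit 0, nat_lit 0, nat_lit 3, nat_lit 4, nat_lit 2, nat_lit 0, nat_lit 5, nat_lit 2, nat_lit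 1, nat_lit 0, nat_lit 6, nat_lit 3, nat_lit 0, nat_lit 0, nat_lit 0, nat_lit 0, nat_lit 6, nat_lit 0, nat_lit 0, nat_lit 5, nat_lit 6, nat_lit 0, nat_lit 0, nat_lit 0, nat_lit 5, nat_lit 0, nat_lit 6, nat_lit 2, nat_lit 5, nat_lit 0, nat_lit 0, nat_lit 4, nat_lit 0, nat_lit 0, nat_lit 0, nat_lit 3, nat_lit 4, nat_lit 2, nat_lit 3, nat_lit 0, nat_lit 6, nat_lit 0, nat_lit 0, nat_lit 3, nat_lit 0, nat_lit 0, nat_lit 6, nat_lit 1, nat_lit 2, nat_lit 3, nat_lit 0, nat_lit 4, nat_lit 0, nat_lit 0, nat_lit 3, nat_lit 5, nat_lit 0, nat_lit 0, nat_lit 5, nat_lit 0, nat_lit 0, nat_lit 3, nat_lit 5, nat_lit 1, nat_lit 0, nat_lit 2, nat_lit 0, nat_lit 6, nat_lit 0, nat_lit 0, nat_lit 0, nat_lit 5, nat_lit 1, nat_lit 0, nat_lit 2, nat_lit 4, nat_lit 0, nat_lit 0, nat_lit 0, nat_lit 0, nat_lit 0, nat_lit 4, nat_lit 3, nat_lit 6, nat_lit 1, nat_lit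 5, nat_lit 0, nat_lit 0, nat_lit 2, nat_lit 1, nat_lit 0, nat_lit 5, nat_lit 0, nat_lit 0, nat_lit 5, nat_lit 0, nat_lit 0, nat_lit 0, nat_lit 0, nat_lit 6, nat_lit 2, nat_lit 1, nat_lit 3, nat_lit 0, nat_lit 4, nat_lit 2, nat_lit 0, nat_lit 0, nat_lit 0, nat_lit 3, nat_lit 0, nat_lit 4, nat_lit 0, nat_lit 0, nat_lit 3, nat_lit 4, nat_lit 5, nat_lit 2, nat_lit 0, nat_lit 0, nat_lit 0, nat_lit 5, nat_lit 6, nat_lit 2, nat_lit 0, nat_lit 0, nat_lit 0, nat_lit 0, nat_lit 5])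
 (.node (nat_lit 18) [nat_lit 5733, nat_lit 3555, nat_lit 3844, nat_lit 5895, nat_lit 3842] (.stk [nat_lit 1, nat_lit 2, nat_lit 1, nat_lit 3, nat_lit 4, nat_lit 5, nat_lit 2, nat_lit 0, nat_lit 0, nat_lit 0, nat_lit 0, nat_lit 0, nat_lit 3, nat_lit 4, nat_lit 2, nat_lit 0, nat_lit 5, nat_lit 0, nat_lit 0, nat_lit 0, nat_lit 0, nat_lit 3, nat_lit 4, nat_lit 2, nat_lit 3, nat_lit 5, nat_lit 0, nat_lit 0, nat_lit 5, nat_lit 0, nat_lit 0, nat_lit 3, nat_lit 0, nat_lit 0, nat_lit 5, nat_lit 0, nat_lit 0, nat_lit 4, nat_lit 3, nat_lit 0, nat_lit 0, nat_lit 5, nat_lit 4, nat_lit 2, nat_lit 0, nat_lit 0, nat_lit 0, nat_lit 0, nat_lit 2, nat_lit 1, nat_lit 3, nat_lit 0, nat_lit 4, nat_lit 0, nat_lit 0, nat_lit 3, nat_lit 0, nat_lit 4, nat_lit 2, nat_lit 0, nat_lit 0, nat_lit 0, nat_lit 3, nat_lit 4, nat_lit 3, nat_lit 0, nat_lit 0, nat_lit 5,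 nat_lit 2, nat_lit 4, nat_lit 0, nat_lit 0, nat_lit 0, nat_lit 0, nat_lit 4, nat_lit 2, nat_lit 3, nat_lit 0, nat_lit 0, nat_lit 3, nat_lit 0, nat_lit 0, nat_lit 5, nat_lit 2, nat_lit 0, nat_lit 4])
 (.node (nat_lit 105) [nat_lit 3512, nat_lit 3513, nat_lit 3578, nat_lit 3510] (.stk [nat_lit 1, nat_lit 2, nat_lit 3, nat_lit 4, nat_lit 0, nat_lit 0, nat_lit 0, nat_lit 3, nat_lit 0, nat_lit 4, nat_lit 0, nat_lit 0, nat_lit 2, nat_lit 3, nat_lit 0, nat_lit 4, nat_lit 0, nat_lit 0, nat_lit 3, nat_lit 4])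
 (.small)
 (.done))
 (.done))
 (.done))
 (.done))
 (.done))
 [nat_lit 3510, nat_lit 664, nat_lit 127, nat_lit 105, nat_lit 18, nat_lit 13, nat_lit 10, nat_lit 0] 8 3240 = true := by decide +kernel
theorem g8_wd24_1 : wdChk F24.cd (.ps [nat_lit 27519, nat_lit 30848, nat_lit 31671, nat_lit 31672]) (.node (nat_lit 24656) [nat_lit 66075, nat_lit 289139, nat_lit 187403, nat_lit 28787, nat_lit 262927, nat_lit 171429, nat_lit 52137] (.stk [nat_lit 1, nat_lit 2, nat_lit 1, nat_lit 3, nat_lit 5, nat_lit 1, nat_lit 0, nat_lit 4, nat_lit 6, nat_lit 1, nat_lit 3, nat_lit 0, nat_lit 0, nat_lit 0, nat_lit 0, nat_lit 6, nat_lit 4, nat_lit 0, nat_lit 0, nat_lit 0, nat_lit 6, nat_lit 1, nat_lit 0, nat_lit 7, nat_lit 0, nat_lit 0, nat_lit 7, nat_lit 0, nat_lit 0, nat_lit 5, nat_lit 4, nat_lit 6, nat_lit 3, nat_lit 0, nat_lit 0, nat_lit 0, nat_lit 7, nat_lit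 0, nat_lit 0, nat_lit 0, nat_lit 5, nat_lit 2, nat_lit 6, nat_lit 3, nat_lit 1, nat_lit 0, nat_lit 0, nat_lit 4, nat_lit 0, nat_lit 7, nat_lit 1, nat_lit 0, nat_lit 0, nat_lit 0, nat_lit 7, nat_lit 4, nat_lit 0, nat_lit 0, nat_lit 0, nat_lit 4, nat_lit 3, nat_lit 6, nat_lit 0, nat_lit 0, nat_lit 7, nat_lit 0, nat_lit 0, nat_lit 6, nat_lit 1, nat_lit 7, nat_lit 3, nat_lit 5, nat_lit 0, nat_lit 0, nat_lit 5, nat_lit 0, nat_lit 0, nat_lit 0, nat_lit 3, nat_lit 0, nat_lit 0, nat_lit 0, nat_lit 6, nat_lit 3, nat_lit 1, nat_lit 6, nat_lit 0, nat_lit 0, nat_lit 7, nat_lit 3, nat_lit 5, nat_lit 0, nat_lit 0, nat_lit 5, nat_lit 1, nat_lit 4, nat_lit 0, nat_lit 6, nat_lit 0, nat_lit 0, nat_lit 4, nat_lit 0, nat_lit 0, nat_lit 0, nat_lit 0, nat_lit 4, nat_lit 0, nat_lit 7, nat_lit 1, nat_lit 2, nat_lit 0, nat_lit 5, nat_lit 4, nat_lit 0, nat_lit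 7, nat_lit 0, nat_lit 0, nat_lit 0, nat_lit 3, nat_lit 0, nat_lit 0, nat_lit 0, nat_lit 7, nat_lit 4, nat_lit 0, nat_lit 0, nat_lit 0, nat_lit 4, nat_lit 3, nat_lit 6, nat_lit 0, nat_lit 0, nat_lit 7, nat_lit 5, nat_lit 2, nat_lit 0, nat_lit 0, nat_lit 0, nat_lit 0, nat_lit 5, nat_lit 1, nat_lit 3, nat_lit 6, nat_lit 1, nat_lit 0, nat_lit 7, nat_lit 0, nat_lit 0, nat_lit 7, nat_lit 0, nat_lit 0, nat_lit 0, nat_lit 2, nat_lit 4, nat_lit 3, nat_lit 6, nat_lit 0, nat_lit 0, nat_lit 0, nat_lit 6, nat_lit 1, nat_lit 7, nat_lit 3, nat_lit 0, nat_lit 0, nat_lit 0, nat_lit 3, nat_lit 0, nat_lit 0, nat_lit 0, nat_lit 6, nat_lit 3, nat_lit 1, nat_lit 6, nat_lit 0, nat_lit 0, nat_lit 7, nat_lit 3, nat_lit 0, nat_lit 0, nat_lit 0, nat_lit 4, nat_lit 0, nat_lit 7, nat_lit 1, nat_lit 5, nat_lit 0, nat_lit 0, nat_lit 3, nat_lit 0, nat_lit 0, nat_lit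 0, nat_lit 7, nat_lit 0, nat_lit 0, nat_lit 6, nat_lit 1, nat_lit 7, nat_lit 2, nat_lit 1, nat_lit 0, nat_lit 3, nat_lit 0, nat_lit 0, nat_lit 3, nat_lit 5, nat_lit 0, nat_lit 0, nat_lit 5, nat_lit 1, nat_lit 0, nat_lit 0, nat_lit 0, nat_lit 0, nat_lit 3, nat_lit 0, nat_lit 0, nat_lit 0, nat_lit 2, nat_lit 1, nat_lit 3, nat_lit 1, nat_lit 4, nat_lit 5, nat_lit 6, nat_lit 4, nat_lit 0, nat_lit 0, nat_lit 0, nat_lit 6, nat_lit 1, nat_lit 0, nat_lit 0, nat_lit 0, nat_lit 0, nat_lit 4, nat_lit 5, nat_lit 6, nat_lit 7, nat_lit 0, nat_lit 0, nat_lit 7, nat_lit 0, nat_lit 0, nat_lit 6, nat_lit 1, nat_lit 3, nat_lit 0, nat_lit 0, nat_lit 0, nat_lit 0, nat_lit 5, nat_lit 4, nat_lit 0, nat_lit 6, nat_lit 1, nat_lit 7, nat_lit 0, nat_lit 0, nat_lit 7, nat_lit 1, nat_lit 0, nat_lit 3, nat_lit 0, nat_lit 0, nat_lit 0, nat_lit 7, nat_lit 1, nat_lit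 6, nat_lit 0, nat_lit 0, nat_lit 4, nat_lit 6, nat_lit 3, nat_lit 0, nat_lit 0, nat_lit 0, nat_lit 0, nat_lit 0, nat_lit 6, nat_lit 0, nat_lit 0, nat_lit 4, nat_lit 6, nat_lit 3, nat_lit 1, nat_lit 2, nat_lit 0, nat_lit 5, nat_lit 0, nat_lit 0, nat_lit 7, nat_lit 2, nat_lit 0, nat_lit 5, nat_lit 0, nat_lit 0, nat_lit 0, nat_lit 0, nat_lit 0, nat_lit 5, nat_lit 0, nat_lit 7, nat_lit 0, nat_lit 0, nat_lit 3, nat_lit 1, nat_lit 6, nat_lit 4, nat_lit 2, nat_lit 5, nat_lit 0, nat_lit 0, nat_lit 5, nat_lit 1, nat_lit 0, nat_lit 0, nat_lit 0, nat_lit 0, nat_lit 0, nat_lit 5, nat_lit 2, nat_lit 1, nat_lit 6, nat_lit 0, nat_lit 0, nat_lit 0, nat_lit 7, nat_lit 1, nat_lit 6, nat_lit 0, nat_lit 0, nat_lit 3, nat_lit 6, nat_lit 0, nat_lit 0, nat_lit 5, nat_lit 0, nat_lit 0, nat_lit 0, nat_lit 7, nat_lit 5, nat_lit 0, nat_lit 0, nat_lit 0, nat_lit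 4, nat_lit 5, nat_lit 4, nat_lit 3, nat_lit 0, nat_lit 6, nat_lit 1, nat_lit 3, nat_lit 0, nat_lit 0, nat_lit 0, nat_lit 0, nat_lit 0, nat_lit 7, nat_lit 3, nat_lit 5, nat_lit 6, nat_lit 0, nat_lit 0, nat_lit 6, nat_lit 0, nat_lit 0, nat_lit 5, nat_lit 1, nat_lit 6, nat_lit 0, nat_lit 0, nat_lit 0, nat_lit 0, nat_lit 0, nat_lit 5, nat_lit 2, nat_lit 6, nat_lit 0, nat_lit 0, nat_lit 4, nat_lit 3, nat_lit 0, nat_lit 6, nat_lit 4, nat_lit 0, nat_lit 7, nat_lit 1, nat_lit 2, nat_lit 0, nat_lit 6, nat_lit 0, nat_lit 0, nat_lit 3, nat_lit 0, nat_lit 0, nat_lit 0, nat_lit 7, nat_lit 1, nat_lit 5, nat_lit 0, nat_lit 6, nat_lit 0, nat_lit 0, nat_lit 0, nat_lit 0, nat_lit 6, nat_lit 1, nat_lit 3, nat_lit 0, nat_lit 4, nat_lit 5, nat_lit 0, nat_lit 0, nat_lit 7, nat_lit 1, nat_lit 0, nat_lit 2, nat_lit 0, nat_lit 0, nat_lit 0, nat_lit 4, nat_lit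 3, nat_lit 0, nat_lit 0, nat_lit 7, nat_lit 1, nat_lit 2, nat_lit 0, nat_lit 0, nat_lit 3, nat_lit 0, nat_lit 0, nat_lit 0, nat_lit 7, nat_lit 3, nat_lit 1, nat_lit 0, nat_lit 6, nat_lit 0, nat_lit 0, nat_lit 0, nat_lit 0, nat_lit 6, nat_lit 0, nat_lit 0, nat_lit 3, nat_lit 5, nat_lit 1, nat_lit 3, nat_lit 4, nat_lit 6, nat_lit 1, nat_lit 0, nat_lit 0, nat_lit 0, nat_lit 0, nat_lit 6, nat_lit 4, nat_lit 5, nat_lit 0, nat_lit 0, nat_lit 0, nat_lit 0, nat_lit 2, nat_lit 0, nat_lit 7, nat_lit 0, nat_lit 0, nat_lit 7, nat_lit 1, nat_lit 6, nat_lit 0, nat_lit 0, nat_lit 3, nat_lit 5, nat_lit 6, nat_lit 0, nat_lit 0, nat_lit 6, nat_lit 0, nat_lit 0, nat_lit 5, nat_lit 0, nat_lit 0, nat_lit 0, nat_lit 4, nat_lit 2, nat_lit 3, nat_lit 1, nat_lit 5, nat_lit 6, nat_lit 1, nat_lit 0, nat_lit 0, nat_lit 0, nat_lit 6, nat_lit 4, nat_lit 0, nat_lit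 0, nat_lit 0, nat_lit 5, nat_lit 1, nat_lit 6, nat_lit 7, nat_lit 0, nat_lit 0, nat_lit 7, nat_lit 0, nat_lit 0, nat_lit 0, nat_lit 7, nat_lit 1, nat_lit 6, nat_lit 0, nat_lit 0, nat_lit 5, nat_lit 0, nat_lit 0, nat_lit 0, nat_lit 5, nat_lit 6, nat_lit 7, nat_lit 1, nat_lit 6, nat_lit 0, nat_lit 0, nat_lit 3, nat_lit 0, nat_lit 0, nat_lit 0, nat_lit 7, nat_lit 1, nat_lit 6, nat_lit 0, nat_lit 0, nat_lit 0, nat_lit 0, nat_lit 6, nat_lit 1, nat_lit 3, nat_lit 6, nat_lit 0, nat_lit 7, nat_lit 1, nat_lit 0, nat_lit 0, nat_lit 0, nat_lit 0, nat_lit 0, nat_lit 0, nat_lit 3, nat_lit 1, nat_lit 5, nat_lit 6, nat_lit 1, nat_lit 3, nat_lit 0, nat_lit 0, nat_lit 0, nat_lit 0, nat_lit 6, nat_lit 7, nat_lit 5, nat_lit 4, nat_lit 0, nat_lit 0, nat_lit 0, nat_lit 0, nat_lit 7, nat_lit 5, nat_lit 0, nat_lit 0, nat_lit 0, nat_lit 5, nat_lit 1, nat_lit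 6, nat_lit 4, nat_lit 0, nat_lit 0, nat_lit 0, nat_lit 7, nat_lit 0, nat_lit 0, nat_lit 0, nat_lit 5, nat_lit 6, nat_lit 1, nat_lit 3, nat_lit 6, nat_lit 0, nat_lit 7, nat_lit 1, nat_lit 0, nat_lit 0, nat_lit 0, nat_lit 0, nat_lit 0, nat_lit 0, nat_lit 6, nat_lit 4, nat_lit 0, nat_lit 7, nat_lit 1, nat_lit 2, nat_lit 4, nat_lit 0, nat_lit 0, nat_lit 5, nat_lit 4, nat_lit 0, nat_lit 0, nat_lit 6, nat_lit 0, nat_lit 0, nat_lit 3, nat_lit 0, nat_lit 0, nat_lit 0, nat_lit 7, nat_lit 1, nat_lit 2, nat_lit 6, nat_lit 1, nat_lit 5, nat_lit 0, nat_lit 0, nat_lit 0, nat_lit 0, nat_lit 5, nat_lit 6, nat_lit 1, nat_lit 0, nat_lit 0, nat_lit 0, nat_lit 6, nat_lit 0, nat_lit 0, nat_lit 0, nat_lit 0, nat_lit 5, nat_lit 1, nat_lit 3, nat_lit 6, nat_lit 0, nat_lit 0, nat_lit 4, nat_lit 6, nat_lit 3, nat_lit 1, nat_lit 5, nat_lit 0, nat_lit 0, nat_lit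 7, nat_lit 0, nat_lit 0, nat_lit 0, nat_lit 0, nat_lit 7, nat_lit 0, nat_lit 0, nat_lit 2, nat_lit 6, nat_lit 1, nat_lit 3, nat_lit 0, nat_lit 4, nat_lit 0, nat_lit 7, nat_lit 1, nat_lit 0, nat_lit 0, nat_lit 0, nat_lit 4, nat_lit 0, nat_lit 7, nat_lit 1, nat_lit 0, nat_lit 0, nat_lit 0, nat_lit 7, nat_lit 3, nat_lit 1, nat_lit 0, nat_lit 0, nat_lit 0, nat_lit 0, nat_lit 4, nat_lit 0, nat_lit 6, nat_lit 0, nat_lit 0, nat_lit 6, nat_lit 1, nat_lit 3, nat_lit 0, nat_lit 4, nat_lit 2, nat_lit 7, nat_lit 1, nat_lit 6, nat_lit 0, nat_lit 0, nat_lit 3, nat_lit 5, nat_lit 0, nat_lit 0, nat_lit 5, nat_lit 0, nat_lit 0, nat_lit 0, nat_lit 5, nat_lit 7, nat_lit 1, nat_lit 6, nat_lit 0, nat_lit 0, nat_lit 3, nat_lit 0, nat_lit 0, nat_lit 0, nat_lit 0, nat_lit 7, nat_lit 1, nat_lit 0, nat_lit 2, nat_lit 0, nat_lit 5, nat_lit 0, nat_lit 0, nat_lit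 0, nat_lit 4, nat_lit 3, nat_lit 0, nat_lit 0, nat_lit 7, nat_lit 1, nat_lit 2, nat_lit 0, nat_lit 5, nat_lit 0, nat_lit 0, nat_lit 0, nat_lit 0, nat_lit 7, nat_lit 3, nat_lit 1, nat_lit 2, nat_lit 0, nat_lit 5])
 (.node (nat_lit 26622) [nat_lit 100760, nat_lit 138498, nat_lit 52012, nat_lit 67708, nat_lit 172524, nat_lit 215670] (.stk [nat_lit 1, nat_lit 2, nat_lit 1, nat_lit 3, nat_lit 5, nat_lit 0, nat_lit 0, nat_lit 5, nat_lit 3, nat_lit 0, nat_lit 0, nat_lit 0, nat_lit 3, nat_lit 2, nat_lit 0, nat_lit 4, nat_lit 0, nat_lit 0, nat_lit 4, nat_lit 5, nat_lit 0, nat_lit 0, nat_lit 5, nat_lit 6, nat_lit 3, nat_lit 0, nat_lit 5, nat_lit 0, nat_lit 0, nat_lit 0, nat_lit 6, nat_lit 5, nat_lit 3, nat_lit 1, nat_lit 0, nat_lit 0, nat_lit 0, nat_lit 0, nat_lit 0, nat_lit 3, nat_lit 1, nat_lit 5, nat_lit 6, nat_lit 3, nat_lit 0, nat_lit 0, nat_lit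 0, nat_lit 0, nat_lit 2, nat_lit 5, nat_lit 0, nat_lit 0, nat_lit 4, nat_lit 5, nat_lit 3, nat_lit 2, nat_lit 0, nat_lit 0, nat_lit 0, nat_lit 6, nat_lit 2, nat_lit 5, nat_lit 0, nat_lit 0, nat_lit 5, nat_lit 0, nat_lit 0, nat_lit 0, nat_lit 5, nat_lit 3, nat_lit 0, nat_lit 6, nat_lit 0, nat_lit 0, nat_lit 0, nat_lit 4, nat_lit 2, nat_lit 5, nat_lit 3, nat_lit 1, nat_lit 0, nat_lit 2, nat_lit 0, nat_lit 0, nat_lit 0, nat_lit 6, nat_lit 0, nat_lit 0, nat_lit 5, nat_lit 3, nat_lit 2, nat_lit 1, nat_lit 0, nat_lit 0, nat_lit 0, nat_lit 6, nat_lit 0, nat_lit 0, nat_lit 0, nat_lit 5, nat_lit 3, nat_lit 6, nat_lit 1, nat_lit 0, nat_lit 0, nat_lit 0, nat_lit 0, nat_lit 6, nat_lit 2, nat_lit 3, nat_lit 5, nat_lit 0, nat_lit 0, nat_lit 0, nat_lit 0, nat_lit 0, nat_lit 2, nat_lit 1, nat_lit 3, nat_lit 6, nat_lit 5, nat_lit 0, nat_lit 0, nat_lit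 0, nat_lit 5, nat_lit 0, nat_lit 6, nat_lit 3, nat_lit 5, nat_lit 0, nat_lit 0, nat_lit 0, nat_lit 0, nat_lit 3, nat_lit 2, nat_lit 5, nat_lit 6, nat_lit 0, nat_lit 0, nat_lit 0, nat_lit 5, nat_lit 3, nat_lit 0, nat_lit 6, nat_lit 0, nat_lit 0, nat_lit 6, nat_lit 4, nat_lit 5, nat_lit 0, nat_lit 0, nat_lit 5, nat_lit 0, nat_lit 0, nat_lit 0, nat_lit 5, nat_lit 3, nat_lit 6, nat_lit 0, nat_lit 0, nat_lit 6, nat_lit 2, nat_lit 5, nat_lit 0, nat_lit 0, nat_lit 4, nat_lit 5, nat_lit 0, nat_lit 0, nat_lit 5, nat_lit 0, nat_lit 0, nat_lit 0, nat_lit 6, nat_lit 3, nat_lit 0, nat_lit 5, nat_lit 0, nat_lit 0, nat_lit 0, nat_lit 3, nat_lit 1, nat_lit 4, nat_lit 0, nat_lit 0, nat_lit 2, nat_lit 4, nat_lit 2, nat_lit 0, nat_lit 0, nat_lit 6, nat_lit 4, nat_lit 5, nat_lit 0, nat_lit 0, nat_lit 5, nat_lit 0, nat_lit 0, nat_lit 0, nat_lit 4, nat_lit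 2, nat_lit 6, nat_lit 5, nat_lit 0, nat_lit 0, nat_lit 0, nat_lit 6, nat_lit 5, nat_lit 0, nat_lit 0, nat_lit 0, nat_lit 6, nat_lit 2, nat_lit 5, nat_lit 0, nat_lit 0, nat_lit 4, nat_lit 5, nat_lit 0, nat_lit 0, nat_lit 5, nat_lit 3, nat_lit 0, nat_lit 0, nat_lit 0, nat_lit 0, nat_lit 4, nat_lit 5, nat_lit 0, nat_lit 6, nat_lit 2, nat_lit 3, nat_lit 5, nat_lit 6, nat_lit 0, nat_lit 0, nat_lit 0, nat_lit 0, nat_lit 3, nat_lit 5, nat_lit 0, nat_lit 0, nat_lit 0, nat_lit 0, nat_lit 5, nat_lit 6, nat_lit 2, nat_lit 1, nat_lit 4, nat_lit 2, nat_lit 0, nat_lit 0, nat_lit 0, nat_lit 4, nat_lit 0, nat_lit 0, nat_lit 3, nat_lit 1, nat_lit 0, nat_lit 2, nat_lit 4, nat_lit 0, nat_lit 0, nat_lit 5])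
 (.node (nat_lit 26665) [nat_lit 174665, nat_lit 162343, nat_lit 29642, nat_lit 29081, nat_lit 29397] (.stk [nat_lit 1, nat_lit 2, nat_lit 1, nat_lit 3, nat_lit 4, nat_lit 0, nat_lit 0, nat_lit 4, nat_lit 0, nat_lit 5, nat_lit 0, nat_lit 0, nat_lit 3, nat_lit 4, nat_lit 0, nat_lit 5, nat_lit 0, nat_lit 0, nat_lit 4, nat_lit 5, nat_lit 0, nat_lit 0, nat_lit 0, nat_lit 3, nat_lit 4, nat_lit 5, nat_lit 2, nat_lit 0, nat_lit 0, nat_lit 0, nat_lit 0, nat_lit 4, nat_lit 0, nat_lit 5, nat_lit 0, nat_lit 0, nat_lit 2, nat_lit 1, nat_lit 3, nat_lit 4, nat_lit 0, nat_lit 5, nat_lit 0, nat_lit 0, nat_lit 4, nat_lit 5, nat_lit 0, nat_lit 0, nat_lit 0, nat_lit 3, nat_lit 4, nat_lit 5, nat_lit 0, nat_lit 0, nat_lit 0, nat_lit 4, nat_lit 0, nat_lit 5, nat_lit 0, nat_lit 0, nat_lit 3, nat_lit 4, nat_lit 0, nat_lit 5, nat_lit 0, nat_lit 0, nat_lit 4,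 nat_lit 5])
 (.node (nat_lit 29397) [nat_lit 30865, nat_lit 29397] (.stk [nat_lit 1, nat_lit 2])
 (.node (nat_lit 241197) [nat_lit 281768, nat_lit 243105] (.stk [nat_lit 1, nat_lit 0, nat_lit 2])
 (.node (nat_lit 275684) [nat_lit 282115, nat_lit 275684] (.stk [nat_lit 1, nat_lit 2])
 (.done)
 (.done))
 (.node (nat_lit 275684) [nat_lit 282115, nat_lit 281876] (.stk [nat_lit 1, nat_lit 0, nat_lit 2])
 (.node (nat_lit 241197) [nat_lit 281768, nat_lit 241197] (.stk [nat_lit 1, nat_lit 2])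
 (.done)
 (.done))
 (.done)))
 (.node (nat_lit 241197) [nat_lit 243105, nat_lit 281768] (.stk [nat_lit 1, nat_lit 0, nat_lit 2])
 (.node (nat_lit 29397) [nat_lit 31634, nat_lit 29397] (.stk [nat_lit 1, nat_lit 2])
 (.node (nat_lit 275684) [nat_lit 282115, nat_lit 275684] (.stk [nat_lit 1, nat_lit 2])
 (.done)
 (.done))
 (.node (nat_lit 275684) [nat_lit 281876, nat_lit 282115] (.stk [nat_lit 1, nat_lit 0, nat_lit 2])
 (.node (nat_lit 29397) [nat_lit 31634, nat_lit 30865] (.stk [nat_lit 1, nat_lit 0, nat_lit 2])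
 (.done)
 (.done))
 (.done)))
 (.node (nat_lit 275684) [nat_lit 281876, nat_lit 282115] (.stk [nat_lit 1, nat_lit 0, nat_lit 2])
 (.node (nat_lit 29397) [nat_lit 30865, nat_lit 29397] (.stk [nat_lit 1, nat_lit 2])
 (.node (nat_lit 241197) [nat_lit 243105, nat_lit 241197] (.stk [nat_lit 1, nat_lit 2])
 (.done)
 (.done))
 (.node (nat_lit 241197) [nat_lit 243105, nat_lit 281768] (.stk [nat_lit 1, nat_lit 0, nat_lit 2])
 (.node (nat_lit 29397) [nat_lit 31634, nat_lit 30865] (.stk [nat_lit 1, nat_lit 0, nat_lit 2])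
 (.done)
 (.done))
 (.done)))
 (.done))))
 (.done))
 (.done))
 (.done))
 [nat_lit 275684, nat_lit 241197, nat_lit 29397, nat_lit 26665, nat_lit 26622, nat_lit 24656] 6 378 = true := by decide +kernel
theorem g8_wd24_2 : wdChk F24.cd (.ps [nat_lit 31671, nat_lit 31672, nat_lit 170213, nat_lit 31671, nat_lit 31672, nat_lit 170213]) (.node (nat_lit 11) [nat_lit 266515, nat_lit 68736, nat_lit 131600, nat_lit 142049, nat_lit 134197, nat_lit 295803] (.simd [nat_lit 0, nat_lit 1, nat_lit 2, nat_lit 4, nat_lit 0, nat_lit 5, nat_lit 3, nat_lit 1, nat_lit 2, nat_lit 0, nat_lit 4, nat_lit 5, nat_lit 1, nat_lit 3, nat_lit 0, nat_lit 5, nat_lit 4])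
 (.node (nat_lit 664) [nat_lit 66017, nat_lit 286581, nat_lit 40749, nat_lit 1054, nat_lit 222792] (.stk [nat_lit 1, nat_lit 2, nat_lit 1, nat_lit 3, nat_lit 1, nat_lit 2, nat_lit 0, nat_lit 5, nat_lit 2, nat_lit 0, nat_lit 0, nat_lit 0, nat_lit 2, nat_lit 1, nat_lit 0, nat_lit 0, nat_lit 4, nat_lit 5, nat_lit 0, nat_lit 0, nat_lit 5, nat_lit 0, nat_lit 0, nat_lit 0, nat_lit 3, nat_lit 1, nat_lit 2, nat_lit 4, nat_lit 0, nat_lit 5, nat_lit 4, nat_lit 0, nat_lit 0, nat_lit 0, nat_lit 4, nat_lit 0, nat_lit 5, nat_lit 1, nat_lit 0, nat_lit 3, nat_lit 0, nat_lit 0, nat_lit 0, nat_lit 2, nat_lit 1, nat_lit 0, nat_lit 4, nat_lit 1, nat_lit 0, nat_lit 0, nat_lit 0, nat_lit 4, nat_lit 1, nat_lit 0, nat_lit 3, nat_lit 1, nat_lit 5, nat_lit 0, nat_lit 0, nat_lit 0, nat_lit 0, nat_lit 5, nat_lit 1, nat_lit 0, nat_lit 2, nat_lit 0, nat_lit 4, nat_lit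 0, nat_lit 0, nat_lit 0, nat_lit 4, nat_lit 1, nat_lit 0, nat_lit 2, nat_lit 1, nat_lit 0, nat_lit 3, nat_lit 1, nat_lit 0, nat_lit 0, nat_lit 0, nat_lit 3, nat_lit 5, nat_lit 4, nat_lit 0, nat_lit 0, nat_lit 0, nat_lit 5, nat_lit 3, nat_lit 1, nat_lit 0, nat_lit 0, nat_lit 0, nat_lit 0, nat_lit 0, nat_lit 3, nat_lit 1, nat_lit 2, nat_lit 1, nat_lit 0, nat_lit 4, nat_lit 0, nat_lit 5, nat_lit 1, nat_lit 0, nat_lit 0, nat_lit 0, nat_lit 4, nat_lit 1, nat_lit 0, nat_lit 2, nat_lit 0, nat_lit 3, nat_lit 0, nat_lit 0, nat_lit 0, nat_lit 2, nat_lit 1, nat_lit 3, nat_lit 0, nat_lit 4, nat_lit 0, nat_lit 0, nat_lit 4, nat_lit 0, nat_lit 5, nat_lit 1, nat_lit 2, nat_lit 0, nat_lit 3, nat_lit 0, nat_lit 4, nat_lit 0, nat_lit 0, nat_lit 2, nat_lit 4, nat_lit 0, nat_lit 0, nat_lit 0, nat_lit 0, nat_lit 4, nat_lit 1, nat_lit 3, nat_lit 0, nat_lit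 5, nat_lit 1, nat_lit 0, nat_lit 2, nat_lit 0, nat_lit 4, nat_lit 0, nat_lit 0, nat_lit 0, nat_lit 2, nat_lit 0, nat_lit 3, nat_lit 1, nat_lit 0, nat_lit 0, nat_lit 5, nat_lit 1, nat_lit 0, nat_lit 2, nat_lit 1, nat_lit 0, nat_lit 0, nat_lit 4, nat_lit 0, nat_lit 0, nat_lit 0, nat_lit 5, nat_lit 2, nat_lit 1, nat_lit 4, nat_lit 0, nat_lit 0, nat_lit 3, nat_lit 4, nat_lit 0, nat_lit 0, nat_lit 4, nat_lit 0, nat_lit 0, nat_lit 3, nat_lit 1, nat_lit 0, nat_lit 2, nat_lit 0, nat_lit 4, nat_lit 0, nat_lit 0, nat_lit 4, nat_lit 1, nat_lit 0, nat_lit 2, nat_lit 0, nat_lit 0, nat_lit 0, nat_lit 0, nat_lit 4, nat_lit 2, nat_lit 1, nat_lit 0, nat_lit 3, nat_lit 0, nat_lit 5, nat_lit 0, nat_lit 0, nat_lit 3, nat_lit 1, nat_lit 2, nat_lit 0, nat_lit 4, nat_lit 0, nat_lit 5, nat_lit 0, nat_lit 0, nat_lit 2, nat_lit 0, nat_lit 5, nat_lit 4, nat_lit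 0, nat_lit 0, nat_lit 0, nat_lit 0, nat_lit 5, nat_lit 1, nat_lit 2, nat_lit 3, nat_lit 0, nat_lit 0, nat_lit 3, nat_lit 1, nat_lit 0, nat_lit 2, nat_lit 5, nat_lit 0, nat_lit 0, nat_lit 4, nat_lit 5, nat_lit 0, nat_lit 0, nat_lit 0, nat_lit 4, nat_lit 3, nat_lit 0, nat_lit 0, nat_lit 0, nat_lit 3, nat_lit 1, nat_lit 4, nat_lit 0, nat_lit 0, nat_lit 0, nat_lit 0, nat_lit 0, nat_lit 2, nat_lit 1, nat_lit 3, nat_lit 1, nat_lit 2, nat_lit 5, nat_lit 0, nat_lit 0, nat_lit 4, nat_lit 1, nat_lit 0, nat_lit 0, nat_lit 5, nat_lit 0, nat_lit 0, nat_lit 2, nat_lit 4, nat_lit 0, nat_lit 0, nat_lit 4, nat_lit 1, nat_lit 0, nat_lit 2, nat_lit 0, nat_lit 3, nat_lit 0, nat_lit 0, nat_lit 5, nat_lit 3, nat_lit 0, nat_lit 4, nat_lit 0, nat_lit 0, nat_lit 0, nat_lit 4, nat_lit 2, nat_lit 0, nat_lit 3, nat_lit 1, nat_lit 0, nat_lit 2, nat_lit 0, nat_lit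 5, nat_lit 0, nat_lit 0, nat_lit 0, nat_lit 5, nat_lit 3, nat_lit 0, nat_lit 0, nat_lit 0, nat_lit 3, nat_lit 1, nat_lit 2, nat_lit 1, nat_lit 0, nat_lit 4, nat_lit 2, nat_lit 0, nat_lit 0, nat_lit 0, nat_lit 4, nat_lit 2, nat_lit 0, nat_lit 3, nat_lit 0, nat_lit 0, nat_lit 5, nat_lit 0, nat_lit 0, nat_lit 2, nat_lit 1, nat_lit 3, nat_lit 0, nat_lit 4, nat_lit 0, nat_lit 0, nat_lit 5, nat_lit 0, nat_lit 0, nat_lit 4, nat_lit 5, nat_lit 0, nat_lit 0, nat_lit 5, nat_lit 2, nat_lit 4, nat_lit 0, nat_lit 0, nat_lit 3, nat_lit 4, nat_lit 1, nat_lit 0, nat_lit 0, nat_lit 0, nat_lit 4, nat_lit 0, nat_lit 0, nat_lit 0, nat_lit 5, nat_lit 1, nat_lit 0, nat_lit 2, nat_lit 3, nat_lit 1, nat_lit 0, nat_lit 5, nat_lit 0, nat_lit 0, nat_lit 0, nat_lit 3, nat_lit 2, nat_lit 1, nat_lit 0, nat_lit 5, nat_lit 0, nat_lit 0, nat_lit 4, nat_lit 5, nat_lit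 0, nat_lit 0, nat_lit 0, nat_lit 0, nat_lit 0, nat_lit 3, nat_lit 1, nat_lit 2, nat_lit 1, nat_lit 3, nat_lit 0, nat_lit 4, nat_lit 2, nat_lit 0, nat_lit 3, nat_lit 0, nat_lit 0, nat_lit 0, nat_lit 3, nat_lit 1, nat_lit 5, nat_lit 0, nat_lit 0, nat_lit 4, nat_lit 0, nat_lit 0, nat_lit 4, nat_lit 3, nat_lit 0, nat_lit 5, nat_lit 0, nat_lit 0, nat_lit 5, nat_lit 2, nat_lit 0, nat_lit 4, nat_lit 2, nat_lit 0, nat_lit 0, nat_lit 0, nat_lit 0, nat_lit 4, nat_lit 1, nat_lit 3, nat_lit 0, nat_lit 0, nat_lit 2, nat_lit 1, nat_lit 0, nat_lit 0, nat_lit 3, nat_lit 5, nat_lit 1, nat_lit 0, nat_lit 0, nat_lit 0, nat_lit 5, nat_lit 0, nat_lit 0, nat_lit 5, nat_lit 1, nat_lit 3, nat_lit 0, nat_lit 0, nat_lit 2, nat_lit 0, nat_lit 0, nat_lit 0, nat_lit 2, nat_lit 1, nat_lit 3, nat_lit 2, nat_lit 0, nat_lit 0, nat_lit 4, nat_lit 2, nat_lit 0, nat_lit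 0, nat_lit 5, nat_lit 4, nat_lit 0, nat_lit 0, nat_lit 0, nat_lit 4, nat_lit 5, nat_lit 0, nat_lit 0, nat_lit 5, nat_lit 2, nat_lit 3, nat_lit 0, nat_lit 4, nat_lit 0, nat_lit 0, nat_lit 4, nat_lit 2, nat_lit 0, nat_lit 0, nat_lit 0, nat_lit 0, nat_lit 4, nat_lit 1, nat_lit 2, nat_lit 1, nat_lit 0, nat_lit 4, nat_lit 0, nat_lit 0, nat_lit 3, nat_lit 2, nat_lit 0, nat_lit 0, nat_lit 5, nat_lit 2, nat_lit 0, nat_lit 0, nat_lit 0, nat_lit 2, nat_lit 1, nat_lit 4, nat_lit 0, nat_lit 0, nat_lit 5, nat_lit 1, nat_lit 0, nat_lit 3, nat_lit 0, nat_lit 4, nat_lit 0, nat_lit 0, nat_lit 0, nat_lit 5, nat_lit 0, nat_lit 0, nat_lit 5, nat_lit 1, nat_lit 3, nat_lit 1, nat_lit 0, nat_lit 0, nat_lit 0, nat_lit 2, nat_lit 3, nat_lit 1, nat_lit 0, nat_lit 4, nat_lit 1, nat_lit 0, nat_lit 3, nat_lit 0, nat_lit 0, nat_lit 0, nat_lit 4, nat_lit 3, nat_lit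 0, nat_lit 0, nat_lit 0, nat_lit 3, nat_lit 1, nat_lit 0, nat_lit 2, nat_lit 5, nat_lit 0, nat_lit 0, nat_lit 4, nat_lit 3, nat_lit 0, nat_lit 5, nat_lit 0, nat_lit 0, nat_lit 0, nat_lit 4, nat_lit 2, nat_lit 1, nat_lit 0, nat_lit 3, nat_lit 0, nat_lit 0, nat_lit 3, nat_lit 1, nat_lit 0, nat_lit 5, nat_lit 0, nat_lit 0, nat_lit 0, nat_lit 0, nat_lit 0, nat_lit 5, nat_lit 1, nat_lit 2, nat_lit 3, nat_lit 0, nat_lit 5, nat_lit 0, nat_lit 0, nat_lit 4, nat_lit 5, nat_lit 0, nat_lit 0, nat_lit 0, nat_lit 2, nat_lit 3, nat_lit 1, nat_lit 2, nat_lit 0, nat_lit 0, nat_lit 2, nat_lit 4, nat_lit 0, nat_lit 0, nat_lit 4, nat_lit 3, nat_lit 0, nat_lit 0, nat_lit 5, nat_lit 2, nat_lit 0, nat_lit 4, nat_lit 0, nat_lit 0, nat_lit 0, nat_lit 4, nat_lit 2, nat_lit 3, nat_lit 0, nat_lit 0, nat_lit 3, nat_lit 0, nat_lit 0, nat_lit 0, nat_lit 3, nat_lit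 2, nat_lit 1, nat_lit 0, nat_lit 4, nat_lit 0, nat_lit 5, nat_lit 1, nat_lit 0, nat_lit 0, nat_lit 0, nat_lit 4, nat_lit 1, nat_lit 2, nat_lit 0, nat_lit 0, nat_lit 2, nat_lit 0, nat_lit 3, nat_lit 0, nat_lit 5, nat_lit 0, nat_lit 0, nat_lit 0, nat_lit 4, nat_lit 2, nat_lit 3, nat_lit 0, nat_lit 0, nat_lit 3, nat_lit 1, nat_lit 0, nat_lit 2, nat_lit 0, nat_lit 5, nat_lit 4])
 (.node (nat_lit 749) [nat_lit 3641, nat_lit 1993, nat_lit 2363] (.stk [nat_lit 1, nat_lit 2, nat_lit 0, nat_lit 3, nat_lit 0, nat_lit 0, nat_lit 2, nat_lit 1, nat_lit 3, nat_lit 0, nat_lit 0, nat_lit 0, nat_lit 3, nat_lit 1])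
 (.node (nat_lit 1011) [nat_lit 7236, nat_lit 1054, nat_lit 6106] (.stk [nat_lit 1, nat_lit 2, nat_lit 1, nat_lit 0, nat_lit 0, nat_lit 0, nat_lit 2, nat_lit 1, nat_lit 0, nat_lit 0, nat_lit 3, nat_lit 1, nat_lit 0, nat_lit 2])
 (.node (nat_lit 31671) [nat_lit 31672, nat_lit 146644, nat_lit 192022] (.stk [nat_lit 1, nat_lit 2, nat_lit 1, nat_lit 0, nat_lit 0, nat_lit 0, nat_lit 2, nat_lit 1, nat_lit 0, nat_lit 0, nat_lit 3, nat_lit 1, nat_lit 0, nat_lit 2])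
 (.done)
 (.done))
 (.node (nat_lit 31671) [nat_lit 146644, nat_lit 31674, nat_lit 136534] (.stk [nat_lit 1, nat_lit 2, nat_lit 3, nat_lit 0, nat_lit 0, nat_lit 0, nat_lit 2, nat_lit 1, nat_lit 0, nat_lit 3, nat_lit 0, nat_lit 0, nat_lit 3, nat_lit 2])
 (.node (nat_lit 1011) [nat_lit 6496, nat_lit 1619, nat_lit 3647] (.stk [nat_lit 1, nat_lit 2, nat_lit 1, nat_lit 0, nat_lit 0, nat_lit 0, nat_lit 2, nat_lit 1, nat_lit 0, nat_lit 0, nat_lit 3, nat_lit 1, nat_lit 0, nat_lit 2])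
 (.done)
 (.done))
 (.done)))
 (.node (nat_lit 1011) [nat_lit 6496, nat_lit 1054, nat_lit 1011] (.stk [nat_lit 1, nat_lit 2, nat_lit 1, nat_lit 0, nat_lit 0, nat_lit 3, nat_lit 2, nat_lit 0, nat_lit 0, nat_lit 0, nat_lit 2, nat_lit 1, nat_lit 0, nat_lit 3])
 (.node (nat_lit 749) [nat_lit 3546, nat_lit 1993, nat_lit 4977] (.stk [nat_lit 1, nat_lit 2, nat_lit 3, nat_lit 0, nat_lit 0, nat_lit 0, nat_lit 2, nat_lit 1, nat_lit 0, nat_lit 3, nat_lit 0, nat_lit 0, nat_lit 3, nat_lit 2])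
 (.node (nat_lit 31671) [nat_lit 146644, nat_lit 174395, nat_lit 136534] (.stk [nat_lit 1, nat_lit 2, nat_lit 3, nat_lit 0, nat_lit 0, nat_lit 0, nat_lit 2, nat_lit 1, nat_lit 0, nat_lit 3, nat_lit 0, nat_lit 0, nat_lit 3, nat_lit 2])
 (.done)
 (.done))
 (.node (nat_lit 31671) [nat_lit 31672, nat_lit 192022, nat_lit 136534] (.stk [nat_lit 1, nat_lit 2, nat_lit 0, nat_lit 3, nat_lit 0, nat_lit 0, nat_lit 2, nat_lit 3, nat_lit 2, nat_lit 0, nat_lit 0, nat_lit 0, nat_lit 3, nat_lit 2])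
 (.node (nat_lit 749) [nat_lit 6104, nat_lit 4977, nat_lit 1993] (.stk [nat_lit 1, nat_lit 2, nat_lit 0, nat_lit 3, nat_lit 0, nat_lit 0, nat_lit 2, nat_lit 3, nat_lit 2, nat_lit 0, nat_lit 0, nat_lit 0, nat_lit 3, nat_lit 2])
 (.done)
 (.done))
 (.done)))
 (.node (nat_lit 31671) [nat_lit 192022, nat_lit 174395, nat_lit 31674] (.stk [nat_lit 1, nat_lit 2, nat_lit 1, nat_lit 0, nat_lit 0, nat_lit 0, nat_lit 2, nat_lit 1, nat_lit 0, nat_lit 0, nat_lit 3, nat_lit 1, nat_lit 0, nat_lit 2])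
 (.node (nat_lit 749) [nat_lit 7217, nat_lit 3546, nat_lit 6473] (.stk [nat_lit 1, nat_lit 2, nat_lit 3, nat_lit 0, nat_lit 0, nat_lit 0, nat_lit 2, nat_lit 1, nat_lit 0, nat_lit 3, nat_lit 0, nat_lit 0, nat_lit 3, nat_lit 2])
 (.node (nat_lit 1011) [nat_lit 3545, nat_lit 3647, nat_lit 6106] (.stk [nat_lit 1, nat_lit 2, nat_lit 1, nat_lit 0, nat_lit 0, nat_lit 0, nat_lit 2, nat_lit 1, nat_lit 0, nat_lit 0, nat_lit 3, nat_lit 1, nat_lit 0, nat_lit 2])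
 (.done)
 (.done))
 (.node (nat_lit 1011) [nat_lit 3545, nat_lit 1619, nat_lit 3647] (.stk [nat_lit 1, nat_lit 2, nat_lit 0, nat_lit 3, nat_lit 0, nat_lit 0, nat_lit 2, nat_lit 3, nat_lit 2, nat_lit 0, nat_lit 0, nat_lit 0, nat_lit 3, nat_lit 2])
 (.node (nat_lit 749) [nat_lit 4977, nat_lit 6104, nat_lit 1993] (.stk [nat_lit 1, nat_lit 3, nat_lit 1, nat_lit 0, nat_lit 0, nat_lit 0, nat_lit 2, nat_lit 1, nat_lit 0, nat_lit 3, nat_lit 0, nat_lit 0, nat_lit 3, nat_lit 1])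
 (.done)
 (.done))
 (.done)))
 (.done))))
 (.done))
 (.done))
 [nat_lit 31671, nat_lit 1011, nat_lit 749, nat_lit 664, nat_lit 11] 5 1485 = true := by decide +kernel
theorem g8_wd24_3 : wdChk F24.cd (.ps [nat_lit 2869, nat_lit 26337, nat_lit 8262, nat_lit 28663, nat_lit 31671, nat_lit 31672]) (.node (nat_lit 797) [nat_lit 224192, nat_lit 187952, nat_lit 105118, nat_lit 169503, nat_lit 167829] (.stk [nat_lit 1, nat_lit 2, nat_lit 1, nat_lit 3, nat_lit 4, nat_lit 5, nat_lit 0, nat_lit 0, nat_lit 0, nat_lit 5, nat_lit 4, nat_lit 0, nat_lit 0, nat_lit 0, nat_lit 3, nat_lit 2, nat_lit 5, nat_lit 4, nat_lit 0, nat_lit 0, nat_lit 0, nat_lit 4, nat_lit 0, nat_lit 5, nat_lit 0, nat_lit 0, nat_lit 4, nat_lit 3, nat_lit 1, nat_lit 2, nat_lit 0, nat_lit 0, nat_lit 5, nat_lit 0, nat_lit 0, nat_lit 0, nat_lit 5, nat_lit 2, nat_lit 3, nat_lit 4, nat_lit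 0, nat_lit 0, nat_lit 4, nat_lit 0, nat_lit 0, nat_lit 3, nat_lit 0, nat_lit 0, nat_lit 0, nat_lit 3, nat_lit 1, nat_lit 2, nat_lit 1, nat_lit 0, nat_lit 4, nat_lit 5, nat_lit 0, nat_lit 0, nat_lit 0, nat_lit 5, nat_lit 3, nat_lit 0, nat_lit 4, nat_lit 0, nat_lit 0, nat_lit 0, nat_lit 2, nat_lit 1, nat_lit 4, nat_lit 0, nat_lit 0, nat_lit 4, nat_lit 1, nat_lit 0, nat_lit 5, nat_lit 4, nat_lit 0, nat_lit 0, nat_lit 0, nat_lit 5, nat_lit 4, nat_lit 0, nat_lit 0, nat_lit 0, nat_lit 4, nat_lit 2, nat_lit 0, nat_lit 5, nat_lit 1, nat_lit 2, nat_lit 0, nat_lit 0, nat_lit 2, nat_lit 0, nat_lit 0, nat_lit 0, nat_lit 0, nat_lit 5, nat_lit 1, nat_lit 2, nat_lit 1, nat_lit 0, nat_lit 4, nat_lit 0, nat_lit 0, nat_lit 3, nat_lit 5, nat_lit 0, nat_lit 0, nat_lit 0, nat_lit 2, nat_lit 1, nat_lit 4, nat_lit 0, nat_lit 0, nat_lit 3, nat_lit 0, nat_lit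 0, nat_lit 4, nat_lit 3, nat_lit 2, nat_lit 0, nat_lit 0, nat_lit 0, nat_lit 0, nat_lit 0, nat_lit 2, nat_lit 1, nat_lit 3, nat_lit 1, nat_lit 0, nat_lit 4, nat_lit 0, nat_lit 5, nat_lit 0, nat_lit 0, nat_lit 4, nat_lit 3, nat_lit 2, nat_lit 0, nat_lit 5, nat_lit 0, nat_lit 0, nat_lit 0, nat_lit 5, nat_lit 1, nat_lit 4, nat_lit 0, nat_lit 0, nat_lit 3, nat_lit 0, nat_lit 0, nat_lit 0, nat_lit 3, nat_lit 1, nat_lit 2, nat_lit 4, nat_lit 0, nat_lit 0, nat_lit 4, nat_lit 2, nat_lit 0, nat_lit 5, nat_lit 0, nat_lit 0, nat_lit 0, nat_lit 2, nat_lit 1, nat_lit 4, nat_lit 0, nat_lit 0, nat_lit 5, nat_lit 4, nat_lit 0, nat_lit 0, nat_lit 0, nat_lit 4, nat_lit 1, nat_lit 0, nat_lit 0, nat_lit 0, nat_lit 5, nat_lit 1, nat_lit 2, nat_lit 4, nat_lit 0, nat_lit 0, nat_lit 0, nat_lit 2, nat_lit 1, nat_lit 4, nat_lit 0, nat_lit 0, nat_lit 3, nat_lit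 0, nat_lit 0, nat_lit 4, nat_lit 0, nat_lit 0, nat_lit 0, nat_lit 3, nat_lit 1, nat_lit 5, nat_lit 1, nat_lit 0, nat_lit 2, nat_lit 0, nat_lit 3, nat_lit 4, nat_lit 0, nat_lit 0, nat_lit 4, nat_lit 0, nat_lit 0, nat_lit 0, nat_lit 2, nat_lit 5, nat_lit 1, nat_lit 0, nat_lit 2, nat_lit 0, nat_lit 3, nat_lit 4, nat_lit 0, nat_lit 0, nat_lit 4, nat_lit 0, nat_lit 0, nat_lit 0, nat_lit 4, nat_lit 3, nat_lit 0, nat_lit 0, nat_lit 5, nat_lit 1, nat_lit 4, nat_lit 0, nat_lit 0, nat_lit 2, nat_lit 4, nat_lit 0, nat_lit 0, nat_lit 3, nat_lit 1, nat_lit 0, nat_lit 2, nat_lit 0, nat_lit 0, nat_lit 0, nat_lit 0, nat_lit 4, nat_lit 3, nat_lit 1, nat_lit 2, nat_lit 0, nat_lit 5, nat_lit 0, nat_lit 0, nat_lit 2, nat_lit 1, nat_lit 0, nat_lit 5, nat_lit 0, nat_lit 0, nat_lit 5, nat_lit 1, nat_lit 0, nat_lit 2, nat_lit 0, nat_lit 0, nat_lit 0, nat_lit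 0, nat_lit 5, nat_lit 1, nat_lit 3, nat_lit 1, nat_lit 0, nat_lit 4, nat_lit 0, nat_lit 5, nat_lit 0, nat_lit 0, nat_lit 4, nat_lit 3, nat_lit 5, nat_lit 0, nat_lit 0, nat_lit 0, nat_lit 0, nat_lit 2, nat_lit 3, nat_lit 2, nat_lit 0, nat_lit 4, nat_lit 0, nat_lit 5, nat_lit 0, nat_lit 0, nat_lit 4, nat_lit 3, nat_lit 5, nat_lit 0, nat_lit 0, nat_lit 0, nat_lit 0, nat_lit 3, nat_lit 1, nat_lit 4, nat_lit 5, nat_lit 0, nat_lit 0, nat_lit 0, nat_lit 2, nat_lit 4, nat_lit 5, nat_lit 0, nat_lit 0, nat_lit 0, nat_lit 4])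
 (.node (nat_lit 1363) [nat_lit 126266, nat_lit 212637, nat_lit 207810, nat_lit 4012] (.stk [nat_lit 1, nat_lit 2, nat_lit 1, nat_lit 4, nat_lit 0, nat_lit 0, nat_lit 3, nat_lit 4, nat_lit 0, nat_lit 0, nat_lit 4, nat_lit 0, nat_lit 0, nat_lit 3, nat_lit 1, nat_lit 0, nat_lit 0, nat_lit 4, nat_lit 1, nat_lit 0, nat_lit 2, nat_lit 0, nat_lit 3, nat_lit 0, nat_lit 0, nat_lit 0, nat_lit 2, nat_lit 1, nat_lit 3, nat_lit 0, nat_lit 0, nat_lit 4, nat_lit 2, nat_lit 0, nat_lit 0, nat_lit 0, nat_lit 3, nat_lit 1, nat_lit 4, nat_lit 0, nat_lit 0, nat_lit 2, nat_lit 0, nat_lit 4, nat_lit 0, nat_lit 0, nat_lit 4, nat_lit 1, nat_lit 0, nat_lit 2])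
 (.done)
 (.done))
 (.done))
 [nat_lit 1363, nat_lit 797] 2 162 = true := by decide +kernel
theorem g8_wd24_4 : wdChk F24.cd (.ps [nat_lit 31672, nat_lit 2011, nat_lit 31671, nat_lit 29449]) (.done)
 [] 0 0 = true := by decide +kernel

variable {G : Type*} [Group G] {D : Set G} (M : Mdl G D F24.cd)

/-- representatives, widths and numbers of centralised transpositions -/
def g8_rp24 : Fin 5 → Ex := ![.ps [31671, 31672], .ps [27519, 30848, 31671, 31672], .ps [31671, 31672, 170213, 31671, 31672, 170213], .ps [2869, 26337, 8262, 28663, 31671, 31672], .ps [31672, 2011, 31671, 29449]]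
def g8_w24 : Fin 5 → ℕ := ![8, 6, 5, 2, 0]
def g8_f24 : Fin 5 → ℕ := ![3240, 378, 1485, 162, 0]

theorem g8_rep24 (i : Fin 5) : orderOf (M.ev (g8_rp24 i)) = 3 ∧ wd D (M.ev (g8_rp24 i)) = g8_w24 i ∧
    {y | y ∈ D ∧ Commute (M.ev (g8_rp24 i)) y}.ncard = g8_f24 i := by
  fin_cases i
  exacts [wdChk_spec M g8_wd24_0, wdChk_spec M g8_wd24_1, wdChk_spec M g8_wd24_2, wdChk_spec M g8_wd24_3, wdChk_spec M g8_wd24_4]

variable [Finite G] (hG : Nat.card G = 2 ^ 22 * 3 ^ 16 * 5 ^ 2 * 7 ^ 3 * 11 * 13 * 17 * 23 * 29)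
include hG

theorem g8_all24 {y : G} (hy : orderOf y = 3) : ∃ i, IsConj (M.ev (g8_rp24 i)) y := by
  obtain ⟨g, hg⟩ := Q24b.exists_pc M
  obtain ⟨r, hr, e⟩ := hg.all3 (r := 2 ^ 22 * 5 ^ 2 * 7 ^ 3 * 11 * 13 * 17 * 23 * 29) (by rw [hG]; norm_num) (by decide) Q24b.hinv Q24b.hjs Q24b.htop hy
  simp only [Q24b.reps, List.mem_cons, List.not_mem_nil, or_false] at hr
  rcases hr with rfl | rfl | rfl | rfl | rfl
  exacts [⟨0, e⟩, ⟨1, e⟩, ⟨2, e⟩, ⟨3, e⟩, ⟨4, e⟩]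

include M in
/-- elements of order 3 with the same width are conjugate -/
theorem g8_conjW24 {x y : G} (hx : orderOf x = 3) (hy : orderOf y = 3) (e : wd D x = wd D y) : IsConj x y := by
  obtain ⟨i, hi⟩ := g8_all24 M hG hx
  obtain ⟨j, hj⟩ := g8_all24 M hG hy
  rw [← wd_conj M.t3 hi, ← wd_conj M.t3 hj, (g8_rep24 M i).2.1, (g8_rep24 M j).2.1] at e
  obtain rfl : i = j := by clear hi hj; revert i j; decide
  exact hi.symm.trans hj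

include M in
/-- the width is determined by the number of centralised transpositions -/
theorem g8_wdF24 {x : G} (hx : orderOf x = 3) (i : Fin 5) (e : {y | y ∈ D ∧ Commute x y}.ncard = g8_f24 i) :
    wd D x = g8_w24 i := by
  obtain ⟨j, hj⟩ := g8_all24 M hG hx
  rw [← g8_ncard_conj M.t3 hj, (g8_rep24 M j).2.2] at e
  obtain rfl : i = j := by clear hj; revert i j; decide
  rw [← wd_conj M.t3 hj, (g8_rep24 M i).2.1]

include M in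
theorem g8_sub24 : ∃ Y : Fin 5 → Subgroup G, (∀ i, Nat.card (Y i) = 3) ∧
    (∀ i j, (∃ g : G, (Y i).map (MulAut.conj g).toMonoidHom = Y j) → i = j) ∧
    (∀ X : Subgroup G, Nat.card X = 3 → ∃ i, ∃ g : G, X.map (MulAut.conj g).toMonoidHom = Y i) ∧
    ∀ i, commutingWidth (D ∩ (centralizer ((Y i : Subgroup G) : Set G) : Set G)) = g8_w24 i := by
  obtain ⟨a, b, c⟩ := g8_classes3 M.t3 (r := fun i => M.ev (g8_rp24 i)) (fun i => (g8_rep24 M i).1)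
    (fun i j e => by
      rw [(g8_rep24 M i).2.1, (g8_rep24 M j).2.1] at e
      revert i j; decide) fun y hy => g8_all24 M hG hy
  exact ⟨_, a, b, c, fun i => (g8_rep24 M i).2.1⟩

end Cfsg.Agent.Fi
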