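import Cfsg.Agent.Fi.Gg
import Cfsg.Agent.Fi.Q23b

/-! Classes of elements of order 3 in the model with tables `F23`. -/

set_option autoImplicit false
set_option maxRecDepth 100000
set_option Elab.async false

namespace Cfsg.Agent.Fi

open Cfsg.Agent.FM Subgroup

theorem g8_wd23_0 : wdChk F23.cd (.ps [nat_lit 3510, nat_lit 3511]) (.node (nat_lit 0) [nat_lit 940, nat_lit 57, nat_lit 1033, nat_lit 13, nat_lit 300, nat_lit 747, nat_lit 1187] (.stk [nat_lit 1, nat_lit 2, nat_lit 1, nat_lit 4, nat_lit 1, nat_lit 0, nat_lit 3, nat_lit 5, nat_lit 6, nat_lit 1, nat_lit 0, nat_lit 0, nat_lit 0, nat_lit 0, nat_lit 7, nat_lit 0, nat_lit 0, nat_lit 6, nat_lit 1, nat_lit 7, nat_lit 4, nat_lit 1, nat_lit 5, nat_lit 0, nat_lit 0, nat_lit 5, nat_lit 0, nat_lit 0, nat_lit 0, nat_lit 0, nat_lit 0, nat_lit 0, nat_lit 4, nat_lit 1, nat_lit 3, nat_lit 6, nat_lit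 5, nat_lit 0, nat_lit 0, nat_lit 0, nat_lit 5, nat_lit 6, nat_lit 1, nat_lit 0, nat_lit 7, nat_lit 0, nat_lit 0, nat_lit 7, nat_lit 0, nat_lit 0, nat_lit 6, nat_lit 5, nat_lit 1, nat_lit 0, nat_lit 3, nat_lit 0, nat_lit 7, nat_lit 0, nat_lit 0, nat_lit 7, nat_lit 1, nat_lit 2, nat_lit 0, nat_lit 0, nat_lit 4, nat_lit 0, nat_lit 0, nat_lit 0, nat_lit 7, nat_lit 0, nat_lit 0, nat_lit 3, nat_lit 1, nat_lit 6, nat_lit 5, nat_lit 0, nat_lit 0, nat_lit 0, nat_lit 5, nat_lit 6, nat_lit 1, nat_lit 7, nat_lit 0, nat_lit 0, nat_lit 0, nat_lit 0, nat_lit 0, nat_lit 0, nat_lit 5, nat_lit 3, nat_lit 1, nat_lit 5, nat_lit 0, nat_lit 6, nat_lit 0, nat_lit 0, nat_lit 0, nat_lit 7, nat_lit 1, nat_lit 6, nat_lit 4, nat_lit 0, nat_lit 0, nat_lit 0, nat_lit 3, nat_lit 0, nat_lit 4, nat_lit 6, nat_lit 1, nat_lit 0, nat_lit 0, nat_lit 0, nat_lit 0, nat_lit 0,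 nat_lit 6, nat_lit 1, nat_lit 3, nat_lit 5, nat_lit 1, nat_lit 7, nat_lit 0, nat_lit 0, nat_lit 4, nat_lit 7, nat_lit 0, nat_lit 0, nat_lit 0, nat_lit 0, nat_lit 4, nat_lit 5, nat_lit 1, nat_lit 7, nat_lit 0, nat_lit 0, nat_lit 3, nat_lit 7, nat_lit 0, nat_lit 0, nat_lit 0, nat_lit 0, nat_lit 5, nat_lit 3, nat_lit 1, nat_lit 0, nat_lit 0, nat_lit 7, nat_lit 1, nat_lit 5, nat_lit 0, nat_lit 6, nat_lit 0, nat_lit 0, nat_lit 4, nat_lit 0, nat_lit 0, nat_lit 0, nat_lit 7, nat_lit 1, nat_lit 2, nat_lit 4, nat_lit 0, nat_lit 0, nat_lit 3, nat_lit 0, nat_lit 4, nat_lit 0, nat_lit 5, nat_lit 6, nat_lit 0, nat_lit 0, nat_lit 0, nat_lit 0, nat_lit 0, nat_lit 7, nat_lit 1, nat_lit 2, nat_lit 0, nat_lit 5, nat_lit 3, nat_lit 0, nat_lit 4, nat_lit 0, nat_lit 6, nat_lit 0, nat_lit 0, nat_lit 0, nat_lit 4, nat_lit 0, nat_lit 0, nat_lit 0, nat_lit 7, nat_lit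 0, nat_lit 0, nat_lit 3, nat_lit 4, nat_lit 5, nat_lit 1, nat_lit 6, nat_lit 0, nat_lit 0, nat_lit 2, nat_lit 0, nat_lit 0, nat_lit 6, nat_lit 1, nat_lit 2, nat_lit 5, nat_lit 1, nat_lit 0, nat_lit 0, nat_lit 7, nat_lit 1, nat_lit 0, nat_lit 0, nat_lit 0, nat_lit 3, nat_lit 2, nat_lit 0, nat_lit 0, nat_lit 5, nat_lit 2, nat_lit 0, nat_lit 0, nat_lit 7, nat_lit 0, nat_lit 0, nat_lit 4, nat_lit 0, nat_lit 0, nat_lit 0, nat_lit 5, nat_lit 4, nat_lit 1, nat_lit 0, nat_lit 6, nat_lit 0, nat_lit 0, nat_lit 0, nat_lit 6, nat_lit 1, nat_lit 5, nat_lit 2, nat_lit 0, nat_lit 4, nat_lit 0, nat_lit 0, nat_lit 0, nat_lit 4, nat_lit 5, nat_lit 1, nat_lit 0, nat_lit 2, nat_lit 0, nat_lit 0, nat_lit 7, nat_lit 0, nat_lit 0, nat_lit 0, nat_lit 0, nat_lit 4, nat_lit 3, nat_lit 2, nat_lit 1, nat_lit 5, nat_lit 6, nat_lit 0, nat_lit 0, nat_lit 6, nat_lit 5,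 nat_lit 0, nat_lit 0, nat_lit 0, nat_lit 7, nat_lit 0, nat_lit 0, nat_lit 5, nat_lit 6, nat_lit 1, nat_lit 0, nat_lit 7, nat_lit 0, nat_lit 0, nat_lit 7, nat_lit 0, nat_lit 0, nat_lit 7, nat_lit 0, nat_lit 0, nat_lit 5, nat_lit 1, nat_lit 2, nat_lit 0, nat_lit 6, nat_lit 1, nat_lit 0, nat_lit 0, nat_lit 0, nat_lit 3, nat_lit 2, nat_lit 0, nat_lit 0, nat_lit 6, nat_lit 1, nat_lit 2, nat_lit 0, nat_lit 3, nat_lit 2, nat_lit 0, nat_lit 0, nat_lit 4, nat_lit 0, nat_lit 0, nat_lit 0, nat_lit 0, nat_lit 0, nat_lit 6, nat_lit 5, nat_lit 1, nat_lit 2, nat_lit 0, nat_lit 3, nat_lit 0, nat_lit 4, nat_lit 0, nat_lit 0, nat_lit 7, nat_lit 0, nat_lit 0, nat_lit 7, nat_lit 1, nat_lit 2, nat_lit 0, nat_lit 0, nat_lit 4, nat_lit 3, nat_lit 0, nat_lit 0, nat_lit 0, nat_lit 0, nat_lit 7, nat_lit 0, nat_lit 0, nat_lit 2, nat_lit 1, nat_lit 4, nat_lit 5, nat_lit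 1, nat_lit 6, nat_lit 1, nat_lit 7, nat_lit 3, nat_lit 0, nat_lit 0, nat_lit 0, nat_lit 0, nat_lit 0, nat_lit 3, nat_lit 6, nat_lit 0, nat_lit 0, nat_lit 6, nat_lit 1, nat_lit 5, nat_lit 7, nat_lit 0, nat_lit 0, nat_lit 7, nat_lit 3, nat_lit 0, nat_lit 4, nat_lit 0, nat_lit 0, nat_lit 0, nat_lit 0, nat_lit 0, nat_lit 0, nat_lit 5, nat_lit 3, nat_lit 1, nat_lit 6, nat_lit 4, nat_lit 7, nat_lit 1, nat_lit 0, nat_lit 0, nat_lit 0, nat_lit 0, nat_lit 0, nat_lit 6, nat_lit 1, nat_lit 4, nat_lit 7, nat_lit 0, nat_lit 0, nat_lit 5, nat_lit 0, nat_lit 0, nat_lit 4, nat_lit 1, nat_lit 7, nat_lit 0, nat_lit 0, nat_lit 0, nat_lit 7, nat_lit 0, nat_lit 0, nat_lit 7, nat_lit 4, nat_lit 0, nat_lit 0, nat_lit 0, nat_lit 4, nat_lit 1, nat_lit 6, nat_lit 0, nat_lit 7, nat_lit 0, nat_lit 0, nat_lit 7, nat_lit 0, nat_lit 0, nat_lit 6, nat_lit 1, nat_lit 7,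 nat_lit 4, nat_lit 1, nat_lit 0, nat_lit 0, nat_lit 0, nat_lit 0, nat_lit 0, nat_lit 0, nat_lit 6, nat_lit 5, nat_lit 1, nat_lit 3, nat_lit 0, nat_lit 7, nat_lit 0, nat_lit 0, nat_lit 4, nat_lit 1, nat_lit 3, nat_lit 7, nat_lit 0, nat_lit 0, nat_lit 5, nat_lit 0, nat_lit 0, nat_lit 7, nat_lit 0, nat_lit 0, nat_lit 0, nat_lit 0, nat_lit 0, nat_lit 7, nat_lit 3, nat_lit 1, nat_lit 5, nat_lit 0, nat_lit 6, nat_lit 0, nat_lit 0, nat_lit 5, nat_lit 1, nat_lit 0, nat_lit 4, nat_lit 0, nat_lit 6, nat_lit 0, nat_lit 0, nat_lit 0, nat_lit 4, nat_lit 1, nat_lit 5, nat_lit 6, nat_lit 0, nat_lit 0, nat_lit 0, nat_lit 5, nat_lit 1, nat_lit 0, nat_lit 0, nat_lit 6, nat_lit 0, nat_lit 0, nat_lit 0, nat_lit 0, nat_lit 3, nat_lit 1, nat_lit 2, nat_lit 4, nat_lit 5, nat_lit 0, nat_lit 6, nat_lit 1, nat_lit 5, nat_lit 7, nat_lit 0, nat_lit 0, nat_lit 7, nat_lit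 3, nat_lit 0, nat_lit 4, nat_lit 0, nat_lit 0, nat_lit 0, nat_lit 0, nat_lit 0, nat_lit 5, nat_lit 1, nat_lit 6, nat_lit 0, nat_lit 0, nat_lit 4, nat_lit 6, nat_lit 0, nat_lit 0, nat_lit 0, nat_lit 6, nat_lit 1, nat_lit 4, nat_lit 7, nat_lit 0, nat_lit 0, nat_lit 5, nat_lit 0, nat_lit 0, nat_lit 4, nat_lit 1, nat_lit 7, nat_lit 0, nat_lit 0, nat_lit 5, nat_lit 0, nat_lit 0, nat_lit 0, nat_lit 0, nat_lit 4, nat_lit 6, nat_lit 5, nat_lit 0, nat_lit 0, nat_lit 0, nat_lit 5, nat_lit 6, nat_lit 1, nat_lit 0, nat_lit 4, nat_lit 3, nat_lit 0, nat_lit 0, nat_lit 7, nat_lit 0, nat_lit 0, nat_lit 7, nat_lit 4, nat_lit 0, nat_lit 0, nat_lit 0, nat_lit 6, nat_lit 4, nat_lit 0, nat_lit 5, nat_lit 1, nat_lit 4, nat_lit 0, nat_lit 0, nat_lit 7, nat_lit 4, nat_lit 0, nat_lit 0, nat_lit 0, nat_lit 7, nat_lit 1, nat_lit 0, nat_lit 0, nat_lit 0, nat_lit 7,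 nat_lit 0, nat_lit 0, nat_lit 4, nat_lit 1, nat_lit 2, nat_lit 5, nat_lit 0, nat_lit 6, nat_lit 1, nat_lit 7, nat_lit 0, nat_lit 0, nat_lit 0, nat_lit 0, nat_lit 6, nat_lit 5, nat_lit 0, nat_lit 0, nat_lit 0, nat_lit 5, nat_lit 2, nat_lit 1, nat_lit 0, nat_lit 0, nat_lit 7, nat_lit 1, nat_lit 0, nat_lit 0, nat_lit 0, nat_lit 6, nat_lit 1, nat_lit 2, nat_lit 0, nat_lit 3, nat_lit 0, nat_lit 0, nat_lit 7, nat_lit 0, nat_lit 0, nat_lit 7, nat_lit 0, nat_lit 0, nat_lit 0, nat_lit 5, nat_lit 4, nat_lit 1, nat_lit 2, nat_lit 6, nat_lit 1, nat_lit 5, nat_lit 7, nat_lit 0, nat_lit 0, nat_lit 7, nat_lit 3, nat_lit 0, nat_lit 0, nat_lit 0, nat_lit 0, nat_lit 0, nat_lit 5, nat_lit 0, nat_lit 6, nat_lit 0, nat_lit 0, nat_lit 0, nat_lit 6, nat_lit 1, nat_lit 2, nat_lit 0, nat_lit 5, nat_lit 0, nat_lit 0, nat_lit 7, nat_lit 3, nat_lit 1, nat_lit 0, nat_lit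 0, nat_lit 4, nat_lit 1, nat_lit 5, nat_lit 0, nat_lit 0, nat_lit 0, nat_lit 0, nat_lit 0, nat_lit 7, nat_lit 1, nat_lit 2, nat_lit 0, nat_lit 4, nat_lit 0, nat_lit 5, nat_lit 6, nat_lit 0, nat_lit 0, nat_lit 0, nat_lit 3, nat_lit 0, nat_lit 0, nat_lit 0, nat_lit 7, nat_lit 1, nat_lit 5, nat_lit 2, nat_lit 0, nat_lit 4, nat_lit 6, nat_lit 0, nat_lit 0, nat_lit 0, nat_lit 6, nat_lit 4, nat_lit 0, nat_lit 0, nat_lit 0, nat_lit 4, nat_lit 6])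
 (.node (nat_lit 10) [nat_lit 784, nat_lit 1407, nat_lit 714, nat_lit 755, nat_lit 90, nat_lit 1431] (.stk [nat_lit 1, nat_lit 2, nat_lit 1, nat_lit 4, nat_lit 3, nat_lit 6, nat_lit 0, nat_lit 0, nat_lit 0, nat_lit 6, nat_lit 3, nat_lit 5, nat_lit 0, nat_lit 0, nat_lit 5, nat_lit 0, nat_lit 0, nat_lit 0, nat_lit 5, nat_lit 0, nat_lit 0, nat_lit 3, nat_lit 4, nat_lit 1, nat_lit 2, nat_lit 5, nat_lit 0, nat_lit 0, nat_lit 0, nat_lit 5, nat_lit 2, nat_lit 6, nat_lit 0, nat_lit 0, nat_lit 6, nat_lit 3, nat_lit 0, nat_lit 0, nat_lit 0, nat_lit 0, nat_lit 6, nat_lit 1, nat_lit 2, nat_lit 0, nat_lit 0, nat_lit 0, nat_lit 0, nat_lit 0, nat_lit 2, nat_lit 1, nat_lit 3, nat_lit 4, nat_lit 5, nat_lit 2, nat_lit 0, nat_lit 0, nat_lit 0, nat_lit 6, nat_lit 0, nat_lit 0, nat_lit 4, nat_lit 1, nat_lit 3, nat_lit 0, nat_lit 0, nat_lit 3, nat_lit 6, nat_lit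 1, nat_lit 0, nat_lit 5, nat_lit 0, nat_lit 0, nat_lit 0, nat_lit 0, nat_lit 6, nat_lit 1, nat_lit 3, nat_lit 0, nat_lit 0, nat_lit 3, nat_lit 4, nat_lit 1, nat_lit 0, nat_lit 0, nat_lit 5, nat_lit 0, nat_lit 0, nat_lit 5, nat_lit 2, nat_lit 4, nat_lit 0, nat_lit 0, nat_lit 4, nat_lit 0, nat_lit 0, nat_lit 0, nat_lit 0, nat_lit 3, nat_lit 2, nat_lit 0, nat_lit 5, nat_lit 0, nat_lit 0, nat_lit 4, nat_lit 1, nat_lit 5, nat_lit 0, nat_lit 6, nat_lit 0, nat_lit 0, nat_lit 0, nat_lit 5, nat_lit 2, nat_lit 6, nat_lit 3, nat_lit 0, nat_lit 0, nat_lit 0, nat_lit 6, nat_lit 1, nat_lit 2, nat_lit 0, nat_lit 3, nat_lit 0, nat_lit 0, nat_lit 3, nat_lit 5, nat_lit 0, nat_lit 0, nat_lit 4, nat_lit 0, nat_lit 5, nat_lit 0, nat_lit 0, nat_lit 0, nat_lit 6, nat_lit 1, nat_lit 0, nat_lit 5, nat_lit 4, nat_lit 0, nat_lit 0, nat_lit 0, nat_lit 0, nat_lit 3,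 nat_lit 2, nat_lit 4, nat_lit 1, nat_lit 0, nat_lit 0, nat_lit 6, nat_lit 1, nat_lit 0, nat_lit 5, nat_lit 0, nat_lit 0, nat_lit 0, nat_lit 4, nat_lit 1, nat_lit 3, nat_lit 0, nat_lit 5, nat_lit 0, nat_lit 6, nat_lit 3, nat_lit 0, nat_lit 0, nat_lit 0, nat_lit 3, nat_lit 0, nat_lit 0, nat_lit 5, nat_lit 6, nat_lit 1, nat_lit 0, nat_lit 4, nat_lit 0, nat_lit 0, nat_lit 0, nat_lit 6, nat_lit 1, nat_lit 3, nat_lit 0, nat_lit 4, nat_lit 3, nat_lit 0, nat_lit 5, nat_lit 0, nat_lit 0, nat_lit 0, nat_lit 3, nat_lit 5, nat_lit 0, nat_lit 0, nat_lit 5, nat_lit 0, nat_lit 0, nat_lit 0, nat_lit 4, nat_lit 3, nat_lit 5, nat_lit 1, nat_lit 4, nat_lit 0, nat_lit 6, nat_lit 0, nat_lit 0, nat_lit 2, nat_lit 0, nat_lit 0, nat_lit 6, nat_lit 1, nat_lit 0, nat_lit 0, nat_lit 0, nat_lit 5, nat_lit 1, nat_lit 0, nat_lit 4, nat_lit 0, nat_lit 6, nat_lit 0, nat_lit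 0, nat_lit 0, nat_lit 5, nat_lit 2, nat_lit 1, nat_lit 6, nat_lit 4, nat_lit 0, nat_lit 0, nat_lit 0, nat_lit 4, nat_lit 3, nat_lit 0, nat_lit 6, nat_lit 0, nat_lit 0, nat_lit 0, nat_lit 4, nat_lit 1, nat_lit 0, nat_lit 6, nat_lit 0, nat_lit 0, nat_lit 0, nat_lit 6, nat_lit 3])
 (.node (nat_lit 13) [nat_lit 702, nat_lit 846, nat_lit 788, nat_lit 1050, nat_lit 1203] (.stk [nat_lit 1, nat_lit 2, nat_lit 1, nat_lit 0, nat_lit 4, nat_lit 0, nat_lit 5, nat_lit 3, nat_lit 4, nat_lit 0, nat_lit 0, nat_lit 4, nat_lit 0, nat_lit 0, nat_lit 0, nat_lit 3, nat_lit 1, nat_lit 4, nat_lit 0, nat_lit 5, nat_lit 0, nat_lit 0, nat_lit 0, nat_lit 5, nat_lit 2, nat_lit 0, nat_lit 4, nat_lit 2, nat_lit 0, nat_lit 0, nat_lit 0, nat_lit 0, nat_lit 2, nat_lit 1, nat_lit 3, nat_lit 0, nat_lit 5, nat_lit 0, nat_lit 0, nat_lit 4, nat_lit 2, nat_lit 3, nat_lit 0,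 nat_lit 0, nat_lit 0, nat_lit 5, nat_lit 1, nat_lit 0, nat_lit 3, nat_lit 2, nat_lit 0, nat_lit 4, nat_lit 1, nat_lit 0, nat_lit 0, nat_lit 0, nat_lit 4, nat_lit 0, nat_lit 0, nat_lit 0, nat_lit 3, nat_lit 1, nat_lit 2, nat_lit 0, nat_lit 0, nat_lit 4, nat_lit 1, nat_lit 2, nat_lit 0, nat_lit 0, nat_lit 0, nat_lit 0, nat_lit 4, nat_lit 2, nat_lit 1, nat_lit 0, nat_lit 3, nat_lit 1, nat_lit 0, nat_lit 0, nat_lit 5, nat_lit 0, nat_lit 0, nat_lit 5, nat_lit 3])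
 (.node (nat_lit 18) [nat_lit 1203, nat_lit 720, nat_lit 693, nat_lit 786] (.stk [nat_lit 1, nat_lit 2, nat_lit 4, nat_lit 3, nat_lit 0, nat_lit 0, nat_lit 0, nat_lit 3, nat_lit 0, nat_lit 4, nat_lit 0, nat_lit 0, nat_lit 2, nat_lit 3, nat_lit 0, nat_lit 4, nat_lit 0, nat_lit 0, nat_lit 4, nat_lit 3])
 (.small)
 (.done))
 (.done))
 (.done))
 (.done))
 [nat_lit 693, nat_lit 146, nat_lit 107, nat_lit 18, nat_lit 13, nat_lit 10, nat_lit 0] 7 351 = true := by decide +kernel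
theorem g8_wd23_1 : wdChk F23.cd (.ps [nat_lit 1387, nat_lit 3510, nat_lit 711, nat_lit 3511]) (.node (nat_lit 10) [nat_lit 6741, nat_lit 6827, nat_lit 701, nat_lit 7599, nat_lit 8200, nat_lit 792] (.stk [nat_lit 1, nat_lit 2, nat_lit 1, nat_lit 3, nat_lit 0, nat_lit 5, nat_lit 6, nat_lit 0, nat_lit 0, nat_lit 6, nat_lit 0, nat_lit 0, nat_lit 3, nat_lit 2, nat_lit 0, nat_lit 4, nat_lit 0, nat_lit 0, nat_lit 4, nat_lit 3, nat_lit 0, nat_lit 5, nat_lit 1, nat_lit 0, nat_lit 0, nat_lit 0, nat_lit 5, nat_lit 2, nat_lit 4, nat_lit 3, nat_lit 0, nat_lit 0, nat_lit 6, nat_lit 0, nat_lit 0, nat_lit 0, nat_lit 0, nat_lit 3, nat_lit 1, nat_lit 0, nat_lit 2, nat_lit 4, nat_lit 5, nat_lit 0, nat_lit 0, nat_lit 5, nat_lit 6, nat_lit 0, nat_lit 0, nat_lit 6, nat_lit 0, nat_lit 0, nat_lit 4, nat_lit 2, nat_lit 5, nat_lit 6, nat_lit 0, nat_lit 0, nat_lit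 6, nat_lit 0, nat_lit 0, nat_lit 6, nat_lit 0, nat_lit 0, nat_lit 6, nat_lit 1, nat_lit 5, nat_lit 0, nat_lit 0, nat_lit 2, nat_lit 5, nat_lit 0, nat_lit 0, nat_lit 4, nat_lit 0, nat_lit 0, nat_lit 0, nat_lit 5, nat_lit 1, nat_lit 4, nat_lit 0, nat_lit 6, nat_lit 2, nat_lit 0, nat_lit 0, nat_lit 0, nat_lit 2, nat_lit 3, nat_lit 0, nat_lit 4, nat_lit 0, nat_lit 6, nat_lit 0, nat_lit 0, nat_lit 6, nat_lit 1, nat_lit 0, nat_lit 2, nat_lit 0, nat_lit 4, nat_lit 3, nat_lit 5, nat_lit 0, nat_lit 0, nat_lit 0, nat_lit 0, nat_lit 0, nat_lit 6, nat_lit 4, nat_lit 1, nat_lit 0, nat_lit 2, nat_lit 3, nat_lit 5, nat_lit 0, nat_lit 0, nat_lit 0, nat_lit 3, nat_lit 5, nat_lit 0, nat_lit 0, nat_lit 0, nat_lit 0, nat_lit 0, nat_lit 2, nat_lit 1, nat_lit 3, nat_lit 4, nat_lit 0, nat_lit 0, nat_lit 4, nat_lit 5, nat_lit 0, nat_lit 0, nat_lit 5, nat_lit 0,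 nat_lit 0, nat_lit 3, nat_lit 2, nat_lit 0, nat_lit 4, nat_lit 1, nat_lit 5, nat_lit 0, nat_lit 0, nat_lit 0, nat_lit 6, nat_lit 1, nat_lit 5, nat_lit 0, nat_lit 0, nat_lit 0, nat_lit 0, nat_lit 5, nat_lit 2, nat_lit 4, nat_lit 0, nat_lit 0, nat_lit 6, nat_lit 1, nat_lit 0, nat_lit 4, nat_lit 3, nat_lit 0, nat_lit 0, nat_lit 0, nat_lit 0, nat_lit 6, nat_lit 4, nat_lit 0, nat_lit 0, nat_lit 0, nat_lit 3, nat_lit 1, nat_lit 5, nat_lit 0, nat_lit 0, nat_lit 2, nat_lit 5, nat_lit 0, nat_lit 0, nat_lit 4, nat_lit 3, nat_lit 5, nat_lit 6, nat_lit 0, nat_lit 0, nat_lit 6, nat_lit 0, nat_lit 0, nat_lit 6, nat_lit 0, nat_lit 0, nat_lit 0, nat_lit 4, nat_lit 3, nat_lit 1, nat_lit 5, nat_lit 2, nat_lit 0, nat_lit 0, nat_lit 0, nat_lit 2, nat_lit 5, nat_lit 0, nat_lit 0, nat_lit 5, nat_lit 1, nat_lit 0, nat_lit 2, nat_lit 0, nat_lit 0, nat_lit 0, nat_lit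 5, nat_lit 1, nat_lit 3, nat_lit 0, nat_lit 4, nat_lit 6, nat_lit 0, nat_lit 0, nat_lit 0, nat_lit 2, nat_lit 3, nat_lit 0, nat_lit 4, nat_lit 6, nat_lit 0, nat_lit 0, nat_lit 0, nat_lit 3, nat_lit 1, nat_lit 0, nat_lit 2, nat_lit 0, nat_lit 0, nat_lit 0, nat_lit 0, nat_lit 5, nat_lit 1, nat_lit 3, nat_lit 6, nat_lit 1, nat_lit 0, nat_lit 0, nat_lit 0, nat_lit 4, nat_lit 2, nat_lit 6, nat_lit 0, nat_lit 0, nat_lit 3, nat_lit 0, nat_lit 0, nat_lit 6, nat_lit 0, nat_lit 0, nat_lit 2, nat_lit 3, nat_lit 0, nat_lit 4, nat_lit 3, nat_lit 0, nat_lit 0, nat_lit 6])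
 (.node (nat_lit 11) [nat_lit 8463, nat_lit 103, nat_lit 5187, nat_lit 9136, nat_lit 5157] (.stk [nat_lit 1, nat_lit 2, nat_lit 1, nat_lit 0, nat_lit 3, nat_lit 1, nat_lit 0, nat_lit 4, nat_lit 0, nat_lit 5, nat_lit 0, nat_lit 0, nat_lit 5, nat_lit 1, nat_lit 0, nat_lit 4, nat_lit 0, nat_lit 0, nat_lit 0, nat_lit 3, nat_lit 5, nat_lit 1, nat_lit 0, nat_lit 4, nat_lit 0, nat_lit 0, nat_lit 0, nat_lit 4, nat_lit 0, nat_lit 5, nat_lit 0, nat_lit 0, nat_lit 2, nat_lit 1, nat_lit 4, nat_lit 0, nat_lit 0, nat_lit 4, nat_lit 2, nat_lit 3, nat_lit 5, nat_lit 0, nat_lit 0, nat_lit 5, nat_lit 0, nat_lit 0, nat_lit 3, nat_lit 5, nat_lit 0, nat_lit 0, nat_lit 5, nat_lit 0, nat_lit 0, nat_lit 0, nat_lit 4, nat_lit 2, nat_lit 3, nat_lit 1, nat_lit 0, nat_lit 4, nat_lit 0, nat_lit 0, nat_lit 5, nat_lit 0, nat_lit 0, nat_lit 3, nat_lit 0, nat_lit 5])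
 (.node (nat_lit 708) [nat_lit 1389, nat_lit 708] (.stk [nat_lit 1, nat_lit 2])
 (.node (nat_lit 5157) [nat_lit 8210, nat_lit 8108] (.stk [nat_lit 1, nat_lit 0, nat_lit 2])
 (.node (nat_lit 5187) [nat_lit 8087, nat_lit 8090] (.stk [nat_lit 1, nat_lit 0, nat_lit 2])
 (.done)
 (.done))
 (.node (nat_lit 5187) [nat_lit 8087, nat_lit 5187] (.stk [nat_lit 1, nat_lit 2])
 (.node (nat_lit 5157) [nat_lit 8210, nat_lit 5157] (.stk [nat_lit 1, nat_lit 2])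
 (.done)
 (.done))
 (.done)))
 (.node (nat_lit 5157) [nat_lit 8210, nat_lit 8108] (.stk [nat_lit 1, nat_lit 0, nat_lit 2])
 (.node (nat_lit 708) [nat_lit 754, nat_lit 1389] (.stk [nat_lit 1, nat_lit 0, nat_lit 2])
 (.node (nat_lit 5187) [nat_lit 8087, nat_lit 8090] (.stk [nat_lit 1, nat_lit 0, nat_lit 2])
 (.done)
 (.done))
 (.node (nat_lit 5187) [nat_lit 8087, nat_lit 8090] (.stk [nat_lit 1, nat_lit 0, nat_lit 2])
 (.node (nat_lit 708) [nat_lit 754, nat_lit 708] (.stk [nat_lit 1, nat_lit 2])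
 (.done)
 (.done))
 (.done)))
 (.node (nat_lit 5187) [nat_lit 8090, nat_lit 8087] (.stk [nat_lit 1, nat_lit 0, nat_lit 2])
 (.node (nat_lit 708) [nat_lit 754, nat_lit 708] (.stk [nat_lit 1, nat_lit 2])
 (.node (nat_lit 5157) [nat_lit 8108, nat_lit 5157] (.stk [nat_lit 1, nat_lit 2])
 (.done)
 (.done))
 (.node (nat_lit 5157) [nat_lit 8108, nat_lit 5157] (.stk [nat_lit 1, nat_lit 2])
 (.node (nat_lit 708) [nat_lit 754, nat_lit 708] (.stk [nat_lit 1, nat_lit 2])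
 (.done)
 (.done))
 (.done)))
 (.done))))
 (.done))
 (.done))
 [nat_lit 5187, nat_lit 5157, nat_lit 708, nat_lit 11, nat_lit 10] 5 135 = true := by decide +kernel
theorem g8_wd23_2 : wdChk F23.cd (.ps [nat_lit 3510, nat_lit 3511, nat_lit 27651, nat_lit 3510, nat_lit 3511, nat_lit 27651]) (.node (nat_lit 74) [nat_lit 30262, nat_lit 28358, nat_lit 26945, nat_lit 22494, nat_lit 31441] (.stk [nat_lit 1, nat_lit 2, nat_lit 1, nat_lit 3, nat_lit 2, nat_lit 4, nat_lit 0, nat_lit 0, nat_lit 4, nat_lit 0, nat_lit 5, nat_lit 3, nat_lit 0, nat_lit 4, nat_lit 0, nat_lit 0, nat_lit 0, nat_lit 4, nat_lit 0, nat_lit 5, nat_lit 2, nat_lit 1, nat_lit 0, nat_lit 3, nat_lit 0, nat_lit 4, nat_lit 0, nat_lit 0, nat_lit 3, nat_lit 0, nat_lit 0, nat_lit 0, nat_lit 3, nat_lit 1, nat_lit 2, nat_lit 0, nat_lit 4, nat_lit 3, nat_lit 0, nat_lit 0, nat_lit 0, nat_lit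 2, nat_lit 1, nat_lit 3, nat_lit 0, nat_lit 0, nat_lit 4, nat_lit 3, nat_lit 0, nat_lit 0, nat_lit 5, nat_lit 1, nat_lit 3, nat_lit 0, nat_lit 0, nat_lit 0, nat_lit 0, nat_lit 5, nat_lit 2, nat_lit 0, nat_lit 3, nat_lit 4, nat_lit 0, nat_lit 0, nat_lit 0, nat_lit 0, nat_lit 4, nat_lit 2, nat_lit 0, nat_lit 0, nat_lit 5, nat_lit 1, nat_lit 4, nat_lit 0, nat_lit 0, nat_lit 2, nat_lit 1, nat_lit 0, nat_lit 4, nat_lit 0, nat_lit 0, nat_lit 3, nat_lit 4, nat_lit 0, nat_lit 0, nat_lit 4, nat_lit 3, nat_lit 0, nat_lit 0, nat_lit 0, nat_lit 0, nat_lit 3, nat_lit 1, nat_lit 4, nat_lit 1, nat_lit 0, nat_lit 3, nat_lit 2, nat_lit 0, nat_lit 5, nat_lit 0, nat_lit 0, nat_lit 5, nat_lit 0, nat_lit 0, nat_lit 0, nat_lit 2, nat_lit 1, nat_lit 3, nat_lit 0, nat_lit 4, nat_lit 0, nat_lit 0, nat_lit 4, nat_lit 1, nat_lit 0, nat_lit 3, nat_lit 1, nat_lit 0,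 nat_lit 5, nat_lit 0, nat_lit 0, nat_lit 5, nat_lit 1, nat_lit 0, nat_lit 0, nat_lit 0, nat_lit 0, nat_lit 4, nat_lit 1, nat_lit 0, nat_lit 3, nat_lit 5, nat_lit 0, nat_lit 0, nat_lit 5, nat_lit 1, nat_lit 0, nat_lit 4, nat_lit 0, nat_lit 0, nat_lit 0, nat_lit 5, nat_lit 3, nat_lit 1, nat_lit 0, nat_lit 4, nat_lit 1, nat_lit 0, nat_lit 5, nat_lit 0, nat_lit 0, nat_lit 0, nat_lit 4, nat_lit 0, nat_lit 0, nat_lit 0, nat_lit 4, nat_lit 1, nat_lit 3, nat_lit 4, nat_lit 5, nat_lit 0, nat_lit 0, nat_lit 0, nat_lit 5, nat_lit 4, nat_lit 0, nat_lit 0, nat_lit 0, nat_lit 2, nat_lit 3, nat_lit 1, nat_lit 0, nat_lit 2, nat_lit 1, nat_lit 0, nat_lit 0, nat_lit 4, nat_lit 0, nat_lit 5, nat_lit 0, nat_lit 0, nat_lit 5, nat_lit 3, nat_lit 0, nat_lit 4, nat_lit 0, nat_lit 0, nat_lit 0, nat_lit 3, nat_lit 2, nat_lit 0, nat_lit 0, nat_lit 0, nat_lit 5, nat_lit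 1, nat_lit 2, nat_lit 0, nat_lit 3, nat_lit 1, nat_lit 0, nat_lit 4, nat_lit 0, nat_lit 0, nat_lit 4, nat_lit 5, nat_lit 0, nat_lit 0, nat_lit 0, nat_lit 2, nat_lit 1, nat_lit 3, nat_lit 0, nat_lit 0, nat_lit 3, nat_lit 2, nat_lit 5, nat_lit 0, nat_lit 0, nat_lit 0, nat_lit 4, nat_lit 0, nat_lit 0, nat_lit 3, nat_lit 1, nat_lit 4, nat_lit 0, nat_lit 0, nat_lit 2, nat_lit 4, nat_lit 0, nat_lit 5, nat_lit 0, nat_lit 0, nat_lit 4, nat_lit 2, nat_lit 0, nat_lit 5, nat_lit 0, nat_lit 0, nat_lit 0, nat_lit 0, nat_lit 0, nat_lit 2, nat_lit 1, nat_lit 3, nat_lit 1, nat_lit 4, nat_lit 0, nat_lit 5, nat_lit 0, nat_lit 0, nat_lit 5, nat_lit 4, nat_lit 0, nat_lit 0, nat_lit 0, nat_lit 4, nat_lit 0, nat_lit 5, nat_lit 1, nat_lit 4, nat_lit 0, nat_lit 0, nat_lit 2, nat_lit 0, nat_lit 4, nat_lit 1, nat_lit 0, nat_lit 0, nat_lit 0, nat_lit 0, nat_lit 3,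 nat_lit 1, nat_lit 4, nat_lit 1, nat_lit 0, nat_lit 3, nat_lit 0, nat_lit 0, nat_lit 0, nat_lit 2, nat_lit 1, nat_lit 0, nat_lit 4, nat_lit 3, nat_lit 5, nat_lit 0, nat_lit 0, nat_lit 5, nat_lit 2, nat_lit 0, nat_lit 0, nat_lit 0, nat_lit 0, nat_lit 4, nat_lit 1, nat_lit 5, nat_lit 0, nat_lit 0, nat_lit 3, nat_lit 5, nat_lit 4, nat_lit 0, nat_lit 0, nat_lit 0, nat_lit 5, nat_lit 0, nat_lit 0, nat_lit 5, nat_lit 3, nat_lit 1, nat_lit 0, nat_lit 2, nat_lit 4, nat_lit 0, nat_lit 0, nat_lit 0, nat_lit 0, nat_lit 0, nat_lit 4, nat_lit 2, nat_lit 3, nat_lit 1, nat_lit 2, nat_lit 0, nat_lit 4, nat_lit 0, nat_lit 0, nat_lit 4, nat_lit 0, nat_lit 5, nat_lit 0, nat_lit 0, nat_lit 5, nat_lit 3, nat_lit 0, nat_lit 4, nat_lit 0, nat_lit 0, nat_lit 0, nat_lit 3, nat_lit 5, nat_lit 4, nat_lit 0, nat_lit 0, nat_lit 0, nat_lit 0, nat_lit 5, nat_lit 1, nat_lit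 2, nat_lit 3, nat_lit 0, nat_lit 0, nat_lit 3, nat_lit 2, nat_lit 0, nat_lit 0, nat_lit 0, nat_lit 2, nat_lit 1, nat_lit 5, nat_lit 0, nat_lit 0, nat_lit 4, nat_lit 5, nat_lit 0, nat_lit 0, nat_lit 0, nat_lit 3, nat_lit 4, nat_lit 1, nat_lit 0, nat_lit 5, nat_lit 0, nat_lit 0, nat_lit 0, nat_lit 0, nat_lit 0, nat_lit 3, nat_lit 1, nat_lit 2, nat_lit 1, nat_lit 4, nat_lit 0, nat_lit 5, nat_lit 0, nat_lit 0, nat_lit 3, nat_lit 4, nat_lit 0, nat_lit 0, nat_lit 5, nat_lit 1, nat_lit 4, nat_lit 0, nat_lit 0, nat_lit 2, nat_lit 0, nat_lit 4, nat_lit 0, nat_lit 0, nat_lit 0, nat_lit 5, nat_lit 1, nat_lit 3, nat_lit 0, nat_lit 0, nat_lit 2, nat_lit 3, nat_lit 0, nat_lit 0, nat_lit 0, nat_lit 0, nat_lit 2, nat_lit 1, nat_lit 3, nat_lit 0, nat_lit 5, nat_lit 2, nat_lit 3, nat_lit 0, nat_lit 4, nat_lit 0, nat_lit 0, nat_lit 4, nat_lit 3, nat_lit 0,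 nat_lit 0, nat_lit 0, nat_lit 0, nat_lit 4, nat_lit 3, nat_lit 2, nat_lit 0, nat_lit 0, nat_lit 0, nat_lit 0, nat_lit 5, nat_lit 1, nat_lit 3, nat_lit 1, nat_lit 0, nat_lit 0, nat_lit 4, nat_lit 1, nat_lit 3, nat_lit 0, nat_lit 0, nat_lit 5, nat_lit 0, nat_lit 0, nat_lit 0, nat_lit 2, nat_lit 3, nat_lit 1, nat_lit 0, nat_lit 2, nat_lit 0, nat_lit 4, nat_lit 0, nat_lit 0, nat_lit 4, nat_lit 2, nat_lit 3, nat_lit 0, nat_lit 0, nat_lit 3, nat_lit 0, nat_lit 0, nat_lit 0, nat_lit 3, nat_lit 1, nat_lit 0, nat_lit 2, nat_lit 1, nat_lit 0, nat_lit 4, nat_lit 0, nat_lit 0, nat_lit 4, nat_lit 2, nat_lit 0, nat_lit 3, nat_lit 0, nat_lit 0, nat_lit 0, nat_lit 4, nat_lit 1, nat_lit 5, nat_lit 0, nat_lit 0, nat_lit 2, nat_lit 0, nat_lit 3, nat_lit 5, nat_lit 0, nat_lit 0, nat_lit 0, nat_lit 0, nat_lit 0, nat_lit 4, nat_lit 1, nat_lit 3, nat_lit 4, nat_lit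 2, nat_lit 0, nat_lit 5, nat_lit 0, nat_lit 0, nat_lit 5, nat_lit 1, nat_lit 2, nat_lit 0, nat_lit 0, nat_lit 3, nat_lit 0, nat_lit 4, nat_lit 0, nat_lit 0, nat_lit 0, nat_lit 5, nat_lit 1, nat_lit 4, nat_lit 0, nat_lit 0, nat_lit 2, nat_lit 4, nat_lit 0, nat_lit 0, nat_lit 3, nat_lit 2, nat_lit 0, nat_lit 0, nat_lit 4, nat_lit 2, nat_lit 0, nat_lit 0, nat_lit 0, nat_lit 0, nat_lit 2, nat_lit 3, nat_lit 4, nat_lit 2, nat_lit 0, nat_lit 0, nat_lit 5, nat_lit 2, nat_lit 0, nat_lit 3, nat_lit 0, nat_lit 0, nat_lit 0, nat_lit 5, nat_lit 2, nat_lit 1, nat_lit 0, nat_lit 4, nat_lit 0, nat_lit 0, nat_lit 3, nat_lit 2, nat_lit 0, nat_lit 0, nat_lit 4, nat_lit 1, nat_lit 0, nat_lit 0, nat_lit 0, nat_lit 0, nat_lit 5, nat_lit 1, nat_lit 0, nat_lit 2, nat_lit 3, nat_lit 0, nat_lit 0, nat_lit 3, nat_lit 4, nat_lit 3, nat_lit 0, nat_lit 0, nat_lit 0,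 nat_lit 4, nat_lit 3, nat_lit 1, nat_lit 0, nat_lit 0, nat_lit 0, nat_lit 0, nat_lit 0, nat_lit 5, nat_lit 1, nat_lit 4, nat_lit 1, nat_lit 3, nat_lit 0, nat_lit 5, nat_lit 0, nat_lit 0, nat_lit 3, nat_lit 0, nat_lit 5, nat_lit 3, nat_lit 0, nat_lit 0, nat_lit 0, nat_lit 0, nat_lit 2, nat_lit 1, nat_lit 0, nat_lit 4, nat_lit 2, nat_lit 3, nat_lit 0, nat_lit 5, nat_lit 0, nat_lit 0, nat_lit 3, nat_lit 2, nat_lit 0, nat_lit 5, nat_lit 3, nat_lit 0, nat_lit 0, nat_lit 0, nat_lit 5, nat_lit 3, nat_lit 0, nat_lit 0, nat_lit 0, nat_lit 0, nat_lit 3, nat_lit 0, nat_lit 4, nat_lit 1, nat_lit 2, nat_lit 0, nat_lit 0, nat_lit 2, nat_lit 0, nat_lit 3])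
 (.node (nat_lit 76) [nat_lit 1040, nat_lit 1183, nat_lit 754] (.stk [nat_lit 1, nat_lit 2, nat_lit 3, nat_lit 0, nat_lit 0, nat_lit 0, nat_lit 2, nat_lit 1, nat_lit 0, nat_lit 3, nat_lit 0, nat_lit 0, nat_lit 3, nat_lit 2])
 (.node (nat_lit 146) [nat_lit 915, nat_lit 745, nat_lit 1656] (.stk [nat_lit 1, nat_lit 2, nat_lit 0, nat_lit 3, nat_lit 0, nat_lit 0, nat_lit 2, nat_lit 1, nat_lit 3, nat_lit 0, nat_lit 0, nat_lit 0, nat_lit 3, nat_lit 1])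
 (.node (nat_lit 3510) [nat_lit 3511, nat_lit 27651, nat_lit 24633] (.stk [nat_lit 1, nat_lit 3, nat_lit 1, nat_lit 0, nat_lit 0, nat_lit 0, nat_lit 2, nat_lit 1, nat_lit 0, nat_lit 3, nat_lit 0, nat_lit 0, nat_lit 3, nat_lit 1])
 (.done)
 (.done))
 (.node (nat_lit 3510) [nat_lit 24633, nat_lit 25280, nat_lit 26450] (.stk [nat_lit 1, nat_lit 2, nat_lit 1, nat_lit 0, nat_lit 0, nat_lit 0, nat_lit 2, nat_lit 1, nat_lit 0, nat_lit 0, nat_lit 3, nat_lit 1, nat_lit 0, nat_lit 2])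
 (.node (nat_lit 146) [nat_lit 745, nat_lit 154, nat_lit 169] (.stk [nat_lit 1, nat_lit 2, nat_lit 0, nat_lit 3, nat_lit 0, nat_lit 0, nat_lit 2, nat_lit 1, nat_lit 3, nat_lit 0, nat_lit 0, nat_lit 0, nat_lit 3, nat_lit 1])
 (.done)
 (.done))
 (.done)))
 (.node (nat_lit 146) [nat_lit 915, nat_lit 932, nat_lit 1656] (.stk [nat_lit 1, nat_lit 3, nat_lit 1, nat_lit 0, nat_lit 0, nat_lit 0, nat_lit 2, nat_lit 1, nat_lit 0, nat_lit 3, nat_lit 0, nat_lit 0, nat_lit 3, nat_lit 1])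
 (.node (nat_lit 76) [nat_lit 1200, nat_lit 97, nat_lit 76] (.stk [nat_lit 1, nat_lit 2, nat_lit 1, nat_lit 0, nat_lit 0, nat_lit 3, nat_lit 2, nat_lit 0, nat_lit 0, nat_lit 0, nat_lit 2, nat_lit 1, nat_lit 0, nat_lit 3])
 (.node (nat_lit 3510) [nat_lit 24633, nat_lit 3513, nat_lit 25280] (.stk [nat_lit 1, nat_lit 2, nat_lit 1, nat_lit 0, nat_lit 0, nat_lit 0, nat_lit 2, nat_lit 1, nat_lit 0, nat_lit 0, nat_lit 3, nat_lit 1, nat_lit 0, nat_lit 2])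
 (.done)
 (.done))
 (.node (nat_lit 3510) [nat_lit 27651, nat_lit 26464, nat_lit 3513] (.stk [nat_lit 1, nat_lit 2, nat_lit 1, nat_lit 0, nat_lit 0, nat_lit 0, nat_lit 2, nat_lit 1, nat_lit 0, nat_lit 0, nat_lit 3, nat_lit 1, nat_lit 0, nat_lit 2])
 (.node (nat_lit 76) [nat_lit 1405, nat_lit 742, nat_lit 1200] (.stk [nat_lit 1, nat_lit 2, nat_lit 3, nat_lit 0, nat_lit 0, nat_lit 0, nat_lit 2, nat_lit 1, nat_lit 0, nat_lit 3, nat_lit 0, nat_lit 0, nat_lit 3, nat_lit 2])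
 (.done)
 (.done))
 (.done)))
 (.node (nat_lit 3510) [nat_lit 27651, nat_lit 25280, nat_lit 3510] (.stk [nat_lit 1, nat_lit 2, nat_lit 1, nat_lit 0, nat_lit 0, nat_lit 3, nat_lit 2, nat_lit 0, nat_lit 0, nat_lit 0, nat_lit 2, nat_lit 1, nat_lit 0, nat_lit 3])
 (.node (nat_lit 76) [nat_lit 1040, nat_lit 742, nat_lit 754] (.stk [nat_lit 1, nat_lit 2, nat_lit 3, nat_lit 0, nat_lit 0, nat_lit 0, nat_lit 2, nat_lit 1, nat_lit 0, nat_lit 3, nat_lit 0, nat_lit 0, nat_lit 3, nat_lit 2])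
 (.node (nat_lit 146) [nat_lit 831, nat_lit 154, nat_lit 169] (.stk [nat_lit 1, nat_lit 2, nat_lit 0, nat_lit 3, nat_lit 0, nat_lit 0, nat_lit 2, nat_lit 1, nat_lit 3, nat_lit 0, nat_lit 0, nat_lit 0, nat_lit 3, nat_lit 1])
 (.done)
 (.done))
 (.node (nat_lit 146) [nat_lit 745, nat_lit 154, nat_lit 1656] (.stk [nat_lit 1, nat_lit 2, nat_lit 3, nat_lit 0, nat_lit 0, nat_lit 0, nat_lit 2, nat_lit 1, nat_lit 0, nat_lit 3, nat_lit 0, nat_lit 0, nat_lit 3, nat_lit 2])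
 (.node (nat_lit 76) [nat_lit 1183, nat_lit 150, nat_lit 742] (.stk [nat_lit 1, nat_lit 2, nat_lit 3, nat_lit 0, nat_lit 0, nat_lit 0, nat_lit 2, nat_lit 1, nat_lit 0, nat_lit 3, nat_lit 0, nat_lit 0, nat_lit 3, nat_lit 2])
 (.done)
 (.done))
 (.done)))
 (.done))))
 (.done))
 [nat_lit 3510, nat_lit 146, nat_lit 76, nat_lit 74] 4 324 = true := by decide +kernel
theorem g8_wd23_3 : wdChk F23.cd (.ps [nat_lit 402, nat_lit 3510, nat_lit 2604, nat_lit 2369, nat_lit 3511, nat_lit 17874]) (.node (nat_lit 0) [nat_lit 7898, nat_lit 13507, nat_lit 19368, nat_lit 0] (.stk [nat_lit 1, nat_lit 2, nat_lit 1, nat_lit 3, nat_lit 0, nat_lit 0, nat_lit 3, nat_lit 2, nat_lit 0, nat_lit 4, nat_lit 0, nat_lit 0, nat_lit 0, nat_lit 3, nat_lit 1, nat_lit 0, nat_lit 2, nat_lit 4, nat_lit 0, nat_lit 0, nat_lit 0, nat_lit 4, nat_lit 2, nat_lit 0, nat_lit 3, nat_lit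 0, nat_lit 0, nat_lit 0, nat_lit 2, nat_lit 1, nat_lit 3, nat_lit 4, nat_lit 0, nat_lit 0, nat_lit 0, nat_lit 3, nat_lit 2, nat_lit 0, nat_lit 0, nat_lit 4, nat_lit 3, nat_lit 0, nat_lit 0, nat_lit 0, nat_lit 3, nat_lit 1, nat_lit 0, nat_lit 2, nat_lit 0, nat_lit 4])
 (.done)
 (.done))
 [nat_lit 0] 1 27 = true := by decide +kernel

variable {G : Type*} [Group G] {D : Set G} (M : Mdl G D F23.cd)

/-- representatives, widths and numbers of centralised transpositions -/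
def g8_rp23 : Fin 4 → Ex := ![.ps [3510, 3511], .ps [1387, 3510, 711, 3511], .ps [3510, 3511, 27651, 3510, 3511, 27651], .ps [402, 3510, 2604, 2369, 3511, 17874]]
def g8_w23 : Fin 4 → ℕ := ![7, 5, 4, 1]
def g8_f23 : Fin 4 → ℕ := ![351, 135, 324, 27]

theorem g8_rep23 (i : Fin 4) : orderOf (M.ev (g8_rp23 i)) = 3 ∧ wd D (M.ev (g8_rp23 i)) = g8_w23 i ∧
    {y | y ∈ D ∧ Commute (M.ev (g8_rp23 i)) y}.ncard = g8_f23 i := by
  fin_cases i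
  exacts [wdChk_spec M g8_wd23_0, wdChk_spec M g8_wd23_1, wdChk_spec M g8_wd23_2, wdChk_spec M g8_wd23_3]

variable [Finite G] (hG : Nat.card G = 2 ^ 18 * 3 ^ 13 * 5 ^ 2 * 7 * 11 * 13 * 17 * 23)
include hG

theorem g8_all23 {y : G} (hy : orderOf y = 3) : ∃ i, IsConj (M.ev (g8_rp23 i)) y := by
  obtain ⟨g, hg⟩ := Q23b.exists_pc M
  obtain ⟨r, hr, e⟩ := hg.all3 (r := 2 ^ 18 * 5 ^ 2 * 7 * 11 * 13 * 17 * 23) (by rw [hG]; norm_num) (by decide) Q23b.hinv Q23b.hjs Q23b.htop hy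
  simp only [Q23b.reps, List.mem_cons, List.not_mem_nil, or_false] at hr
  rcases hr with rfl | rfl | rfl | rfl
  exacts [⟨0, e⟩, ⟨1, e⟩, ⟨2, e⟩, ⟨3, e⟩]

include M in
/-- elements of order 3 with the same width are conjugate -/
theorem g8_conjW23 {x y : G} (hx : orderOf x = 3) (hy : orderOf y = 3) (e : wd D x = wd D y) : IsConj x y := by
  obtain ⟨i, hi⟩ := g8_all23 M hG hx
  obtain ⟨j, hj⟩ := g8_all23 M hG hy
  rw [← wd_conj M.t3 hi, ← wd_conj M.t3 hj, (g8_rep23 M i).2.1, (g8_rep23 M j).2.1] at e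
  obtain rfl : i = j := by clear hi hj; revert i j; decide
  exact hi.symm.trans hj

include M in
/-- the width is determined by the number of centralised transpositions -/
theorem g8_wdF23 {x : G} (hx : orderOf x = 3) (i : Fin 4) (e : {y | y ∈ D ∧ Commute x y}.ncard = g8_f23 i) :
    wd D x = g8_w23 i := by
  obtain ⟨j, hj⟩ := g8_all23 M hG hx
  rw [← g8_ncard_conj M.t3 hj, (g8_rep23 M j).2.2] at e
  obtain rfl : i = j := by clear hj; revert i j; decide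
  rw [← wd_conj M.t3 hj, (g8_rep23 M i).2.1]

include M in
theorem g8_sub23 : ∃ Y : Fin 4 → Subgroup G, (∀ i, Nat.card (Y i) = 3) ∧
    (∀ i j, (∃ g : G, (Y i).map (MulAut.conj g).toMonoidHom = Y j) → i = j) ∧
    (∀ X : Subgroup G, Nat.card X = 3 → ∃ i, ∃ g : G, X.map (MulAut.conj g).toMonoidHom = Y i) ∧
    ∀ i, commutingWidth (D ∩ (centralizer ((Y i : Subgroup G) : Set G) : Set G)) = g8_w23 i := by
  obtain ⟨a, b, c⟩ := g8_classes3 M.t3 (r := fun i => M.ev (g8_rp23 i)) (fun i => (g8_rep23 M i).1)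
    (fun i j e => by
      rw [(g8_rep23 M i).2.1, (g8_rep23 M j).2.1] at e
      revert i j; decide) fun y hy => g8_all23 M hG hy
  exact ⟨_, a, b, c, fun i => (g8_rep23 M i).2.1⟩

end Cfsg.Agent.Fi
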