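import Cfsg.Agent.Fi.Gg
import Cfsg.Agent.Fi.Q22b

/-! Classes of elements of order 3 in the model with tables `F22`. -/

set_option autoImplicit false
set_option maxRecDepth 100000
set_option Elab.async false

namespace Cfsg.Agent.Fi

open Cfsg.Agent.FM Subgroup

theorem g8_wd22_0 : wdChk F22.cd (.ps [nat_lit 693, nat_lit 694]) (.node (nat_lit 2) [nat_lit 314, nat_lit 78, nat_lit 252, nat_lit 24, nat_lit 66, nat_lit 234] (.stk [nat_lit 1, nat_lit 2, nat_lit 1, nat_lit 0, nat_lit 3, nat_lit 4, nat_lit 5, nat_lit 0, nat_lit 0, nat_lit 6, nat_lit 0, nat_lit 0, nat_lit 5, nat_lit 4, nat_lit 3, nat_lit 5, nat_lit 0, nat_lit 0, nat_lit 0, nat_lit 6, nat_lit 0, nat_lit 0, nat_lit 6, nat_lit 3, nat_lit 5, nat_lit 4, nat_lit 0, nat_lit 0, nat_lit 0, nat_lit 4, nat_lit 0, nat_lit 0, nat_lit 0, nat_lit 3, nat_lit 2, nat_lit 5, nat_lit 4, nat_lit 0, nat_lit 0, nat_lit 6, nat_lit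 4, nat_lit 0, nat_lit 0, nat_lit 0, nat_lit 4, nat_lit 5, nat_lit 2, nat_lit 0, nat_lit 0, nat_lit 0, nat_lit 6, nat_lit 2, nat_lit 4, nat_lit 0, nat_lit 5, nat_lit 4, nat_lit 0, nat_lit 0, nat_lit 0, nat_lit 0, nat_lit 0, nat_lit 4, nat_lit 1, nat_lit 5, nat_lit 3, nat_lit 0, nat_lit 0, nat_lit 0, nat_lit 3, nat_lit 2, nat_lit 6, nat_lit 0, nat_lit 0, nat_lit 5, nat_lit 0, nat_lit 0, nat_lit 6, nat_lit 2, nat_lit 4, nat_lit 0, nat_lit 5, nat_lit 0, nat_lit 0, nat_lit 0, nat_lit 0, nat_lit 5, nat_lit 2, nat_lit 3, nat_lit 0, nat_lit 4, nat_lit 0, nat_lit 6, nat_lit 4, nat_lit 1, nat_lit 0, nat_lit 2, nat_lit 0, nat_lit 3, nat_lit 0, nat_lit 0, nat_lit 0, nat_lit 0, nat_lit 0, nat_lit 0, nat_lit 2, nat_lit 1, nat_lit 3, nat_lit 4, nat_lit 5, nat_lit 0, nat_lit 0, nat_lit 6, nat_lit 0, nat_lit 0, nat_lit 4, nat_lit 3, nat_lit 5, nat_lit 0, nat_lit 0, nat_lit 6, nat_lit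 0, nat_lit 0, nat_lit 5, nat_lit 0, nat_lit 0, nat_lit 3, nat_lit 1, nat_lit 0, nat_lit 4, nat_lit 1, nat_lit 6, nat_lit 0, nat_lit 0, nat_lit 5, nat_lit 0, nat_lit 0, nat_lit 6, nat_lit 0, nat_lit 0, nat_lit 5, nat_lit 1, nat_lit 6, nat_lit 0, nat_lit 0, nat_lit 4, nat_lit 2, nat_lit 0, nat_lit 3, nat_lit 5, nat_lit 0, nat_lit 0, nat_lit 0, nat_lit 0, nat_lit 6, nat_lit 2, nat_lit 5, nat_lit 0, nat_lit 0, nat_lit 3, nat_lit 0, nat_lit 4, nat_lit 1, nat_lit 5, nat_lit 0, nat_lit 0, nat_lit 0, nat_lit 0, nat_lit 0, nat_lit 4, nat_lit 1, nat_lit 2, nat_lit 5, nat_lit 0, nat_lit 0, nat_lit 3, nat_lit 0, nat_lit 6, nat_lit 0, nat_lit 0, nat_lit 3, nat_lit 1, nat_lit 6, nat_lit 0, nat_lit 0, nat_lit 0, nat_lit 5, nat_lit 2, nat_lit 4, nat_lit 3, nat_lit 0, nat_lit 0, nat_lit 6, nat_lit 3, nat_lit 0, nat_lit 0, nat_lit 0, nat_lit 3, nat_lit 2, nat_lit 0, nat_lit 4, nat_lit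 0, nat_lit 6, nat_lit 0, nat_lit 0, nat_lit 0, nat_lit 0, nat_lit 6, nat_lit 2, nat_lit 1, nat_lit 3, nat_lit 4, nat_lit 0, nat_lit 0, nat_lit 0, nat_lit 3, nat_lit 4, nat_lit 0, nat_lit 0, nat_lit 4, nat_lit 3, nat_lit 6, nat_lit 0, nat_lit 0, nat_lit 0, nat_lit 5, nat_lit 3, nat_lit 0, nat_lit 4, nat_lit 1, nat_lit 0, nat_lit 2, nat_lit 0, nat_lit 0, nat_lit 0, nat_lit 0, nat_lit 3, nat_lit 2, nat_lit 0, nat_lit 4, nat_lit 2, nat_lit 0, nat_lit 5, nat_lit 1, nat_lit 0, nat_lit 0, nat_lit 0, nat_lit 5])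
 (.node (nat_lit 12) [nat_lit 74, nat_lit 181, nat_lit 37, nat_lit 112, nat_lit 65] (.stk [nat_lit 1, nat_lit 2, nat_lit 1, nat_lit 0, nat_lit 4, nat_lit 3, nat_lit 5, nat_lit 0, nat_lit 0, nat_lit 5, nat_lit 0, nat_lit 0, nat_lit 0, nat_lit 3, nat_lit 4, nat_lit 3, nat_lit 0, nat_lit 0, nat_lit 0, nat_lit 4, nat_lit 2, nat_lit 0, nat_lit 3, nat_lit 0, nat_lit 0, nat_lit 5, nat_lit 1, nat_lit 3, nat_lit 0, nat_lit 0, nat_lit 3, nat_lit 2, nat_lit 0, nat_lit 0, nat_lit 4, nat_lit 2, nat_lit 0, nat_lit 0, nat_lit 0, nat_lit 0, nat_lit 2, nat_lit 1, nat_lit 3, nat_lit 0, nat_lit 4, nat_lit 0, nat_lit 5, nat_lit 4, nat_lit 3, nat_lit 0, nat_lit 0, nat_lit 0, nat_lit 0, nat_lit 3, nat_lit 2, nat_lit 0, nat_lit 4, nat_lit 0, nat_lit 5, nat_lit 0, nat_lit 0, nat_lit 4, nat_lit 1, nat_lit 0, nat_lit 3, nat_lit 0, nat_lit 5, nat_lit 0, nat_lit 0, nat_lit 0, nat_lit 3, nat_lit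 2, nat_lit 4, nat_lit 0, nat_lit 0, nat_lit 4, nat_lit 2, nat_lit 0, nat_lit 0, nat_lit 0, nat_lit 5, nat_lit 4, nat_lit 3, nat_lit 5])
 (.node (nat_lit 42) [nat_lit 321, nat_lit 319, nat_lit 240, nat_lit 69] (.stk [nat_lit 1, nat_lit 2, nat_lit 4, nat_lit 3, nat_lit 0, nat_lit 0, nat_lit 0, nat_lit 3, nat_lit 0, nat_lit 4, nat_lit 0, nat_lit 0, nat_lit 2, nat_lit 3, nat_lit 0, nat_lit 4, nat_lit 0, nat_lit 0, nat_lit 4, nat_lit 3])
 (.small)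
 (.done))
 (.done))
 (.done))
 [nat_lit 392, nat_lit 240, nat_lit 112, nat_lit 42, nat_lit 12, nat_lit 2] 6 126 = true := by decide +kernel
theorem g8_wd22_1 : wdChk F22.cd (.ps [nat_lit 694, nat_lit 245, nat_lit 14, nat_lit 693]) (.node (nat_lit 23) [nat_lit 105, nat_lit 44, nat_lit 2990, nat_lit 176, nat_lit 40] (.stk [nat_lit 1, nat_lit 2, nat_lit 3, nat_lit 4, nat_lit 5, nat_lit 0, nat_lit 0, nat_lit 0, nat_lit 4, nat_lit 0, nat_lit 5, nat_lit 0, nat_lit 0, nat_lit 3, nat_lit 4, nat_lit 0, nat_lit 5, nat_lit 0, nat_lit 0, nat_lit 4, nat_lit 5, nat_lit 0, nat_lit 0, nat_lit 0, nat_lit 2, nat_lit 1, nat_lit 3, nat_lit 4, nat_lit 5, nat_lit 0, nat_lit 0, nat_lit 0, nat_lit 4, nat_lit 0, nat_lit 0, nat_lit 3, nat_lit 4, nat_lit 0, nat_lit 5, nat_lit 3, nat_lit 0, nat_lit 0, nat_lit 0, nat_lit 4, nat_lit 5, nat_lit 4, nat_lit 0, nat_lit 0, nat_lit 0, nat_lit 5, nat_lit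 3, nat_lit 4, nat_lit 0, nat_lit 0, nat_lit 4, nat_lit 0, nat_lit 0, nat_lit 0, nat_lit 3, nat_lit 4, nat_lit 5, nat_lit 0, nat_lit 0, nat_lit 0, nat_lit 4, nat_lit 0, nat_lit 5, nat_lit 2])
 (.node (nat_lit 78) [nat_lit 238, nat_lit 78] (.stk [nat_lit 1, nat_lit 2])
 (.node (nat_lit 2083) [nat_lit 2366, nat_lit 2416] (.stk [nat_lit 1, nat_lit 0, nat_lit 2])
 (.node (nat_lit 2975) [nat_lit 3125, nat_lit 3066] (.stk [nat_lit 1, nat_lit 0, nat_lit 2])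
 (.done)
 (.done))
 (.node (nat_lit 2975) [nat_lit 3125, nat_lit 2975] (.stk [nat_lit 1, nat_lit 2])
 (.node (nat_lit 2083) [nat_lit 2366, nat_lit 2083] (.stk [nat_lit 1, nat_lit 2])
 (.done)
 (.done))
 (.done)))
 (.node (nat_lit 2083) [nat_lit 2416, nat_lit 2083] (.stk [nat_lit 1, nat_lit 2])
 (.node (nat_lit 78) [nat_lit 238, nat_lit 252] (.stk [nat_lit 1, nat_lit 0, nat_lit 2])
 (.node (nat_lit 2975) [nat_lit 3066, nat_lit 3125] (.stk [nat_lit 1, nat_lit 0, nat_lit 2])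
 (.done)
 (.done))
 (.node (nat_lit 2975) [nat_lit 3066, nat_lit 3125] (.stk [nat_lit 1, nat_lit 0, nat_lit 2])
 (.node (nat_lit 78) [nat_lit 252, nat_lit 238] (.stk [nat_lit 1, nat_lit 0, nat_lit 2])
 (.done)
 (.done))
 (.done)))
 (.node (nat_lit 2975) [nat_lit 3066, nat_lit 3125] (.stk [nat_lit 1, nat_lit 0, nat_lit 2])
 (.node (nat_lit 78) [nat_lit 252, nat_lit 238] (.stk [nat_lit 1, nat_lit 0, nat_lit 2])
 (.node (nat_lit 2083) [nat_lit 2416, nat_lit 2083] (.stk [nat_lit 1, nat_lit 2])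
 (.done)
 (.done))
 (.node (nat_lit 2083) [nat_lit 2416, nat_lit 2366] (.stk [nat_lit 1, nat_lit 0, nat_lit 2])
 (.node (nat_lit 78) [nat_lit 238, nat_lit 78] (.stk [nat_lit 1, nat_lit 2])
 (.done)
 (.done))
 (.done)))
 (.done))))
 (.done))
 [nat_lit 2975, nat_lit 2083, nat_lit 78, nat_lit 23] 4 36 = true := by decide +kernel
theorem g8_wd22_2 : wdChk F22.cd (.ps [nat_lit 693, nat_lit 694, nat_lit 2406, nat_lit 693, nat_lit 694, nat_lit 2406]) (.node (nat_lit 10) [nat_lit 172, nat_lit 170, nat_lit 113] (.stk [nat_lit 1, nat_lit 2, nat_lit 3, nat_lit 0, nat_lit 0, nat_lit 0, nat_lit 2, nat_lit 1, nat_lit 0, nat_lit 3, nat_lit 0, nat_lit 0, nat_lit 3, nat_lit 2])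
 (.node (nat_lit 11) [nat_lit 234, nat_lit 107, nat_lit 114] (.stk [nat_lit 1, nat_lit 2, nat_lit 1, nat_lit 0, nat_lit 0, nat_lit 0, nat_lit 2, nat_lit 1, nat_lit 0, nat_lit 0, nat_lit 3, nat_lit 1, nat_lit 0, nat_lit 2])
 (.node (nat_lit 693) [nat_lit 2406, nat_lit 2017, nat_lit 696] (.stk [nat_lit 1, nat_lit 2, nat_lit 1, nat_lit 0, nat_lit 0, nat_lit 0, nat_lit 2, nat_lit 1, nat_lit 0, nat_lit 0, nat_lit 3, nat_lit 1, nat_lit 0, nat_lit 2])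
 (.done)
 (.done))
 (.node (nat_lit 693) [nat_lit 1680, nat_lit 2006, nat_lit 694] (.stk [nat_lit 1, nat_lit 2, nat_lit 1, nat_lit 0, nat_lit 0, nat_lit 0, nat_lit 2, nat_lit 1, nat_lit 0, nat_lit 0, nat_lit 3, nat_lit 1, nat_lit 0, nat_lit 2])
 (.node (nat_lit 11) [nat_lit 256, nat_lit 24, nat_lit 11] (.stk [nat_lit 1, nat_lit 2, nat_lit 1, nat_lit 0, nat_lit 0, nat_lit 3, nat_lit 2, nat_lit 0, nat_lit 0, nat_lit 0, nat_lit 2, nat_lit 1, nat_lit 0, nat_lit 3])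
 (.done)
 (.done))
 (.done)))
 (.node (nat_lit 11) [nat_lit 234, nat_lit 107, nat_lit 256] (.stk [nat_lit 1, nat_lit 2, nat_lit 0, nat_lit 3, nat_lit 0, nat_lit 0, nat_lit 2, nat_lit 3, nat_lit 2, nat_lit 0, nat_lit 0, nat_lit 0, nat_lit 3, nat_lit 2])
 (.node (nat_lit 10) [nat_lit 172, nat_lit 186, nat_lit 238] (.stk [nat_lit 1, nat_lit 2, nat_lit 1, nat_lit 0, nat_lit 0, nat_lit 0, nat_lit 2, nat_lit 1, nat_lit 0, nat_lit 0, nat_lit 3, nat_lit 1, nat_lit 0, nat_lit 2])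
 (.node (nat_lit 693) [nat_lit 1459, nat_lit 694, nat_lit 2406] (.stk [nat_lit 1, nat_lit 2, nat_lit 1, nat_lit 0, nat_lit 0, nat_lit 0, nat_lit 2, nat_lit 1, nat_lit 0, nat_lit 0, nat_lit 3, nat_lit 1, nat_lit 0, nat_lit 2])
 (.done)
 (.done))
 (.node (nat_lit 693) [nat_lit 2406, nat_lit 1680, nat_lit 693] (.stk [nat_lit 1, nat_lit 2, nat_lit 1, nat_lit 0, nat_lit 0, nat_lit 3, nat_lit 2, nat_lit 0, nat_lit 0, nat_lit 0, nat_lit 2, nat_lit 1, nat_lit 0, nat_lit 3])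
 (.node (nat_lit 10) [nat_lit 172, nat_lit 236, nat_lit 170] (.stk [nat_lit 1, nat_lit 3, nat_lit 1, nat_lit 0, nat_lit 0, nat_lit 0, nat_lit 2, nat_lit 1, nat_lit 0, nat_lit 3, nat_lit 0, nat_lit 0, nat_lit 3, nat_lit 1])
 (.done)
 (.done))
 (.done)))
 (.node (nat_lit 693) [nat_lit 2406, nat_lit 694, nat_lit 2006] (.stk [nat_lit 1, nat_lit 2, nat_lit 3, nat_lit 0, nat_lit 0, nat_lit 0, nat_lit 2, nat_lit 1, nat_lit 0, nat_lit 3, nat_lit 0, nat_lit 0, nat_lit 3, nat_lit 2])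
 (.node (nat_lit 10) [nat_lit 113, nat_lit 108, nat_lit 172] (.stk [nat_lit 1, nat_lit 2, nat_lit 3, nat_lit 0, nat_lit 0, nat_lit 0, nat_lit 2, nat_lit 1, nat_lit 0, nat_lit 3, nat_lit 0, nat_lit 0, nat_lit 3, nat_lit 2])
 (.node (nat_lit 11) [nat_lit 187, nat_lit 114, nat_lit 171] (.stk [nat_lit 1, nat_lit 3, nat_lit 1, nat_lit 0, nat_lit 0, nat_lit 0, nat_lit 2, nat_lit 1, nat_lit 0, nat_lit 3, nat_lit 0, nat_lit 0, nat_lit 3, nat_lit 1])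
 (.done)
 (.done))
 (.node (nat_lit 11) [nat_lit 107, nat_lit 187, nat_lit 24] (.stk [nat_lit 1, nat_lit 2, nat_lit 3, nat_lit 0, nat_lit 0, nat_lit 0, nat_lit 2, nat_lit 1, nat_lit 0, nat_lit 3, nat_lit 0, nat_lit 0, nat_lit 3, nat_lit 2])
 (.node (nat_lit 10) [nat_lit 108, nat_lit 238, nat_lit 113] (.stk [nat_lit 1, nat_lit 3, nat_lit 1, nat_lit 0, nat_lit 0, nat_lit 0, nat_lit 2, nat_lit 1, nat_lit 0, nat_lit 3, nat_lit 0, nat_lit 0, nat_lit 3, nat_lit 1])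
 (.done)
 (.done))
 (.done)))
 (.done))))
 [nat_lit 693, nat_lit 11, nat_lit 10] 3 27 = true := by decide +kernel
theorem g8_wd22_3 : wdChk F22.cd (.ps [nat_lit 299, nat_lit 143, nat_lit 2960, nat_lit 693, nat_lit 694, nat_lit 671]) (.done)
 [] 0 0 = true := by decide +kernel

variable {G : Type*} [Group G] {D : Set G} (M : Mdl G D F22.cd)

/-- representatives, widths and numbers of centralised transpositions -/
def g8_rp22 : Fin 4 → Ex := ![.ps [693, 694], .ps [694, 245, 14, 693], .ps [693, 694, 2406, 693, 694, 2406], .ps [299, 143, 2960, 693, 694, 671]]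
def g8_w22 : Fin 4 → ℕ := ![6, 4, 3, 0]
def g8_f22 : Fin 4 → ℕ := ![126, 36, 27, 0]

theorem g8_rep22 (i : Fin 4) : orderOf (M.ev (g8_rp22 i)) = 3 ∧ wd D (M.ev (g8_rp22 i)) = g8_w22 i ∧
    {y | y ∈ D ∧ Commute (M.ev (g8_rp22 i)) y}.ncard = g8_f22 i := by
  fin_cases i
  exacts [wdChk_spec M g8_wd22_0, wdChk_spec M g8_wd22_1, wdChk_spec M g8_wd22_2, wdChk_spec M g8_wd22_3]

variable [Finite G] (hG : Nat.card G = 2 ^ 17 * 3 ^ 9 * 5 ^ 2 * 7 * 11 * 13)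
include hG

theorem g8_all22 {y : G} (hy : orderOf y = 3) : ∃ i, IsConj (M.ev (g8_rp22 i)) y := by
  obtain ⟨g, hg⟩ := Q22b.exists_pc M
  obtain ⟨r, hr, e⟩ := hg.all3 (r := 2 ^ 17 * 5 ^ 2 * 7 * 11 * 13) (by rw [hG]; norm_num) (by decide) Q22b.hinv Q22b.hjs Q22b.htop hy
  simp only [Q22b.reps, List.mem_cons, List.not_mem_nil, or_false] at hr
  rcases hr with rfl | rfl | rfl | rfl
  exacts [⟨0, e⟩, ⟨1, e⟩, ⟨2, e⟩, ⟨3, e⟩]

include M in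
/-- elements of order 3 with the same width are conjugate -/
theorem g8_conjW22 {x y : G} (hx : orderOf x = 3) (hy : orderOf y = 3) (e : wd D x = wd D y) : IsConj x y := by
  obtain ⟨i, hi⟩ := g8_all22 M hG hx
  obtain ⟨j, hj⟩ := g8_all22 M hG hy
  rw [← wd_conj M.t3 hi, ← wd_conj M.t3 hj, (g8_rep22 M i).2.1, (g8_rep22 M j).2.1] at e
  obtain rfl : i = j := by clear hi hj; revert i j; decide
  exact hi.symm.trans hj

include M in
/-- the width is determined by the number of centralised transpositions -/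
theorem g8_wdF22 {x : G} (hx : orderOf x = 3) (i : Fin 4) (e : {y | y ∈ D ∧ Commute x y}.ncard = g8_f22 i) :
    wd D x = g8_w22 i := by
  obtain ⟨j, hj⟩ := g8_all22 M hG hx
  rw [← g8_ncard_conj M.t3 hj, (g8_rep22 M j).2.2] at e
  obtain rfl : i = j := by clear hj; revert i j; decide
  rw [← wd_conj M.t3 hj, (g8_rep22 M i).2.1]

include M in
theorem g8_sub22 : ∃ Y : Fin 4 → Subgroup G, (∀ i, Nat.card (Y i) = 3) ∧
    (∀ i j, (∃ g : G, (Y i).map (MulAut.conj g).toMonoidHom = Y j) → i = j) ∧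
    (∀ X : Subgroup G, Nat.card X = 3 → ∃ i, ∃ g : G, X.map (MulAut.conj g).toMonoidHom = Y i) ∧
    ∀ i, commutingWidth (D ∩ (centralizer ((Y i : Subgroup G) : Set G) : Set G)) = g8_w22 i := by
  obtain ⟨a, b, c⟩ := g8_classes3 M.t3 (r := fun i => M.ev (g8_rp22 i)) (fun i => (g8_rep22 M i).1)
    (fun i j e => by
      rw [(g8_rep22 M i).2.1, (g8_rep22 M j).2.1] at e
      revert i j; decide) fun y hy => g8_all22 M hG hy
  exact ⟨_, a, b, c, fun i => (g8_rep22 M i).2.1⟩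

end Cfsg.Agent.Fi
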