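import Cfsg.Agent.Fi.D22

set_option autoImplicit false
set_option linter.all false
set_option maxRecDepth 100000

namespace Cfsg.Agent.Fi

noncomputable def Sp22 (i : ℕ) : ℕ → ℕ → Bool :=
  (@Bool.rec (fun _ => ℕ → ℕ → Bool) (@Bool.rec (fun _ => ℕ → ℕ → Bool) (@Bool.rec (fun _ => ℕ → ℕ → Bool) (fun _ _ => false) (fun q q' => (Nat.beq (pg22 q') (nat_lit 8) &&' Nat.ble (Nat.succ q) q')) (Nat.ble i (nat_lit 8))) (@Bool.rec (fun _ => ℕ → ℕ → Bool) (fun q q' => (Nat.beq (pg22 q') (nat_lit 7) &&' Nat.ble (Nat.succ q) q')) (@Bool.rec (fun _ => ℕ → ℕ → Bool) (fun q q' => (Nat.beq (pg22 q') (nat_lit 6) &&' Nat.ble (Nat.succ q) q')) (fun q q' => (Nat.beq (pg22 q') (nat_lit 5) &&' Nat.ble (Nat.succ q) q')) (Nat.ble i (nat_lit 5))) (Nat.ble i (nat_lit 6))) (Nat.ble i (nat_lit 7))) (@Bool.rec (fun _ => ℕ → ℕ → Bool) (@Bool.rec (fun _ => ℕ → ℕ → Bool) (fun q q' => (Nat.beq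 (pg22 q') (nat_lit 4) &&' Nat.ble (Nat.succ q) q')) (fun q q' => (Nat.beq (pg22 q') (nat_lit 3) &&' Nat.ble (Nat.succ q) q')) (Nat.ble i (nat_lit 3))) (@Bool.rec (fun _ => ℕ → ℕ → Bool) (fun q q' => (Nat.beq (pg22 q') (nat_lit 2) &&' Nat.ble (Nat.succ q) q')) (@Bool.rec (fun _ => ℕ → ℕ → Bool) (fun q q' => (Nat.beq (pg22 q') (nat_lit 1) &&' Nat.ble (Nat.succ q) q')) (fun q q' => (Nat.beq (pg22 q') (nat_lit 0) &&' Nat.ble (Nat.succ q) q')) (Nat.ble i (nat_lit 0))) (Nat.ble i (nat_lit 1))) (Nat.ble i (nat_lit 2))) (Nat.ble i (nat_lit 4)))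

noncomputable def e22_0 (q : ℕ) : Bool :=
  ent (nat_lit 694) (nat_lit 3510) a22_0 cl22_0 (fun q q' => (Nat.beq (pg22 q') (nat_lit 0) &&' Nat.ble (Nat.succ q) q')) (sdc A22 Ws22 (nat_lit 0) sd22_0) q

noncomputable def e22_1 (q : ℕ) : Bool :=
  ent (nat_lit 694) (nat_lit 3510) a22_1 cl22_1 (fun q q' => (Nat.beq (pg22 q') (nat_lit 1) &&' Nat.ble (Nat.succ q) q')) (sdc A22 Ws22 (nat_lit 1) sd22_1) q

noncomputable def e22_2 (q : ℕ) : Bool :=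
  ent (nat_lit 694) (nat_lit 3510) a22_2 cl22_2 (fun q q' => (Nat.beq (pg22 q') (nat_lit 2) &&' Nat.ble (Nat.succ q) q')) (sdc A22 Ws22 (nat_lit 2) sd22_2) q

noncomputable def e22_3 (q : ℕ) : Bool :=
  ent (nat_lit 694) (nat_lit 3510) a22_3 cl22_3 (fun q q' => (Nat.beq (pg22 q') (nat_lit 3) &&' Nat.ble (Nat.succ q) q')) (sdc A22 Ws22 (nat_lit 3) sd22_3) q

noncomputable def e22_4 (q : ℕ) : Bool :=
  ent (nat_lit 694) (nat_lit 3510) a22_4 cl22_4 (fun q q' => (Nat.beq (pg22 q') (nat_lit 4) &&' Nat.ble (Nat.succ q) q')) (sdc A22 Ws22 (nat_lit 4) sd22_4) q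

noncomputable def e22_5 (q : ℕ) : Bool :=
  ent (nat_lit 694) (nat_lit 3510) a22_5 cl22_5 (fun q q' => (Nat.beq (pg22 q') (nat_lit 5) &&' Nat.ble (Nat.succ q) q')) (sdc A22 Ws22 (nat_lit 5) sd22_5) q

noncomputable def e22_6 (q : ℕ) : Bool :=
  ent (nat_lit 694) (nat_lit 3510) a22_6 cl22_6 (fun q q' => (Nat.beq (pg22 q') (nat_lit 6) &&' Nat.ble (Nat.succ q) q')) (sdc A22 Ws22 (nat_lit 6) sd22_6) q

noncomputable def e22_7 (q : ℕ) : Bool :=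
  ent (nat_lit 694) (nat_lit 3510) a22_7 cl22_7 (fun q q' => (Nat.beq (pg22 q') (nat_lit 7) &&' Nat.ble (Nat.succ q) q')) (sdc A22 Ws22 (nat_lit 7) sd22_7) q

noncomputable def e22_8 (q : ℕ) : Bool :=
  ent (nat_lit 694) (nat_lit 3510) a22_8 cl22_8 (fun q q' => (Nat.beq (pg22 q') (nat_lit 8) &&' Nat.ble (Nat.succ q) q')) (sdc A22 Ws22 (nat_lit 8) sd22_8) q

noncomputable def tr22 (q : ℕ) : Bool :=
  Nat.beq q (nat_lit 694) ||' (lmem (pg22 q) gs22 &&' Nat.ble (Nat.land (A22 (pg22 q) q) (nat_lit 524287)) q)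

noncomputable def E22 (q : ℕ) : Bool :=
  e22_0 q &&' e22_1 q &&' e22_2 q &&' e22_3 q &&' e22_4 q &&' e22_5 q &&' e22_6 q &&' e22_7 q &&' e22_8 q &&' tr22 q

noncomputable def spc22 (q q' : ℕ) : Bool :=
  (Nat.beq q q' &&' Nat.ble (Nat.succ q) (nat_lit 693)) ||' lmem q [nat_lit 694, nat_lit 693, nat_lit 0]

noncomputable def Ec22 (q : ℕ) : Bool :=
  ent (nat_lit 0) (nat_lit 3510) a22_9 clc22 spc22 (sdc P22 [] (nat_lit 9) (fun _ => nat_lit 0)) q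

end Cfsg.Agent.Fi
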