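import Cfsg.Agent.Fi.D23

set_option autoImplicit false
set_option linter.all false
set_option maxRecDepth 100000

namespace Cfsg.Agent.Fi

noncomputable def Sp23 (i : ℕ) : ℕ → ℕ → Bool :=
  (@Bool.rec (fun _ => ℕ → ℕ → Bool) (@Bool.rec (fun _ => ℕ → ℕ → Bool) (@Bool.rec (fun _ => ℕ → ℕ → Bool) (fun _ _ => false) (@Bool.rec (fun _ => ℕ → ℕ → Bool) (fun q q' => (Nat.beq (pg23 q') (nat_lit 10) &&' Nat.ble (Nat.succ q) q')) (fun q q' => (Nat.beq (pg23 q') (nat_lit 9) &&' Nat.ble (Nat.succ q) q')) (Nat.ble i (nat_lit 9))) (Nat.ble i (nat_lit 10))) (@Bool.rec (fun _ => ℕ → ℕ → Bool) (fun q q' => (Nat.beq (pg23 q') (nat_lit 8) &&' Nat.ble (Nat.succ q) q')) (@Bool.rec (fun _ => ℕ → ℕ → Bool) (fun _ _ => false) (fun q q' => (Nat.beq (pg23 q') (nat_lit 6) &&' Nat.ble (Nat.succ q) q')) (Nat.ble i (nat_lit 6))) (Nat.ble i (nat_lit 7))) (Nat.ble i (nat_lit 8))) (@Bool.rec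 (fun _ => ℕ → ℕ → Bool) (@Bool.rec (fun _ => ℕ → ℕ → Bool) (fun q q' => (Nat.beq (pg23 q') (nat_lit 5) &&' Nat.ble (Nat.succ q) q')) (@Bool.rec (fun _ => ℕ → ℕ → Bool) (fun q q' => (Nat.beq (pg23 q') (nat_lit 4) &&' Nat.ble (Nat.succ q) q')) (fun q q' => (Nat.beq (pg23 q') (nat_lit 3) &&' Nat.ble (Nat.succ q) q')) (Nat.ble i (nat_lit 3))) (Nat.ble i (nat_lit 4))) (@Bool.rec (fun _ => ℕ → ℕ → Bool) (fun q q' => (Nat.beq (pg23 q') (nat_lit 2) &&' Nat.ble (Nat.succ q) q')) (@Bool.rec (fun _ => ℕ → ℕ → Bool) (fun q q' => (Nat.beq (pg23 q') (nat_lit 1) &&' Nat.ble (Nat.succ q) q')) (fun q q' => (Nat.beq (pg23 q') (nat_lit 0) &&' Nat.ble (Nat.succ q) q')) (Nat.ble i (nat_lit 0))) (Nat.ble i (nat_lit 1))) (Nat.ble i (nat_lit 2))) (Nat.ble i (nat_lit 5)))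

noncomputable def e23_0 (q : ℕ) : Bool :=
  ent (nat_lit 3511) (nat_lit 31671) a23_0 cl23_0 (fun q q' => (Nat.beq (pg23 q') (nat_lit 0) &&' Nat.ble (Nat.succ q) q')) (sdc A23 Ws23 (nat_lit 0) sd23_0) q

noncomputable def e23_1 (q : ℕ) : Bool :=
  ent (nat_lit 3511) (nat_lit 31671) a23_1 cl23_1 (fun q q' => (Nat.beq (pg23 q') (nat_lit 1) &&' Nat.ble (Nat.succ q) q')) (sdc A23 Ws23 (nat_lit 1) sd23_1) q

noncomputable def e23_2 (q : ℕ) : Bool :=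
  ent (nat_lit 3511) (nat_lit 31671) a23_2 cl23_2 (fun q q' => (Nat.beq (pg23 q') (nat_lit 2) &&' Nat.ble (Nat.succ q) q')) (sdc A23 Ws23 (nat_lit 2) sd23_2) q

noncomputable def e23_3 (q : ℕ) : Bool :=
  ent (nat_lit 3511) (nat_lit 31671) a23_3 cl23_3 (fun q q' => (Nat.beq (pg23 q') (nat_lit 3) &&' Nat.ble (Nat.succ q) q')) (sdc A23 Ws23 (nat_lit 3) sd23_3) q

noncomputable def e23_4 (q : ℕ) : Bool :=
  ent (nat_lit 3511) (nat_lit 31671) a23_4 cl23_4 (fun q q' => (Nat.beq (pg23 q') (nat_lit 4) &&' Nat.ble (Nat.succ q) q')) (sdc A23 Ws23 (nat_lit 4) sd23_4) q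

noncomputable def e23_5 (q : ℕ) : Bool :=
  ent (nat_lit 3511) (nat_lit 31671) a23_5 cl23_5 (fun q q' => (Nat.beq (pg23 q') (nat_lit 5) &&' Nat.ble (Nat.succ q) q')) (sdc A23 Ws23 (nat_lit 5) sd23_5) q

noncomputable def e23_6 (q : ℕ) : Bool :=
  ent (nat_lit 3511) (nat_lit 31671) a23_6 cl23_6 (fun q q' => (Nat.beq (pg23 q') (nat_lit 6) &&' Nat.ble (Nat.succ q) q')) (sdc A23 Ws23 (nat_lit 6) sd23_6) q

noncomputable def e23_8 (q : ℕ) : Bool :=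
  ent (nat_lit 3511) (nat_lit 31671) a23_8 cl23_8 (fun q q' => (Nat.beq (pg23 q') (nat_lit 8) &&' Nat.ble (Nat.succ q) q')) (sdc A23 Ws23 (nat_lit 8) sd23_8) q

noncomputable def e23_9 (q : ℕ) : Bool :=
  ent (nat_lit 3511) (nat_lit 31671) a23_9 cl23_9 (fun q q' => (Nat.beq (pg23 q') (nat_lit 9) &&' Nat.ble (Nat.succ q) q')) (sdc A23 Ws23 (nat_lit 9) sd23_9) q

noncomputable def e23_10 (q : ℕ) : Bool :=
  ent (nat_lit 3511) (nat_lit 31671) a23_10 cl23_10 (fun q q' => (Nat.beq (pg23 q') (nat_lit 10) &&' Nat.ble (Nat.succ q) q')) (sdc A23 Ws23 (nat_lit 10) sd23_10) q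

noncomputable def tr23 (q : ℕ) : Bool :=
  Nat.beq q (nat_lit 3511) ||' (lmem (pg23 q) gs23 &&' Nat.ble (Nat.land (A23 (pg23 q) q) (nat_lit 524287)) q)

noncomputable def E23 (q : ℕ) : Bool :=
  e23_0 q &&' e23_1 q &&' e23_2 q &&' e23_3 q &&' e23_4 q &&' e23_5 q &&' e23_6 q &&' e23_8 q &&' e23_9 q &&' e23_10 q &&' tr23 q

noncomputable def spc23 (q q' : ℕ) : Bool :=
  (Nat.beq q q' &&' Nat.ble (Nat.succ q) (nat_lit 3510)) ||' lmem q [nat_lit 3511, nat_lit 3510, nat_lit 105]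

noncomputable def Ec23 (q : ℕ) : Bool :=
  ent (nat_lit 0) (nat_lit 31671) a23_11 clc23 spc23 (sdc P23 [] (nat_lit 11) (fun _ => nat_lit 0)) q

end Cfsg.Agent.Fi
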