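import Cfsg.Agent.Fi.D24

set_option autoImplicit false
set_option linter.all false
set_option maxRecDepth 100000

namespace Cfsg.Agent.Fi

noncomputable def Sp24 (i : ℕ) : ℕ → ℕ → Bool :=
  (@Bool.rec (fun _ => ℕ → ℕ → Bool) (@Bool.rec (fun _ => ℕ → ℕ → Bool) (@Bool.rec (fun _ => ℕ → ℕ → Bool) (fun _ _ => false) (@Bool.rec (fun _ => ℕ → ℕ → Bool) (fun q q' => (Nat.beq (pg24 q') (nat_lit 12) &&' Nat.ble (Nat.succ q) q')) (fun q q' => (Nat.beq (pg24 q') (nat_lit 11) &&' Nat.ble (Nat.succ q) q')) (Nat.ble i (nat_lit 11))) (Nat.ble i (nat_lit 12))) (@Bool.rec (fun _ => ℕ → ℕ → Bool) (@Bool.rec (fun _ => ℕ → ℕ → Bool) (fun q q' => (Nat.beq (pg24 q') (nat_lit 10) &&' Nat.ble (Nat.succ q) q')) (fun q q' => (Nat.beq (pg24 q') (nat_lit 9) &&' Nat.ble (Nat.succ q) q')) (Nat.ble i (nat_lit 9))) (@Bool.rec (fun _ => ℕ → ℕ → Bool) (fun q q' => (Nat.beq (pg24 q') (nat_lit 8)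 &&' Nat.ble (Nat.succ q) q')) (fun _ _ => false) (Nat.ble i (nat_lit 7))) (Nat.ble i (nat_lit 8))) (Nat.ble i (nat_lit 10))) (@Bool.rec (fun _ => ℕ → ℕ → Bool) (@Bool.rec (fun _ => ℕ → ℕ → Bool) (fun q q' => (Nat.beq (pg24 q') (nat_lit 6) &&' Nat.ble (Nat.succ q) q')) (@Bool.rec (fun _ => ℕ → ℕ → Bool) (fun q q' => (Nat.beq (pg24 q') (nat_lit 5) &&' Nat.ble (Nat.succ q) q')) (fun q q' => (Nat.beq (pg24 q') (nat_lit 4) &&' Nat.ble (Nat.succ q) q')) (Nat.ble i (nat_lit 4))) (Nat.ble i (nat_lit 5))) (@Bool.rec (fun _ => ℕ → ℕ → Bool) (@Bool.rec (fun _ => ℕ → ℕ → Bool) (fun q q' => (Nat.beq (pg24 q') (nat_lit 3) &&' Nat.ble (Nat.succ q) q')) (fun q q' => (Nat.beq (pg24 q') (nat_lit 2) &&' Nat.ble (Nat.succ q) q')) (Nat.ble i (nat_lit 2))) (@Bool.rec (fun _ => ℕ → ℕ → Bool) (fun q q' => (Nat.beq (pg24 q') (nat_lit 1) &&' Nat.ble (Nat.succ q) q')) (fun q q' => (Nat.beq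 (pg24 q') (nat_lit 0) &&' Nat.ble (Nat.succ q) q')) (Nat.ble i (nat_lit 0))) (Nat.ble i (nat_lit 1))) (Nat.ble i (nat_lit 3))) (Nat.ble i (nat_lit 6)))

noncomputable def e24_0 (q : ℕ) : Bool :=
  ent (nat_lit 31672) (nat_lit 306936) a24_0 cl24_0 (fun q q' => (Nat.beq (pg24 q') (nat_lit 0) &&' Nat.ble (Nat.succ q) q')) (sdc A24 Ws24 (nat_lit 0) sd24_0) q

noncomputable def e24_1 (q : ℕ) : Bool :=
  ent (nat_lit 31672) (nat_lit 306936) a24_1 cl24_1 (fun q q' => (Nat.beq (pg24 q') (nat_lit 1) &&' Nat.ble (Nat.succ q) q')) (sdc A24 Ws24 (nat_lit 1) sd24_1) q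

noncomputable def e24_2 (q : ℕ) : Bool :=
  ent (nat_lit 31672) (nat_lit 306936) a24_2 cl24_2 (fun q q' => (Nat.beq (pg24 q') (nat_lit 2) &&' Nat.ble (Nat.succ q) q')) (sdc A24 Ws24 (nat_lit 2) sd24_2) q

noncomputable def e24_3 (q : ℕ) : Bool :=
  ent (nat_lit 31672) (nat_lit 306936) a24_3 cl24_3 (fun q q' => (Nat.beq (pg24 q') (nat_lit 3) &&' Nat.ble (Nat.succ q) q')) (sdc A24 Ws24 (nat_lit 3) sd24_3) q

noncomputable def e24_4 (q : ℕ) : Bool :=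
  ent (nat_lit 31672) (nat_lit 306936) a24_4 cl24_4 (fun q q' => (Nat.beq (pg24 q') (nat_lit 4) &&' Nat.ble (Nat.succ q) q')) (sdc A24 Ws24 (nat_lit 4) sd24_4) q

noncomputable def e24_5 (q : ℕ) : Bool :=
  ent (nat_lit 31672) (nat_lit 306936) a24_5 cl24_5 (fun q q' => (Nat.beq (pg24 q') (nat_lit 5) &&' Nat.ble (Nat.succ q) q')) (sdc A24 Ws24 (nat_lit 5) sd24_5) q

noncomputable def e24_6 (q : ℕ) : Bool :=
  ent (nat_lit 31672) (nat_lit 306936) a24_6 cl24_6 (fun q q' => (Nat.beq (pg24 q') (nat_lit 6) &&' Nat.ble (Nat.succ q) q')) (sdc A24 Ws24 (nat_lit 6) sd24_6) q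

noncomputable def e24_8 (q : ℕ) : Bool :=
  ent (nat_lit 31672) (nat_lit 306936) a24_8 cl24_8 (fun q q' => (Nat.beq (pg24 q') (nat_lit 8) &&' Nat.ble (Nat.succ q) q')) (sdc A24 Ws24 (nat_lit 8) sd24_8) q

noncomputable def e24_9 (q : ℕ) : Bool :=
  ent (nat_lit 31672) (nat_lit 306936) a24_9 cl24_9 (fun q q' => (Nat.beq (pg24 q') (nat_lit 9) &&' Nat.ble (Nat.succ q) q')) (sdc A24 Ws24 (nat_lit 9) sd24_9) q

noncomputable def e24_10 (q : ℕ) : Bool :=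
  ent (nat_lit 31672) (nat_lit 306936) a24_10 cl24_10 (fun q q' => (Nat.beq (pg24 q') (nat_lit 10) &&' Nat.ble (Nat.succ q) q')) (sdc A24 Ws24 (nat_lit 10) sd24_10) q

noncomputable def e24_11 (q : ℕ) : Bool :=
  ent (nat_lit 31672) (nat_lit 306936) a24_11 cl24_11 (fun q q' => (Nat.beq (pg24 q') (nat_lit 11) &&' Nat.ble (Nat.succ q) q')) (sdc A24 Ws24 (nat_lit 11) sd24_11) q

noncomputable def e24_12 (q : ℕ) : Bool :=
  ent (nat_lit 31672) (nat_lit 306936) a24_12 cl24_12 (fun q q' => (Nat.beq (pg24 q') (nat_lit 12) &&' Nat.ble (Nat.succ q) q')) (sdc A24 Ws24 (nat_lit 12) sd24_12) q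

noncomputable def tr24 (q : ℕ) : Bool :=
  Nat.beq q (nat_lit 31672) ||' (lmem (pg24 q) gs24 &&' Nat.ble (Nat.land (A24 (pg24 q) q) (nat_lit 524287)) q)

noncomputable def E24 (q : ℕ) : Bool :=
  e24_0 q &&' e24_1 q &&' e24_2 q &&' e24_3 q &&' e24_4 q &&' e24_5 q &&' e24_6 q &&' e24_8 q &&' e24_9 q &&' e24_10 q &&' e24_11 q &&' e24_12 q &&' tr24 q

noncomputable def spc24 (q q' : ℕ) : Bool :=
  (Nat.beq q q' &&' Nat.ble (Nat.succ q) (nat_lit 31671)) ||' lmem q [nat_lit 31672, nat_lit 31671, nat_lit 693]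

noncomputable def Ec24 (q : ℕ) : Bool :=
  ent (nat_lit 0) (nat_lit 306936) a24_13 clc24 spc24 (sdc P24 [] (nat_lit 13) (fun _ => nat_lit 0)) q

end Cfsg.Agent.Fi
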