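import Cfsg.Agent.Fi.Gd
import Cfsg.Agent.FM.T23

/-! Commuting tuples in the model with tables `F23`. -/

set_option autoImplicit false
set_option maxRecDepth 100000
set_option Elab.async false

namespace Cfsg.Agent.Fi

open Cfsg.Agent.FM

theorem g8_tl23_2 : F23.cd.lvlX [nat_lit 0] [] [] [] (nbE 1) .tt 693 [] [] [.w [nat_lit 2], .w [nat_lit 3], .w [nat_lit 4], .w [nat_lit 5], .w [nat_lit 6], .w [nat_lit 7], .w [nat_lit 8], .w [nat_lit 10], .w [nat_lit 11], .ps [nat_lit 12449]] (.simd [nat_lit 9, nat_lit 0, nat_lit 2, nat_lit 3, nat_lit 5, nat_lit 6, nat_lit 7, nat_lit 1, nat_lit 9, nat_lit 0, nat_lit 5, nat_lit 4, nat_lit 8, nat_lit 2, nat_lit 9, nat_lit 3, nat_lit 7, nat_lit 9, nat_lit 6, nat_lit 1, nat_lit 5]) 3510 = true := by decide +kernel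
theorem g8_tl23_3 : F23.cd.lvlX [nat_lit 693, nat_lit 0] [] [] [] (nbE 2) .tt 3510 [] [] [.w [nat_lit 2], .w [nat_lit 3], .w [nat_lit 4], .w [nat_lit 5], .w [nat_lit 6], .w [nat_lit 7], .w [nat_lit 10], .w [nat_lit 11], .ps [nat_lit 5320]] (.simd [nat_lit 7, nat_lit 8, nat_lit 2, nat_lit 6, nat_lit 0, nat_lit 3, nat_lit 5, nat_lit 1, nat_lit 8, nat_lit 4, nat_lit 5, nat_lit 7, nat_lit 0, nat_lit 2, nat_lit 1, nat_lit 0, nat_lit 2]) 693 = true := by decide +kernel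
theorem g8_tl23_4 : F23.cd.lvlX [nat_lit 3510, nat_lit 693, nat_lit 0] [] [] [] (nbE 3) .tt 10 [] [] [.w [nat_lit 2], .w [nat_lit 3], .w [nat_lit 4], .w [nat_lit 5], .w [nat_lit 6], .w [nat_lit 7], .ps [nat_lit 339]] (.simd [nat_lit 1, nat_lit 6, nat_lit 0, nat_lit 2, nat_lit 5, nat_lit 3, nat_lit 1, nat_lit 6, nat_lit 4, nat_lit 3, nat_lit 5, nat_lit 4, nat_lit 0, nat_lit 1]) 180 = true := by decide +kernel
theorem g8_sd23_1 : stdChk F23.cd [nat_lit 0] 1 3511 = true := by decide +kernel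
theorem g8_sd23_2 : stdChk F23.cd [nat_lit 693, nat_lit 0] 2 695 = true := by decide +kernel
theorem g8_uq23_2 : unqChk F23.cd [nat_lit 693, nat_lit 0] [nat_lit 7745, nat_lit 345, nat_lit 7734, nat_lit 9431, nat_lit 598] = true := by decide +kernel
theorem g8_sd23_3 : stdChk F23.cd [nat_lit 3510, nat_lit 693, nat_lit 0] 3 183 = true := by decide +kernel
theorem g8_uq23_3 : unqChk F23.cd [nat_lit 3510, nat_lit 693, nat_lit 0] [nat_lit 268, nat_lit 422, nat_lit 49] = true := by decide +kernel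

variable {G : Type*} [Group G] {D : Set G} (M : Mdl G D F23.cd)

theorem g8_tr23_1 : TrL M [0] := TrL.zero M
theorem g8_tr23_2 : TrL M [693, 0] := (g8_tr23_1 M).step g8_tl23_2
theorem g8_tr23_3 : TrL M [3510, 693, 0] := (g8_tr23_2 M).step g8_tl23_3
theorem g8_tr23_4 : TrL M [10, 3510, 693, 0] := (g8_tr23_3 M).step g8_tl23_4

include M in
theorem g8_cls23 : (∀ m : ℕ, 1 ≤ m → m ≤ 3 → (∃ x : G, orderOf x = 2 ∧ Prd D m x) ∧
      ∀ x y : G, Prd D m x → Prd D m y → IsConj x y) ∧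
    ∀ (m m' : ℕ) (x : G), 1 ≤ m → m ≤ 3 → 1 ≤ m' → m' ≤ 3 → Prd D m x → Prd D m' x → m = m' :=
  g8_inv_classes M (S := nth [[], [0], [693, 0], [3510, 693, 0]] []) (f := nth [0, 3511, 695, 183] 0)
    (fun k a b => by
      interval_cases k
      exacts [⟨g8_tr23_1 M, g8_sd23_1⟩, ⟨g8_tr23_2 M, g8_sd23_2⟩, ⟨g8_tr23_3 M, g8_sd23_3⟩])
    fun k a b k' a' b' => by interval_cases k <;> interval_cases k' <;> decide

include M in
theorem g8_uniq23 {l l' : List G} (hl : CL D l) (hl' : CL D l') (e1 : l'.length = l.length) (e2 : l.length ≤ 3)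
    (e : l.prod = l'.prod) : ∀ x ∈ l', x ∈ l := by
  obtain h | h | h | h : l.length = 0 ∨ l.length = 1 ∨ l.length = 2 ∨ l.length = 3 := by omega
  · rw [List.length_eq_zero_iff.1 (e1.trans h)]; simp
  · obtain ⟨a, rfl⟩ := List.length_eq_one_iff.1 h
    obtain ⟨b, rfl⟩ := List.length_eq_one_iff.1 e1
    simpa using e.symm
  · exact (g8_tr23_2 M).unique (by decide) g8_uq23_2 hl hl' h (by omega) e
  · exact (g8_tr23_3 M).unique (by decide) g8_uq23_3 hl hl' h (by omega) e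

end Cfsg.Agent.Fi
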