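import Cfsg.Agent.Fi.Q22ad

set_option autoImplicit false
set_option maxRecDepth 100000
set_option Elab.async false

namespace Cfsg.Agent.Fi.Q22a

open Cfsg.Agent.FM Cfsg.Agent.Fi
open Cfsg.Agent.M24 (nall lall)

noncomputable def js0 : List Job := [([nat_lit 0], nat_lit 1, .s2 (.s2 (.s2 (.cj (nat_lit 0x21) (nat_lit 1) (nat_lit 0x1) (.s2 (.s2 (.cj (nat_lit 0x25) (nat_lit 1) (nat_lit 0xbdc9) (.s2 (.s2 (.cj (nat_lit 0x23) (nat_lit 1) (nat_lit 0x2c) (.s2 (.s2 (.cj (nat_lit 0x22) (nat_lit 1) (nat_lit 0x60f) (.s2 (.s2 (.s2 (.lf (nat_lit 0x100000))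
 (.lf (nat_lit 0x10000d0008b00298)))
 (.cj (nat_lit 0x503) (nat_lit 1) (nat_lit 0x1) (.lf (nat_lit 0x10000d00092001a6))))
 (.cj (nat_lit 0x562) (nat_lit 1) (nat_lit 0x1) (.cj (nat_lit 0x503) (nat_lit 1) (nat_lit 0x1) (.lf (nat_lit 0x10000a0009200298))))))
 (.cj (nat_lit 0x22) (nat_lit 1) (nat_lit 0x1) (.s2 (.cj (nat_lit 0x562) (nat_lit 1) (nat_lit 0x30) (.cj (nat_lit 0x566) (nat_lit 1) (nat_lit 0x1) (.lf (nat_lit 0x10006d0018e00298))))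
 (.s2 (.cj (nat_lit 0x562) (nat_lit 1) (nat_lit 0x1) (.lf (nat_lit 0x10007f0008b0018e)))
 (.cj (nat_lit 0x562) (nat_lit 1) (nat_lit 0x1) (.lf (nat_lit 0x100000002b5)))))))
 (.s2 (.pw (nat_lit 1) (nat_lit 0x60f))
 (.pw (nat_lit 1) (nat_lit 0x60f)))))
 (.cj (nat_lit 0x23) (nat_lit 1) (nat_lit 0x1) (.s2 (.cj (nat_lit 0x503) (nat_lit 1) (nat_lit 0x1) (.cj (nat_lit 0x26) (nat_lit 1) (nat_lit 0x30) (.s2 (.cj (nat_lit 0x566) (nat_lit 1) (nat_lit 0x1) (.s2 (.lf (nat_lit 0x1000120006d00092))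
 (.lf (nat_lit 0x10000000069))))
 (.cj (nat_lit 0x562) (nat_lit 1) (nat_lit 0x1) (.cj (nat_lit 0x4c2) (nat_lit 1) (nat_lit 0x1) (.lf (nat_lit 0x1000920018e002a7)))))))
 (.cj (nat_lit 0x503) (nat_lit 1) (nat_lit 0x1) (.pw (nat_lit 1) (nat_lit 0x60f))))))
 (.s2 (.pw (nat_lit 1) (nat_lit 0x2c))
 (.pw (nat_lit 1) (nat_lit 0x2c)))))
 (.cj (nat_lit 0x25) (nat_lit 1) (nat_lit 0x60f73569) (.s2 (.s2 (.cj (nat_lit 0x23) (nat_lit 1) (nat_lit 0x2c) (.s2 (.cj (nat_lit 0x504) (nat_lit 1) (nat_lit 0x30) (.pw (nat_lit 1) (nat_lit 0x60f)))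
 (.cj (nat_lit 0x504) (nat_lit 1) (nat_lit 0x2e) (.cj (nat_lit 0x27) (nat_lit 1) (nat_lit 0x2f) (.s2 (.cj (nat_lit 0x29) (nat_lit 1) (nat_lit 0x1) (.cj (nat_lit 0x2a) (nat_lit 1) (nat_lit 0x1) (.lf (nat_lit 0x100000000380023f))))
 (.cj (nat_lit 0x29) (nat_lit 1) (nat_lit 0x1) (.pw (nat_lit 1) (nat_lit 0x1))))))))
 (.cj (nat_lit 0x23) (nat_lit 1) (nat_lit 0x30) (.s2 (.cj (nat_lit 0x503) (nat_lit 1) (nat_lit 0x30) (.pw (nat_lit 1) (nat_lit 0x30)))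
 (.cj (nat_lit 0x503) (nat_lit 1) (nat_lit 0x30) (.cj (nat_lit 0x26) (nat_lit 1) (nat_lit 0x30) (.cj (nat_lit 0x173083) (nat_lit 1) (nat_lit 0x1) (.pw (nat_lit 1) (nat_lit 0x1))))))))
 (.s2 (.pw (nat_lit 1) (nat_lit 0xbdac))
 (.pw (nat_lit 1) (nat_lit 0x5ac))))))
 (.s2 (.pw (nat_lit 1) (nat_lit 0xbdc9))
 (.pw (nat_lit 1) (nat_lit 0x3073569)))))
 (.cj (nat_lit 0x21) (nat_lit 1) (nat_lit 0xc1cd62d48) (.s2 (.cj (nat_lit 0x22) (nat_lit 1) (nat_lit 0x1) (.cj (nat_lit 0x25) (nat_lit 1) (nat_lit 0x3062928) (.s2 (.s2 (.pw (nat_lit 1) (nat_lit 0x2c))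
 (.pw (nat_lit 1) (nat_lit 0x1)))
 (.s2 (.cj (nat_lit 0x23) (nat_lit 1) (nat_lit 0x2c) (.s2 (.cj (nat_lit 0x29) (nat_lit 1) (nat_lit 0x1) (.cj (nat_lit 0x26) (nat_lit 1) (nat_lit 0x60f) (.cj (nat_lit 0xa507) (nat_lit 1) (nat_lit 0x60f) (.s2 (.cj (nat_lit 0x2d) (nat_lit 1) (nat_lit 0x1) (.lf (nat_lit 0x100000000250023f)))
 (.pw (nat_lit 1) (nat_lit 0x1))))))
 (.cj (nat_lit 0x29) (nat_lit 1) (nat_lit 0x1) (.pw (nat_lit 1) (nat_lit 0x60f)))))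
 (.cj (nat_lit 0x23) (nat_lit 1) (nat_lit 0x1) (.s2 (.pw (nat_lit 1) (nat_lit 0x1))
 (.pw (nat_lit 1) (nat_lit 0xc1ed))))))))
 (.cj (nat_lit 0x22) (nat_lit 1) (nat_lit 0x1) (.pw (nat_lit 1) (nat_lit 0xc128))))))
 (.s2 (.cj (nat_lit 0x21) (nat_lit 1) (nat_lit 0x17b8e5) (.s2 (.cj (nat_lit 0x23) (nat_lit 1) (nat_lit 0x307b58a) (.cj (nat_lit 0x24) (nat_lit 1) (nat_lit 0x1) (.s2 (.cj (nat_lit 0x4a4) (nat_lit 1) (nat_lit 0x5ee) (.cj (nat_lit 0x28) (nat_lit 1) (nat_lit 0x17b58b) (.s2 (.s2 (.pw (nat_lit 1) (nat_lit 0x60f))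
 (.pw (nat_lit 1) (nat_lit 0x1)))
 (.s2 (.cj (nat_lit 0x2a) (nat_lit 1) (nat_lit 0x30) (.s2 (.cj (nat_lit 0x27) (nat_lit 1) (nat_lit 0x1) (.cj (nat_lit 0x5cc) (nat_lit 1) (nat_lit 0x1) (.lf (nat_lit 0x100000002cb003f4))))
 (.pw (nat_lit 1) (nat_lit 0x1))))
 (.cj (nat_lit 0x22) (nat_lit 1) (nat_lit 0x1) (.s2 (.pw (nat_lit 1) (nat_lit 0x30))
 (.cj (nat_lit 0x27) (nat_lit 1) (nat_lit 0x1) (.pw (nat_lit 1) (nat_lit 0x1)))))))))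
 (.cj (nat_lit 0x4a4) (nat_lit 1) (nat_lit 0xc1ec) (.pw (nat_lit 1) (nat_lit 0xc18b))))))
 (.cj (nat_lit 0x23) (nat_lit 1) (nat_lit 0x568) (.pw (nat_lit 1) (nat_lit 0x307b9a9)))))
 (.cj (nat_lit 0x21) (nat_lit 1) (nat_lit 0xc1cc520e5) (.s2 (.pw (nat_lit 1) (nat_lit 0x58a))
 (.pw (nat_lit 1) (nat_lit 0x16a507))))))
 (.s2 (.s2 (.pw (nat_lit 1) (nat_lit 0x1))
 (.pw (nat_lit 1) (nat_lit 0x307ad48)))
 (.s2 (.pw (nat_lit 1) (nat_lit 0x60f73525))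
 (.pw (nat_lit 1) (nat_lit 0x60b4a0c5))))),
 ([nat_lit 1], nat_lit 2, .s2 (.s2 (.cj (nat_lit 0x20) (nat_lit 1) (nat_lit 0x1) (.cj (nat_lit 0x22) (nat_lit 1) (nat_lit 0x1) (.s2 (.s2 (.cj (nat_lit 0x26) (nat_lit 1) (nat_lit 0x30) (.cj (nat_lit 0x27) (nat_lit 1) (nat_lit 0x1) (.s2 (.cj (nat_lit 0x4c3) (nat_lit 1) (nat_lit 0x183dcc) (.cj (nat_lit 0x2a) (nat_lit 1) (nat_lit 0x2e) (.s2 (.cj (nat_lit 0x2d) (nat_lit 1) (nat_lit 0x1) (.s2 (.s2 (.lf (nat_lit 0x100089001a9))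
 (.lf (nat_lit 0x100069000f50011f)))
 (.s2 (.lf (nat_lit 0x100084001170024b))
 (.lf (nat_lit 0x1000f50011f001b9)))))
 (.pw (nat_lit 1) (nat_lit 0x1)))))
 (.cj (nat_lit 0x4c3) (nat_lit 1) (nat_lit 0x183dcc) (.pw (nat_lit 1) (nat_lit 0x2e))))))
 (.cj (nat_lit 0x26) (nat_lit 1) (nat_lit 0x5cd) (.pw (nat_lit 1) (nat_lit 0x1))))
 (.s2 (.pw (nat_lit 1) (nat_lit 0x30))
 (.pw (nat_lit 1) (nat_lit 0xbda9))))))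
 (.cj (nat_lit 0x20) (nat_lit 1) (nat_lit 0x5ca) (.cj (nat_lit 0x22) (nat_lit 1) (nat_lit 0x182d06) (.s2 (.s2 (.pw (nat_lit 1) (nat_lit 0x17b98b))
 (.pw (nat_lit 1) (nat_lit 0x2f72d49)))
 (.s2 (.cj (nat_lit 0x25) (nat_lit 1) (nat_lit 0x2b) (.cj (nat_lit 0x27) (nat_lit 1) (nat_lit 0xb58a) (.s2 (.pw (nat_lit 1) (nat_lit 0x183dcc))
 (.pw (nat_lit 1) (nat_lit 0x2f)))))
 (.cj (nat_lit 0x25) (nat_lit 1) (nat_lit 0x2b) (.pw (nat_lit 1) (nat_lit 0x17356a))))))))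
 (.s2 (.cj (nat_lit 0x20) (nat_lit 1) (nat_lit 0x183dcd) (.pw (nat_lit 1) (nat_lit 0x1)))
 (.cj (nat_lit 0x20) (nat_lit 1) (nat_lit 0x5ca) (.pw (nat_lit 1) (nat_lit 0xc1ee62d06))))),
 ([nat_lit 2], nat_lit 3, .s2 (.s2 (.cj (nat_lit 0x21) (nat_lit 1) (nat_lit 0x1) (.cj (nat_lit 0x23) (nat_lit 1) (nat_lit 0x1) (.cj (nat_lit 0x24) (nat_lit 1) (nat_lit 0x1) (.s2 (.s2 (.s2 (.cj (nat_lit 0x28) (nat_lit 1) (nat_lit 0x1) (.s2 (.cj (nat_lit 0x2a) (nat_lit 1) (nat_lit 0x1) (.s2 (.cj (nat_lit 0x2e) (nat_lit 1) (nat_lit 0x1) (.cj (nat_lit 0x5cc) (nat_lit 1) (nat_lit 0x1) (.lf (nat_lit 0x10037f00478))))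
 (.pw (nat_lit 1) (nat_lit 0x1))))
 (.cj (nat_lit 0x2a) (nat_lit 1) (nat_lit 0x1) (.s2 (.pw (nat_lit 1) (nat_lit 0x30))
 (.cj (nat_lit 0x2e) (nat_lit 1) (nat_lit 0x1) (.pw (nat_lit 1) (nat_lit 0x1)))))))
 (.cj (nat_lit 0x28) (nat_lit 1) (nat_lit 0x1) (.s2 (.pw (nat_lit 1) (nat_lit 0x1))
 (.pw (nat_lit 1) (nat_lit 0x60f)))))
 (.s2 (.cj (nat_lit 0x28) (nat_lit 1) (nat_lit 0x1) (.s2 (.cj (nat_lit 0x2a) (nat_lit 1) (nat_lit 0x1) (.s2 (.cj (nat_lit 0x26) (nat_lit 1) (nat_lit 0x1) (.cj (nat_lit 0x5cc) (nat_lit 1) (nat_lit 0x1) (.lf (nat_lit 0x100069003ea00537))))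
 (.pw (nat_lit 1) (nat_lit 0x1))))
 (.cj (nat_lit 0x2a) (nat_lit 1) (nat_lit 0x1) (.s2 (.pw (nat_lit 1) (nat_lit 0x30))
 (.cj (nat_lit 0x26) (nat_lit 1) (nat_lit 0x1) (.pw (nat_lit 1) (nat_lit 0x1)))))))
 (.cj (nat_lit 0x28) (nat_lit 1) (nat_lit 0x1) (.s2 (.pw (nat_lit 1) (nat_lit 0x1))
 (.pw (nat_lit 1) (nat_lit 0x60f))))))
 (.s2 (.cj (nat_lit 0x20) (nat_lit 1) (nat_lit 0x2c) (.pw (nat_lit 1) (nat_lit 0x1)))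
 (.cj (nat_lit 0x20) (nat_lit 1) (nat_lit 0x2c) (.pw (nat_lit 1) (nat_lit 0x1))))))))
 (.cj (nat_lit 0x21) (nat_lit 1) (nat_lit 0x1) (.cj (nat_lit 0x23) (nat_lit 1) (nat_lit 0x17b98a) (.pw (nat_lit 1) (nat_lit 0x1)))))
 (.s2 (.cj (nat_lit 0x21) (nat_lit 1) (nat_lit 0x307b988) (.pw (nat_lit 1) (nat_lit 0x1)))
 (.cj (nat_lit 0x21) (nat_lit 1) (nat_lit 0x307b988) (.pw (nat_lit 1) (nat_lit 0x307b987)))))]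
theorem hj0 : jobsChk 2 17 T pb (lf2 F22.cd om T gb 17 3) js0 = true := by decide +kernel

noncomputable def js1 : List Job := [([nat_lit 3], nat_lit 4, .s2 (.s2 (.cj (nat_lit 0x22) (nat_lit 1) (nat_lit 0x1) (.s2 (.cj (nat_lit 0x25) (nat_lit 1) (nat_lit 0x1) (.s2 (.cj (nat_lit 0x27) (nat_lit 1) (nat_lit 0x1) (.cj (nat_lit 0x4a1) (nat_lit 1) (nat_lit 0xbdcc) (.cj (nat_lit 0x29) (nat_lit 1) (nat_lit 0x1) (.cj (nat_lit 0xa4e4) (nat_lit 1) (nat_lit 0xc1ee) (.s2 (.s2 (.cj (nat_lit 0x2e) (nat_lit 1) (nat_lit 0x1) (.lf (nat_lit 0x10003a00225)))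
 (.pw (nat_lit 1) (nat_lit 0x1)))
 (.s2 (.pw (nat_lit 1) (nat_lit 0x1))
 (.cj (nat_lit 0x26) (nat_lit 1) (nat_lit 0x1) (.lf (nat_lit 0x1000ae000f2001ff)))))))))
 (.cj (nat_lit 0x27) (nat_lit 1) (nat_lit 0x1) (.cj (nat_lit 0x4a1) (nat_lit 1) (nat_lit 0xbdcc) (.pw (nat_lit 1) (nat_lit 0x1))))))
 (.cj (nat_lit 0x25) (nat_lit 1) (nat_lit 0x1) (.cj (nat_lit 0x4a1) (nat_lit 1) (nat_lit 0xbdcb) (.pw (nat_lit 1) (nat_lit 0x1))))))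
 (.cj (nat_lit 0x22) (nat_lit 1) (nat_lit 0x1) (.cj (nat_lit 0x20) (nat_lit 1) (nat_lit 0xbdc9) (.pw (nat_lit 1) (nat_lit 0x1)))))
 (.s2 (.cj (nat_lit 0x22) (nat_lit 1) (nat_lit 0xb547) (.s2 (.cj (nat_lit 0x25) (nat_lit 1) (nat_lit 0x589) (.cj (nat_lit 0x4a1) (nat_lit 1) (nat_lit 0xbdcb) (.pw (nat_lit 1) (nat_lit 0x307b9ac))))
 (.cj (nat_lit 0x25) (nat_lit 1) (nat_lit 0x589) (.s2 (.cj (nat_lit 0x27) (nat_lit 1) (nat_lit 0x1) (.cj (nat_lit 0x4a1) (nat_lit 1) (nat_lit 0xbdcc) (.pw (nat_lit 1) (nat_lit 0x183dcd))))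
 (.cj (nat_lit 0x27) (nat_lit 1) (nat_lit 0x1) (.cj (nat_lit 0x4a1) (nat_lit 1) (nat_lit 0xbdcc) (.cj (nat_lit 0x29) (nat_lit 1) (nat_lit 0x1) (.pw (nat_lit 1) (nat_lit 0xc1ee)))))))))
 (.cj (nat_lit 0x22) (nat_lit 1) (nat_lit 0xb547) (.cj (nat_lit 0x20) (nat_lit 1) (nat_lit 0xbdc9) (.pw (nat_lit 1) (nat_lit 0x307b549)))))),
 ([nat_lit 4], nat_lit 5, .s2 (.s2 (.cj (nat_lit 0x22) (nat_lit 1) (nat_lit 0x1) (.s2 (.cj (nat_lit 0x25) (nat_lit 1) (nat_lit 0x1) (.cj (nat_lit 0x26) (nat_lit 1) (nat_lit 0x30) (.s2 (.cj (nat_lit 0x28) (nat_lit 1) (nat_lit 0x2e) (.cj (nat_lit 0xa0c3) (nat_lit 1) (nat_lit 0x60f) (.cj (nat_lit 0x2b) (nat_lit 1) (nat_lit 0x1) (.s2 (.s2 (.lf (nat_lit 0x1000000018e))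
 (.lf (nat_lit 0x1000690006b001a6)))
 (.s2 (.lf (nat_lit 0x100084002990029c))
 (.lf (nat_lit 0x10007f0008b000f2)))))))
 (.cj (nat_lit 0x28) (nat_lit 1) (nat_lit 0x2e) (.cj (nat_lit 0x20) (nat_lit 1) (nat_lit 0x60f) (.pw (nat_lit 1) (nat_lit 0x1)))))))
 (.cj (nat_lit 0x25) (nat_lit 1) (nat_lit 0x1) (.cj (nat_lit 0x20) (nat_lit 1) (nat_lit 0x2c) (.s2 (.pw (nat_lit 1) (nat_lit 0x2e))
 (.pw (nat_lit 1) (nat_lit 0x1)))))))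
 (.cj (nat_lit 0x22) (nat_lit 1) (nat_lit 0x1) (.cj (nat_lit 0x21) (nat_lit 1) (nat_lit 0xc1cc) (.cj (nat_lit 0x25) (nat_lit 1) (nat_lit 0x5cb) (.pw (nat_lit 1) (nat_lit 0x30))))))
 (.s2 (.cj (nat_lit 0x22) (nat_lit 1) (nat_lit 0x1) (.cj (nat_lit 0x23) (nat_lit 1) (nat_lit 0x183daa) (.pw (nat_lit 1) (nat_lit 0x1))))
 (.cj (nat_lit 0x22) (nat_lit 1) (nat_lit 0x1) (.cj (nat_lit 0x21) (nat_lit 1) (nat_lit 0xc1cc) (.pw (nat_lit 1) (nat_lit 0x307b96a)))))),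
 ([nat_lit 5], nat_lit 6, .s2 (.cj (nat_lit 0x20) (nat_lit 1) (nat_lit 0xbdc9) (.cj (nat_lit 0x23) (nat_lit 1) (nat_lit 0x1) (.cj (nat_lit 0x24) (nat_lit 1) (nat_lit 0x1) (.s2 (.cj (nat_lit 0x26) (nat_lit 1) (nat_lit 0x1) (.s2 (.s2 (.cj (nat_lit 0x2a) (nat_lit 1) (nat_lit 0x60f) (.cj (nat_lit 0x2d) (nat_lit 1) (nat_lit 0x1) (.s2 (.lf (nat_lit 0x1000f5001a9))
 (.lf (nat_lit 0x100069000890011f)))))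
 (.cj (nat_lit 0x21) (nat_lit 1) (nat_lit 0x1) (.pw (nat_lit 1) (nat_lit 0x1))))
 (.s2 (.cj (nat_lit 0x2a) (nat_lit 1) (nat_lit 0x60f) (.cj (nat_lit 0x2d) (nat_lit 1) (nat_lit 0x1) (.cj (nat_lit 0x5a2) (nat_lit 1) (nat_lit 0x1) (.lf (nat_lit 0x100084000f4001b5)))))
 (.cj (nat_lit 0x21) (nat_lit 1) (nat_lit 0x1) (.pw (nat_lit 1) (nat_lit 0x1))))))
 (.cj (nat_lit 0x26) (nat_lit 1) (nat_lit 0x1) (.cj (nat_lit 0x21) (nat_lit 1) (nat_lit 0x2e) (.cj (nat_lit 0x22) (nat_lit 1) (nat_lit 0x2f) (.pw (nat_lit 1) (nat_lit 0x60f)))))))))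
 (.cj (nat_lit 0x20) (nat_lit 1) (nat_lit 0x307b9a9) (.cj (nat_lit 0x23) (nat_lit 1) (nat_lit 0x1) (.cj (nat_lit 0x24) (nat_lit 1) (nat_lit 0xbdca) (.s2 (.pw (nat_lit 1) (nat_lit 0x1))
 (.pw (nat_lit 1) (nat_lit 0x5ee))))))),
 ([nat_lit 6], nat_lit 7, .s2 (.cj (nat_lit 0x21) (nat_lit 1) (nat_lit 0x30) (.s2 (.cj (nat_lit 0x24) (nat_lit 1) (nat_lit 0x30) (.cj (nat_lit 0x25) (nat_lit 1) (nat_lit 0x1) (.s2 (.cj (nat_lit 0x27) (nat_lit 1) (nat_lit 0x1) (.s2 (.cj (nat_lit 0x29) (nat_lit 1) (nat_lit 0x1) (.cj (nat_lit 0x2c) (nat_lit 1) (nat_lit 0x1) (.lf (nat_lit 0x10022300225))))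
 (.cj (nat_lit 0x22) (nat_lit 1) (nat_lit 0x1) (.pw (nat_lit 1) (nat_lit 0x1)))))
 (.cj (nat_lit 0x27) (nat_lit 1) (nat_lit 0x1) (.s2 (.cj (nat_lit 0x29) (nat_lit 1) (nat_lit 0x1) (.pw (nat_lit 1) (nat_lit 0x1)))
 (.cj (nat_lit 0x29) (nat_lit 1) (nat_lit 0x1) (.cj (nat_lit 0x22) (nat_lit 1) (nat_lit 0x1) (.lf (nat_lit 0x100056000ae000f2)))))))))
 (.cj (nat_lit 0x24) (nat_lit 1) (nat_lit 0x30) (.cj (nat_lit 0x25) (nat_lit 1) (nat_lit 0x1) (.cj (nat_lit 0x23) (nat_lit 1) (nat_lit 0x30) (.cj (nat_lit 0x27) (nat_lit 1) (nat_lit 0x1) (.s2 (.pw (nat_lit 1) (nat_lit 0x1))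
 (.pw (nat_lit 1) (nat_lit 0x30)))))))))
 (.cj (nat_lit 0x21) (nat_lit 1) (nat_lit 0xc1e9) (.s2 (.cj (nat_lit 0x23) (nat_lit 1) (nat_lit 0x1) (.cj (nat_lit 0x25) (nat_lit 1) (nat_lit 0x1) (.s2 (.pw (nat_lit 1) (nat_lit 0x1))
 (.pw (nat_lit 1) (nat_lit 0x30)))))
 (.cj (nat_lit 0x24) (nat_lit 1) (nat_lit 0x30) (.cj (nat_lit 0x25) (nat_lit 1) (nat_lit 0x1) (.cj (nat_lit 0x483) (nat_lit 1) (nat_lit 0x1) (.pw (nat_lit 1) (nat_lit 0x2f)))))))),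
 ([nat_lit 7], nat_lit 8, .s2 (.cj (nat_lit 0x21) (nat_lit 1) (nat_lit 0x1) (.cj (nat_lit 0x23) (nat_lit 1) (nat_lit 0x1) (.s2 (.s2 (.cj (nat_lit 0x26) (nat_lit 1) (nat_lit 0x1) (.cj (nat_lit 0x28) (nat_lit 1) (nat_lit 0x60f) (.cj (nat_lit 0x2b) (nat_lit 1) (nat_lit 0x1) (.s2 (.lf (nat_lit 0x10000a000690008b))
 (.lf (nat_lit 0x1000120007f))))))
 (.cj (nat_lit 0x26) (nat_lit 1) (nat_lit 0x30) (.cj (nat_lit 0x28) (nat_lit 1) (nat_lit 0x60f) (.cj (nat_lit 0x2b) (nat_lit 1) (nat_lit 0x1) (.cj (nat_lit 0x562) (nat_lit 1) (nat_lit 0x1) (.lf (nat_lit 0x10000a0008b002a8)))))))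
 (.s2 (.cj (nat_lit 0x26) (nat_lit 1) (nat_lit 0x1) (.cj (nat_lit 0x24) (nat_lit 1) (nat_lit 0x1) (.pw (nat_lit 1) (nat_lit 0x1))))
 (.cj (nat_lit 0x26) (nat_lit 1) (nat_lit 0x30) (.cj (nat_lit 0x24) (nat_lit 1) (nat_lit 0x1) (.pw (nat_lit 1) (nat_lit 0x1))))))))
 (.cj (nat_lit 0x21) (nat_lit 1) (nat_lit 0x1) (.cj (nat_lit 0x23) (nat_lit 1) (nat_lit 0x1) (.cj (nat_lit 0x22) (nat_lit 1) (nat_lit 0x2f) (.cj (nat_lit 0x24) (nat_lit 1) (nat_lit 0x2e) (.cj (nat_lit 0x26) (nat_lit 1) (nat_lit 0x1) (.pw (nat_lit 1) (nat_lit 0x60f)))))))),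
 ([nat_lit 8], nat_lit 9, .s2 (.cj (nat_lit 0x20) (nat_lit 1) (nat_lit 0x2c) (.cj (nat_lit 0x22) (nat_lit 1) (nat_lit 0x1) (.cj (nat_lit 0x24) (nat_lit 1) (nat_lit 0x2e) (.s2 (.cj (nat_lit 0x27) (nat_lit 1) (nat_lit 0x60f) (.s2 (.cj (nat_lit 0x2d) (nat_lit 1) (nat_lit 0x1) (.lf (nat_lit 0x1000f2000f30011f)))
 (.cj (nat_lit 0x23) (nat_lit 1) (nat_lit 0x1) (.lf (nat_lit 0x10011a0024b)))))
 (.cj (nat_lit 0x21) (nat_lit 1) (nat_lit 0x1) (.cj (nat_lit 0x25) (nat_lit 1) (nat_lit 0x1) (.pw (nat_lit 1) (nat_lit 0x1))))))))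
 (.cj (nat_lit 0x20) (nat_lit 1) (nat_lit 0x2c) (.cj (nat_lit 0x22) (nat_lit 1) (nat_lit 0x1) (.cj (nat_lit 0x23) (nat_lit 1) (nat_lit 0x1) (.s2 (.cj (nat_lit 0x27) (nat_lit 1) (nat_lit 0x60f) (.cj (nat_lit 0x26) (nat_lit 1) (nat_lit 0x1) (.cj (nat_lit 0x2d) (nat_lit 1) (nat_lit 0x1) (.lf (nat_lit 0x1000f5001b9001be)))))
 (.cj (nat_lit 0x21) (nat_lit 1) (nat_lit 0x1) (.cj (nat_lit 0x25) (nat_lit 1) (nat_lit 0x1) (.pw (nat_lit 1) (nat_lit 0x1))))))))),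
 ([nat_lit 9], nat_lit 10, .s2 (.s2 (.cj (nat_lit 0x23) (nat_lit 1) (nat_lit 0x1) (.s2 (.s2 (.cj (nat_lit 0x26) (nat_lit 1) (nat_lit 0x1) (.s2 (.lf (nat_lit 0x100084001b9002a8))
 (.lf (nat_lit 0x100069))))
 (.cj (nat_lit 0x22) (nat_lit 1) (nat_lit 0x1) (.cj (nat_lit 0x4c2) (nat_lit 1) (nat_lit 0x1) (.lf (nat_lit 0x100084002b5)))))
 (.cj (nat_lit 0x21) (nat_lit 1) (nat_lit 0x1) (.cj (nat_lit 0x25) (nat_lit 1) (nat_lit 0x1) (.cj (nat_lit 0x28) (nat_lit 1) (nat_lit 0x1) (.lf (nat_lit 0x10006900092001a6)))))))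
 (.cj (nat_lit 0x23) (nat_lit 1) (nat_lit 0x1) (.cj (nat_lit 0x20) (nat_lit 1) (nat_lit 0x60f) (.cj (nat_lit 0x24) (nat_lit 1) (nat_lit 0x1) (.cj (nat_lit 0x26) (nat_lit 1) (nat_lit 0x1) (.cj (nat_lit 0x2a) (nat_lit 1) (nat_lit 0x1) (.lf (nat_lit 0x100069000f300117))))))))
 (.s2 (.cj (nat_lit 0x23) (nat_lit 1) (nat_lit 0x1) (.cj (nat_lit 0x22) (nat_lit 1) (nat_lit 0x1) (.cj (nat_lit 0x461) (nat_lit 1) (nat_lit 0x1) (.cj (nat_lit 0x26) (nat_lit 1) (nat_lit 0x1) (.cj (nat_lit 0x2b) (nat_lit 1) (nat_lit 0x1) (.lf (nat_lit 0x1000120006b001b9)))))))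
 (.cj (nat_lit 0x23) (nat_lit 1) (nat_lit 0x1) (.cj (nat_lit 0x22) (nat_lit 1) (nat_lit 0x1) (.cj (nat_lit 0x24) (nat_lit 1) (nat_lit 0x1) (.cj (nat_lit 0x26) (nat_lit 1) (nat_lit 0x1) (.pw (nat_lit 1) (nat_lit 0x1))))))))]
theorem hj1 : jobsChk 2 17 T pb (lf2 F22.cd om T gb 17 3) js1 = true := by decide +kernel

noncomputable def js2 : List Job := [([nat_lit 10], nat_lit 11, .s2 (.cj (nat_lit 0x21) (nat_lit 1) (nat_lit 0x2e) (.cj (nat_lit 0x22) (nat_lit 1) (nat_lit 0x1) (.cj (nat_lit 0x25) (nat_lit 1) (nat_lit 0x60f) (.s2 (.cj (nat_lit 0x2b) (nat_lit 1) (nat_lit 0x1) (.lf (nat_lit 0x10000a000f2001a6)))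
 (.cj (nat_lit 0x23) (nat_lit 1) (nat_lit 0x1) (.lf (nat_lit 0x10029c002a7)))))))
 (.cj (nat_lit 0x21) (nat_lit 1) (nat_lit 0x2e) (.cj (nat_lit 0x22) (nat_lit 1) (nat_lit 0x1) (.cj (nat_lit 0x24) (nat_lit 1) (nat_lit 0x1) (.cj (nat_lit 0x27) (nat_lit 1) (nat_lit 0x1) (.pw (nat_lit 1) (nat_lit 0x1))))))),
 ([nat_lit 11], nat_lit 12, .s2 (.cj (nat_lit 0x20) (nat_lit 1) (nat_lit 0x60f) (.cj (nat_lit 0x24) (nat_lit 1) (nat_lit 0x1) (.cj (nat_lit 0x27) (nat_lit 1) (nat_lit 0x1) (.cj (nat_lit 0x2a) (nat_lit 1) (nat_lit 0x1) (.lf (nat_lit 0x10011f001b5))))))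
 (.cj (nat_lit 0x20) (nat_lit 1) (nat_lit 0x60f) (.cj (nat_lit 0x24) (nat_lit 1) (nat_lit 0x1) (.cj (nat_lit 0x27) (nat_lit 1) (nat_lit 0x1) (.cj (nat_lit 0x26) (nat_lit 1) (nat_lit 0x1) (.lf (nat_lit 0x1000f2000f900118))))))),
 ([nat_lit 12], nat_lit 13, .s2 (.s2 (.cj (nat_lit 0x22) (nat_lit 1) (nat_lit 0x30) (.cj (nat_lit 0x26) (nat_lit 1) (nat_lit 0x1) (.lf (nat_lit 0x100069002a8))))
 (.s2 (.cj (nat_lit 0x22) (nat_lit 1) (nat_lit 0x1) (.lf (nat_lit 0x100084000f2002a8)))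
 (.cj (nat_lit 0x22) (nat_lit 1) (nat_lit 0x1) (.lf (nat_lit 0x1002b5)))))
 (.cj (nat_lit 0x21) (nat_lit 1) (nat_lit 0x1) (.cj (nat_lit 0x25) (nat_lit 1) (nat_lit 0x1) (.cj (nat_lit 0x26) (nat_lit 1) (nat_lit 0x1) (.lf (nat_lit 0x1000f20018e002a1)))))),
 ([nat_lit 13], nat_lit 14, .cj (nat_lit 0x21) (nat_lit 1) (nat_lit 0x1) (.cj (nat_lit 0x25) (nat_lit 1) (nat_lit 0x1) (.cj (nat_lit 0x28) (nat_lit 1) (nat_lit 0x1) (.lf (nat_lit 0x10000a00299))))),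
 ([nat_lit 14], nat_lit 15, .cj (nat_lit 0x22) (nat_lit 1) (nat_lit 0x1) (.cj (nat_lit 0x23) (nat_lit 1) (nat_lit 0x1) (.lf (nat_lit 0x10006900084000f2)))),
 ([nat_lit 15], nat_lit 16, .cj (nat_lit 0x23) (nat_lit 1) (nat_lit 0x1) (.lf (nat_lit 0x100069001b9))),
 ([nat_lit 16], nat_lit 17, .lf (nat_lit 0x1000f2002b5))]
theorem hj2 : jobsChk 2 17 T pb (lf2 F22.cd om T gb 17 3) js2 = true := by decide +kernel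


end Cfsg.Agent.Fi.Q22a
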