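import Cfsg.Agent.Fi.Q22br

set_option autoImplicit false
set_option maxRecDepth 100000
set_option Elab.async false

namespace Cfsg.Agent.Fi.Q22b

open Cfsg.Agent.FM Cfsg.Agent.Fi
open Cfsg.Agent.M24 (nall lall)

noncomputable def js0 : List Job := [([nat_lit 0], nat_lit 1, .s3 (.s3 (.cj (nat_lit 0x21) (nat_lit 2) (nat_lit 0x1420a5) (.cj (nat_lit 0x22) (nat_lit 2) (nat_lit 0xa0e5) (.cj (nat_lit 0x23) (nat_lit 1) (nat_lit 0x28) (.s3 (.cj (nat_lit 0x26) (nat_lit 1) (nat_lit 0x1) (.pw (nat_lit 1) (nat_lit 0x1)))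
 (.cj (nat_lit 0x20) (nat_lit 2) (nat_lit 0x1) (.pw (nat_lit 2) (nat_lit 0x1)))
 (.cj (nat_lit 0x20) (nat_lit 1) (nat_lit 0x1) (.cj (nat_lit 0x25) (nat_lit 1) (nat_lit 0x1) (.lf (nat_lit 0x100025000a6000270013a000050018400007001da0038300003))))))))
 (.cj (nat_lit 0x21) (nat_lit 2) (nat_lit 0x28398c5) (.cj (nat_lit 0x22) (nat_lit 2) (nat_lit 0xa0e5) (.cj (nat_lit 0x24) (nat_lit 1) (nat_lit 0x141ce6) (.pw (nat_lit 1) (nat_lit 0x508)))))
 (.cj (nat_lit 0x21) (nat_lit 2) (nat_lit 0x1420e6) (.cj (nat_lit 0x20) (nat_lit 2) (nat_lit 0x4e5) (.pw (nat_lit 1) (nat_lit 0x26)))))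
 (.s3 (.cj (nat_lit 0x20) (nat_lit 1) (nat_lit 0x141cc5) (.cj (nat_lit 0x22) (nat_lit 2) (nat_lit 0x98a5) (.pw (nat_lit 2) (nat_lit 0x1420e6))))
 (.cj (nat_lit 0x20) (nat_lit 1) (nat_lit 0x1398a4) (.cj (nat_lit 0x22) (nat_lit 2) (nat_lit 0x98a5) (.s3 (.s3 (.s3 (.cj (nat_lit 0x23) (nat_lit 2) (nat_lit 0x1) (.lf (nat_lit 0x10006b0002500026000480024c006da00000)))
 (.cj (nat_lit 0x23) (nat_lit 2) (nat_lit 0x1) (.lf (nat_lit 0x10004d000a7000300007b00008002930086800003)))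
 (.cj (nat_lit 0x23) (nat_lit 2) (nat_lit 0x1) (.lf (nat_lit 0x1000690006a0000a0007c0000500187000030025d0082000003))))
 (.s3 (.cj (nat_lit 0x23) (nat_lit 2) (nat_lit 0x1) (.lf (nat_lit 0x10002e000410000d0002700006000f700003001960069b00003)))
 (.cj (nat_lit 0x23) (nat_lit 2) (nat_lit 0x1) (.lf (nat_lit 0x10004d00069000250006a00026000eb000ab0003f00433002b600003)))
 (.cj (nat_lit 0x23) (nat_lit 2) (nat_lit 0x1) (.lf (nat_lit 0x10004d00025000a60006e0014500010001ac004e200002))))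
 (.s3 (.cj (nat_lit 0x23) (nat_lit 2) (nat_lit 0x1) (.lf (nat_lit 0x10002e000250006a0006d001840000000252009b800003)))
 (.cj (nat_lit 0x23) (nat_lit 2) (nat_lit 0x1) (.lf (nat_lit 0x10002e0004d00025000260006f000a9000030027e00a7e00001)))
 (.cj (nat_lit 0x23) (nat_lit 2) (nat_lit 0x1) (.lf (nat_lit 0x10006a0004e00002000f0001e200d8b00003)))))
 (.s3 (.s3 (.cj (nat_lit 0x26) (nat_lit 1) (nat_lit 0x1) (.lf (nat_lit 0x1000a6000440001b00141002780082e00003)))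
 (.cj (nat_lit 0x26) (nat_lit 1) (nat_lit 0x1) (.lf (nat_lit 0x10006a0000d0002600002000ab000010017800c7000001)))
 (.cj (nat_lit 0x26) (nat_lit 1) (nat_lit 0x1) (.lf (nat_lit 0x10004d0006c000260002f0002d0018700298006fc00001))))
 (.s3 (.cj (nat_lit 0x24) (nat_lit 2) (nat_lit 0x1) (.lf (nat_lit 0x10006b0004300006001850000f000d4006e000003)))
 (.cj (nat_lit 0x24) (nat_lit 2) (nat_lit 0x1) (.lf (nat_lit 0x10006b00041000440004e0001600049000030018e00b1300003)))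
 (.cj (nat_lit 0x24) (nat_lit 2) (nat_lit 0x1) (.lf (nat_lit 0x1000690006a000430006f000050013f00033004c100003))))
 (.s3 (.cj (nat_lit 0x24) (nat_lit 1) (nat_lit 0x1) (.lf (nat_lit 0x10006b000a6000f2000b500007001d00087800003)))
 (.cj (nat_lit 0x24) (nat_lit 1) (nat_lit 0x1) (.lf (nat_lit 0x10002e0006a0001a000ef0000000273003c800001)))
 (.cj (nat_lit 0x24) (nat_lit 1) (nat_lit 0x1) (.lf (nat_lit 0x10006a0000a000f20018500008002a400b8500003)))))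
 (.s3 (.s3 (.cj (nat_lit 0x23) (nat_lit 1) (nat_lit 0x1) (.lf (nat_lit 0x1000250006a000eb0004c0014400003001b60054f002b600003)))
 (.cj (nat_lit 0x23) (nat_lit 1) (nat_lit 0x1) (.lf (nat_lit 0x1000690006b00042000a80013c00000001720064600001)))
 (.cj (nat_lit 0x23) (nat_lit 1) (nat_lit 0x1) (.lf (nat_lit 0x10002e000690006b0006a0000d0004300028000a100d8000001))))
 (.s3 (.cj (nat_lit 0x23) (nat_lit 1) (nat_lit 0x1) (.lf (nat_lit 0x10002e0006c0007c00016000090025f00b5700003)))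
 (.cj (nat_lit 0x23) (nat_lit 1) (nat_lit 0x1) (.lf (nat_lit 0x1000a600044000f2000470013c001fd0035400003)))
 (.cj (nat_lit 0x23) (nat_lit 1) (nat_lit 0x1) (.lf (nat_lit 0x10002e000420000d000430000500045000ed00ab900002))))
 (.s3 (.cj (nat_lit 0x23) (nat_lit 1) (nat_lit 0x1) (.lf (nat_lit 0x10004d000250000a0002f000f3000110016e005d300002)))
 (.cj (nat_lit 0x23) (nat_lit 1) (nat_lit 0x1) (.lf (nat_lit 0x1000a60004e0006e0000200185000070025b00d6700001)))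
 (.cj (nat_lit 0x23) (nat_lit 1) (nat_lit 0x1) (.lf (nat_lit 0x100069000410000a0006f000b000217005be00002))))))))
 (.cj (nat_lit 0x21) (nat_lit 2) (nat_lit 0x141ce6) (.cj (nat_lit 0x22) (nat_lit 2) (nat_lit 0x98a5) (.pw (nat_lit 2) (nat_lit 0xa106)))))
 (.s3 (.cj (nat_lit 0x20) (nat_lit 2) (nat_lit 0x4a5) (.cj (nat_lit 0x22) (nat_lit 2) (nat_lit 0xa0c6) (.pw (nat_lit 1) (nat_lit 0xa0e6))))
 (.cj (nat_lit 0x20) (nat_lit 2) (nat_lit 0x28318a4) (.cj (nat_lit 0x22) (nat_lit 2) (nat_lit 0xa0c6) (.cj (nat_lit 0x24) (nat_lit 2) (nat_lit 0x1420c6) (.pw (nat_lit 1) (nat_lit 0x507)))))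
 (.cj (nat_lit 0x21) (nat_lit 2) (nat_lit 0x26) (.cj (nat_lit 0x22) (nat_lit 2) (nat_lit 0xa0c6) (.cj (nat_lit 0x24) (nat_lit 1) (nat_lit 0x27) (.s3 (.cj (nat_lit 0x483) (nat_lit 1) (nat_lit 0x1) (.cj (nat_lit 0x25) (nat_lit 2) (nat_lit 0x1) (.lf (nat_lit 0x10004d000250006a0001a000170004500007002ad00b1b00003))))
 (.cj (nat_lit 0x26) (nat_lit 2) (nat_lit 0x508) (.pw (nat_lit 2) (nat_lit 0x1)))
 (.cj (nat_lit 0x26) (nat_lit 2) (nat_lit 0x508) (.pw (nat_lit 1) (nat_lit 0x1))))))))),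
 ([nat_lit 1], nat_lit 2, .s3 (.cj (nat_lit 0x20) (nat_lit 1) (nat_lit 0x506) (.s3 (.cj (nat_lit 0x24) (nat_lit 2) (nat_lit 0xa0c6) (.cj (nat_lit 0x23) (nat_lit 1) (nat_lit 0x28) (.pw (nat_lit 2) (nat_lit 0x1))))
 (.cj (nat_lit 0x21) (nat_lit 1) (nat_lit 0x506) (.cj (nat_lit 0x23) (nat_lit 1) (nat_lit 0x1) (.pw (nat_lit 1) (nat_lit 0x28))))
 (.cj (nat_lit 0x21) (nat_lit 2) (nat_lit 0xa0c6) (.cj (nat_lit 0x23) (nat_lit 1) (nat_lit 0x508) (.cj (nat_lit 0x25) (nat_lit 1) (nat_lit 0x508) (.s3 (.lf (nat_lit 0x1000eb0000e00149000080023600ae900003))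
 (.lf (nat_lit 0x100069000260004e0000e000ee000e700d2c00001))
 (.lf (nat_lit 0x10004d0002f0004400050000000027b00c0000002))))))))
 (.cj (nat_lit 0x20) (nat_lit 1) (nat_lit 0x508398a4) (.s3 (.cj (nat_lit 0x24) (nat_lit 1) (nat_lit 0x27) (.cj (nat_lit 0x481) (nat_lit 2) (nat_lit 0x507) (.cj (nat_lit 0x483) (nat_lit 1) (nat_lit 0x1) (.pw (nat_lit 2) (nat_lit 0x1)))))
 (.cj (nat_lit 0x22) (nat_lit 2) (nat_lit 0x1) (.s3 (.cj (nat_lit 0x26) (nat_lit 2) (nat_lit 0x1) (.cj (nat_lit 0x98c1) (nat_lit 2) (nat_lit 0x1) (.lf (nat_lit 0x10002e0004d0006c0000d000a70022200a2100003))))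
 (.cj (nat_lit 0x26) (nat_lit 2) (nat_lit 0x1) (.cj (nat_lit 0x482) (nat_lit 2) (nat_lit 0x1) (.lf (nat_lit 0x10002e0000a000f20013900008002630032600003))))
 (.cj (nat_lit 0x21) (nat_lit 2) (nat_lit 0x1) (.s3 (.lf (nat_lit 0x10004d0006a0000d0004300016000780001300296008e000001))
 (.lf (nat_lit 0x10004d000420002f00044000ec00004002a60031100002))
 (.lf (nat_lit 0x10004d000a600044000a80000200028000ca00839002b600000))))))
 (.cj (nat_lit 0x23) (nat_lit 2) (nat_lit 0x1) (.cj (nat_lit 0x22) (nat_lit 2) (nat_lit 0xa0e7) (.cj (nat_lit 0x26) (nat_lit 2) (nat_lit 0x28) (.pw (nat_lit 2) (nat_lit 0x1)))))))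
 (.cj (nat_lit 0x20) (nat_lit 1) (nat_lit 0x2631484) (.s3 (.cj (nat_lit 0x21) (nat_lit 1) (nat_lit 0x1420e6) (.cj (nat_lit 0x24) (nat_lit 1) (nat_lit 0xa0e7) (.pw (nat_lit 2) (nat_lit 0x28))))
 (.cj (nat_lit 0x22) (nat_lit 2) (nat_lit 0x28) (.cj (nat_lit 0x461) (nat_lit 1) (nat_lit 0x27) (.cj (nat_lit 0x26) (nat_lit 1) (nat_lit 0x28) (.s3 (.lf (nat_lit 0x1000690006b0006c0001a000eb00002000ff0015600a3100003))
 (.lf (nat_lit 0x1000270013a000b600007002840035f002b700001))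
 (.lf (nat_lit 0x10006b0000a000ea000b6000070023e00c9a00003))))))
 (.cj (nat_lit 0x23) (nat_lit 1) (nat_lit 0x2839cc6) (.cj (nat_lit 0x22) (nat_lit 2) (nat_lit 0x4e7) (.pw (nat_lit 1) (nat_lit 0x1))))))),
 ([nat_lit 2], nat_lit 3, .s3 (.cj (nat_lit 0x20) (nat_lit 1) (nat_lit 0x507398a5) (.cj (nat_lit 0x24) (nat_lit 2) (nat_lit 0x141ce6) (.cj (nat_lit 0x9081) (nat_lit 1) (nat_lit 0x1420e7) (.pw (nat_lit 1) (nat_lit 0x28)))))
 (.cj (nat_lit 0x20) (nat_lit 1) (nat_lit 0x1420c5) (.cj (nat_lit 0x21) (nat_lit 2) (nat_lit 0x506) (.cj (nat_lit 0x482) (nat_lit 2) (nat_lit 0x27) (.cj (nat_lit 0x25) (nat_lit 2) (nat_lit 0x28) (.s3 (.lf (nat_lit 0x1000690006a000430000600146000130021300391002b600001))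
 (.lf (nat_lit 0x10002e0004d0004100027001840003c0077d00002))
 (.lf (nat_lit 0x10002e000260004e00030000fc00001001fe0076800003)))))))
 (.cj (nat_lit 0x20) (nat_lit 1) (nat_lit 0xa0e6) (.cj (nat_lit 0x21) (nat_lit 2) (nat_lit 0x27) (.cj (nat_lit 0x9081) (nat_lit 2) (nat_lit 0x507) (.pw (nat_lit 2) (nat_lit 0x1)))))),
 ([nat_lit 3], nat_lit 4, .s3 (.cj (nat_lit 0x20) (nat_lit 2) (nat_lit 0x28) (.cj (nat_lit 0x21) (nat_lit 2) (nat_lit 0x1) (.s3 (.cj (nat_lit 0x24) (nat_lit 1) (nat_lit 0x1) (.lf (nat_lit 0x10004d00041000150002f00072000000005b00a9e00003)))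
 (.cj (nat_lit 0x24) (nat_lit 1) (nat_lit 0x1) (.lf (nat_lit 0x10004d000a60002f000f2000f6001930060b00001)))
 (.cj (nat_lit 0x24) (nat_lit 1) (nat_lit 0x1) (.lf (nat_lit 0x10006c000150006f00016001890009d0075a00002))))))
 (.cj (nat_lit 0x22) (nat_lit 2) (nat_lit 0x4e7) (.s3 (.cj (nat_lit 0x20) (nat_lit 1) (nat_lit 0x1) (.cj (nat_lit 0x23) (nat_lit 2) (nat_lit 0x1) (.lf (nat_lit 0x1000690006b000250004e0006e0018900008002370095b00003))))
 (.s3 (.cj (nat_lit 0x20) (nat_lit 1) (nat_lit 0x1) (.lf (nat_lit 0x10002e0004d000420000d000060007d0011b0068b00001)))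
 (.cj (nat_lit 0x23) (nat_lit 2) (nat_lit 0x1) (.lf (nat_lit 0x10000a000ea0001b00004001f40059b00002)))
 (.cj (nat_lit 0x20) (nat_lit 2) (nat_lit 0x1) (.lf (nat_lit 0x10000d0004300050000030024200321002b600000))))
 (.cj (nat_lit 0x20) (nat_lit 2) (nat_lit 0x508) (.cj (nat_lit 0x23) (nat_lit 2) (nat_lit 0x1) (.lf (nat_lit 0x10004400018000fa00007001c500b3a00003))))))
 (.cj (nat_lit 0x20) (nat_lit 1) (nat_lit 0x4e7) (.cj (nat_lit 0x22) (nat_lit 2) (nat_lit 0x1) (.s3 (.cj (nat_lit 0x23) (nat_lit 1) (nat_lit 0x1) (.lf (nat_lit 0x10006b0006c000a70000e0010000003002a3002e2002b900001)))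
 (.cj (nat_lit 0x23) (nat_lit 1) (nat_lit 0x1) (.lf (nat_lit 0x10004d000250006a000ea0000c0002a001e1003c800003)))
 (.cj (nat_lit 0x23) (nat_lit 1) (nat_lit 0x1) (.lf (nat_lit 0x100042000430004e000020007900003001a50065b00003))))))),
 ([nat_lit 4], nat_lit 5, .cj (nat_lit 0x20) (nat_lit 1) (nat_lit 0x27) (.cj (nat_lit 0x8841) (nat_lit 2) (nat_lit 0x4e7) (.s3 (.cj (nat_lit 0x23) (nat_lit 2) (nat_lit 0x1) (.lf (nat_lit 0x10002e0004d000a600073001840000700150003e300002)))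
 (.cj (nat_lit 0x23) (nat_lit 2) (nat_lit 0x1) (.lf (nat_lit 0x100025000f20007900100000000010700cff00003)))
 (.cj (nat_lit 0x23) (nat_lit 2) (nat_lit 0x1) (.lf (nat_lit 0x1000250000a000ea000ad0020000acd00001)))))),
 ([nat_lit 5], nat_lit 6, .s3 (.cj (nat_lit 0x21) (nat_lit 2) (nat_lit 0x1) (.cj (nat_lit 0x20) (nat_lit 2) (nat_lit 0x1) (.lf (nat_lit 0x10002e00026000eb0000600189000070014d00ce900001))))
 (.cj (nat_lit 0x20) (nat_lit 2) (nat_lit 0x1) (.cj (nat_lit 0x23) (nat_lit 1) (nat_lit 0x1) (.lf (nat_lit 0x10006b000410006e001440000700107003a000003))))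
 (.cj (nat_lit 0x20) (nat_lit 1) (nat_lit 0x28) (.cj (nat_lit 0x22) (nat_lit 2) (nat_lit 0x1) (.lf (nat_lit 0x10002e000690006b000250006a0006d00073000ec001e000a8b00002))))),
 ([nat_lit 6], nat_lit 7, .cj (nat_lit 0x20) (nat_lit 2) (nat_lit 0x28) (.cj (nat_lit 0x21) (nat_lit 2) (nat_lit 0x1) (.lf (nat_lit 0x10006b000a60013a00002000f100000001dd005fe00002)))),
 ([nat_lit 7], nat_lit 8, .cj (nat_lit 0x20) (nat_lit 2) (nat_lit 0x1) (.lf (nat_lit 0x10004d0004200026000eb0002a000700027d0070b00002))),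
 ([nat_lit 8], nat_lit 9, .lf (nat_lit 0x100069000a60000d0006e0000500186001a0004a200002))]
theorem hj0 : jobsChk 3 9 T pb (lf3 F22.cd om T gb 9 reps) js0 = true := by decide +kernel


end Cfsg.Agent.Fi.Q22b
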