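import Cfsg.Agent.Fi.Q23ad

set_option autoImplicit false
set_option maxRecDepth 100000
set_option Elab.async false

namespace Cfsg.Agent.Fi.Q23a

open Cfsg.Agent.FM Cfsg.Agent.Fi
open Cfsg.Agent.M24 (nall lall)

noncomputable def js0 : List Job := [([nat_lit 0], nat_lit 1, .s2 (.s2 (.s2 (.cj (nat_lit 0x22) (nat_lit 1) (nat_lit 0x1) (.s2 (.s2 (.cj (nat_lit 0x26) (nat_lit 1) (nat_lit 0x2a) (.s2 (.cj (nat_lit 0x21) (nat_lit 1) (nat_lit 0xb9ac) (.s2 (.s2 (.s2 (.cj (nat_lit 0x25) (nat_lit 1) (nat_lit 0x62e) (.s2 (.s2 (.s2 (.s2 (.lf (nat_lit 0x100000))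
 (.lf (nat_lit 0x1000120007f00084)))
 (.cj (nat_lit 0x501) (nat_lit 1) (nat_lit 0x1) (.lf (nat_lit 0x10007f00298002b5))))
 (.cj (nat_lit 0x23) (nat_lit 1) (nat_lit 0x1) (.cj (nat_lit 0x565) (nat_lit 1) (nat_lit 0x1) (.lf (nat_lit 0x10007f002a1002a8)))))
 (.s2 (.s2 (.cj (nat_lit 0x501) (nat_lit 1) (nat_lit 0x1) (.lf (nat_lit 0x1000000006d00db6)))
 (.s2 (.lf (nat_lit 0x1000000029c002a7))
 (.lf (nat_lit 0x1000000000a))))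
 (.cj (nat_lit 0x23) (nat_lit 1) (nat_lit 0x1) (.cj (nat_lit 0x501) (nat_lit 1) (nat_lit 0x1) (.lf (nat_lit 0x1000120009200298)))))))
 (.cj (nat_lit 0x25) (nat_lit 1) (nat_lit 0x2e) (.cj (nat_lit 0x23) (nat_lit 1) (nat_lit 0x1) (.s2 (.s2 (.cj (nat_lit 0x501) (nat_lit 1) (nat_lit 0x1) (.lf (nat_lit 0x10006b00084002a1)))
 (.cj (nat_lit 0x565) (nat_lit 1) (nat_lit 0x1) (.lf (nat_lit 0x1000000006d00299))))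
 (.s2 (.cj (nat_lit 0x501) (nat_lit 1) (nat_lit 0x1) (.lf (nat_lit 0x10000d00012002a1)))
 (.s2 (.lf (nat_lit 0x1000000029c))
 (.lf (nat_lit 0x1000000000a002a7))))))))
 (.s2 (.pw (nat_lit 1) (nat_lit 0x62e))
 (.pw (nat_lit 1) (nat_lit 0x62e))))
 (.s2 (.cj (nat_lit 0x501) (nat_lit 1) (nat_lit 0x630) (.cj (nat_lit 0x25) (nat_lit 1) (nat_lit 0x1) (.cj (nat_lit 0x565) (nat_lit 1) (nat_lit 0x31) (.s2 (.s2 (.s2 (.lf (nat_lit 0x1000f200298002a1))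
 (.lf (nat_lit 0x1000000000a0018e)))
 (.s2 (.lf (nat_lit 0x10006900298002a8))
 (.lf (nat_lit 0x10000000299))))
 (.cj (nat_lit 0x23) (nat_lit 1) (nat_lit 0x1) (.s2 (.lf (nat_lit 0x100069002a1002b5))
 (.lf (nat_lit 0x100000002a700db6))))))))
 (.cj (nat_lit 0x501) (nat_lit 1) (nat_lit 0x630) (.pw (nat_lit 1) (nat_lit 0x62e))))))
 (.pw (nat_lit 1) (nat_lit 0xb9ac))))
 (.pw (nat_lit 1) (nat_lit 0x2a)))
 (.s2 (.cj (nat_lit 0x26) (nat_lit 1) (nat_lit 0x6307356a) (.s2 (.cj (nat_lit 0x21) (nat_lit 1) (nat_lit 0xb9ac) (.s2 (.s2 (.cj (nat_lit 0x504) (nat_lit 1) (nat_lit 0x31) (.pw (nat_lit 1) (nat_lit 0x62e)))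
 (.cj (nat_lit 0x504) (nat_lit 1) (nat_lit 0x2f) (.cj (nat_lit 0x27) (nat_lit 1) (nat_lit 0x30) (.cj (nat_lit 0x2a) (nat_lit 1) (nat_lit 0x31) (.s2 (.cj (nat_lit 0xad47) (nat_lit 1) (nat_lit 0x1) (.cj (nat_lit 0x29) (nat_lit 1) (nat_lit 0x1) (.lf (nat_lit 0x10007f010a701307))))
 (.cj (nat_lit 0x23) (nat_lit 1) (nat_lit 0x1) (.pw (nat_lit 1) (nat_lit 0x1))))))))
 (.s2 (.cj (nat_lit 0x501) (nat_lit 1) (nat_lit 0x30) (.pw (nat_lit 1) (nat_lit 0x1)))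
 (.cj (nat_lit 0x501) (nat_lit 1) (nat_lit 0x30) (.cj (nat_lit 0x25) (nat_lit 1) (nat_lit 0x1) (.pw (nat_lit 1) (nat_lit 0x31)))))))
 (.pw (nat_lit 1) (nat_lit 0x2c))))
 (.pw (nat_lit 1) (nat_lit 0xc16a)))))
 (.cj (nat_lit 0x22) (nat_lit 1) (nat_lit 0x4e6) (.cj (nat_lit 0x21) (nat_lit 1) (nat_lit 0xc589) (.s2 (.cj (nat_lit 0x24) (nat_lit 1) (nat_lit 0x1) (.s2 (.cj (nat_lit 0x28) (nat_lit 1) (nat_lit 0x58b) (.cj (nat_lit 0x4c4) (nat_lit 1) (nat_lit 0x1) (.s2 (.s2 (.cj (nat_lit 0x29) (nat_lit 1) (nat_lit 0x1) (.cj (nat_lit 0x2c) (nat_lit 1) (nat_lit 0x1) (.s2 (.cj (nat_lit 0x2f) (nat_lit 1) (nat_lit 0x1) (.cj (nat_lit 0xb169) (nat_lit 1) (nat_lit 0x1) (.lf (nat_lit 0x10000000de602070))))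
 (.pw (nat_lit 1) (nat_lit 0x1)))))
 (.cj (nat_lit 0x29) (nat_lit 1) (nat_lit 0x1) (.pw (nat_lit 1) (nat_lit 0x1))))
 (.s2 (.pw (nat_lit 1) (nat_lit 0x62e))
 (.pw (nat_lit 1) (nat_lit 0x31))))))
 (.pw (nat_lit 1) (nat_lit 0xc58b))))
 (.pw (nat_lit 1) (nat_lit 0x2a))))))
 (.s2 (.pw (nat_lit 1) (nat_lit 0x1))
 (.pw (nat_lit 1) (nat_lit 0x546))))
 (.s2 (.s2 (.cj (nat_lit 0x22) (nat_lit 1) (nat_lit 0x18c1ab) (.cj (nat_lit 0x23) (nat_lit 1) (nat_lit 0xc5cd) (.s2 (.cj (nat_lit 0x26) (nat_lit 1) (nat_lit 0xbdcc5a928) (.s2 (.pw (nat_lit 1) (nat_lit 0xb9ac))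
 (.cj (nat_lit 0x27) (nat_lit 1) (nat_lit 0xc5ee) (.s2 (.s2 (.cj (nat_lit 0x2a) (nat_lit 1) (nat_lit 0x630) (.cj (nat_lit 0x25) (nat_lit 1) (nat_lit 0x62e) (.cj (nat_lit 0x15a907) (nat_lit 1) (nat_lit 0xc60f) (.cj (nat_lit 0x564) (nat_lit 1) (nat_lit 0x1) (.s2 (.pw (nat_lit 1) (nat_lit 0x1))
 (.cj (nat_lit 0x29) (nat_lit 1) (nat_lit 0x1) (.lf (nat_lit 0x100084010a702a61))))))))
 (.cj (nat_lit 0x2a) (nat_lit 1) (nat_lit 0x630) (.pw (nat_lit 1) (nat_lit 0x2e))))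
 (.s2 (.pw (nat_lit 1) (nat_lit 0x30))
 (.pw (nat_lit 1) (nat_lit 0x18c1cd)))))))
 (.pw (nat_lit 1) (nat_lit 0x60f6ad48)))))
 (.cj (nat_lit 0x22) (nat_lit 1) (nat_lit 0x62d4a0e6) (.pw (nat_lit 1) (nat_lit 0x173589))))
 (.s2 (.pw (nat_lit 1) (nat_lit 0x3183969))
 (.pw (nat_lit 1) (nat_lit 0x6307b9ac520c5))))),
 ([nat_lit 1], nat_lit 2, .s2 (.s2 (.s2 (.cj (nat_lit 0x23) (nat_lit 1) (nat_lit 0x1) (.s2 (.s2 (.cj (nat_lit 0x26) (nat_lit 1) (nat_lit 0xc60b) (.cj (nat_lit 0x27) (nat_lit 1) (nat_lit 0x1) (.s2 (.cj (nat_lit 0x22) (nat_lit 1) (nat_lit 0xc1ee) (.cj (nat_lit 0x24) (nat_lit 1) (nat_lit 0x5cd) (.cj (nat_lit 0x544) (nat_lit 1) (nat_lit 0xc60e) (.s2 (.s2 (.s2 (.cj (nat_lit 0x28) (nat_lit 1) (nat_lit 0x1) (.lf (nat_lit 0x102f4104cbe)))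
 (.pw (nat_lit 1) (nat_lit 0x1)))
 (.s2 (.cj (nat_lit 0x25) (nat_lit 1) (nat_lit 0x1) (.lf (nat_lit 0x10029c045510456b)))
 (.pw (nat_lit 1) (nat_lit 0x1))))
 (.s2 (.s2 (.pw (nat_lit 1) (nat_lit 0x1))
 (.cj (nat_lit 0x28) (nat_lit 1) (nat_lit 0x1) (.lf (nat_lit 0x10000a03d47048ac))))
 (.s2 (.pw (nat_lit 1) (nat_lit 0x1))
 (.cj (nat_lit 0x25) (nat_lit 1) (nat_lit 0x1) (.lf (nat_lit 0x1002a7045510456b)))))))))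
 (.cj (nat_lit 0x22) (nat_lit 1) (nat_lit 0xc1ee) (.pw (nat_lit 1) (nat_lit 0x630))))))
 (.cj (nat_lit 0x26) (nat_lit 1) (nat_lit 0xc60b) (.pw (nat_lit 1) (nat_lit 0x1))))
 (.cj (nat_lit 0x20) (nat_lit 1) (nat_lit 0x31839aa) (.pw (nat_lit 1) (nat_lit 0xc60b)))))
 (.cj (nat_lit 0x23) (nat_lit 1) (nat_lit 0xb527) (.s2 (.s2 (.cj (nat_lit 0x26) (nat_lit 1) (nat_lit 0xb16a) (.cj (nat_lit 0x27) (nat_lit 1) (nat_lit 0x1) (.s2 (.cj (nat_lit 0x22) (nat_lit 1) (nat_lit 0xc1ee) (.pw (nat_lit 1) (nat_lit 0x5cd)))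
 (.cj (nat_lit 0x22) (nat_lit 1) (nat_lit 0xc1ee) (.cj (nat_lit 0x28) (nat_lit 1) (nat_lit 0x2f) (.pw (nat_lit 1) (nat_lit 0xc60e)))))))
 (.cj (nat_lit 0x26) (nat_lit 1) (nat_lit 0xb16a) (.pw (nat_lit 1) (nat_lit 0xb9ac))))
 (.cj (nat_lit 0x20) (nat_lit 1) (nat_lit 0x31839aa) (.pw (nat_lit 1) (nat_lit 0x6307356a))))))
 (.s2 (.pw (nat_lit 1) (nat_lit 0x1))
 (.pw (nat_lit 1) (nat_lit 0xc587))))
 (.s2 (.cj (nat_lit 0x20) (nat_lit 1) (nat_lit 0x29) (.cj (nat_lit 0x23) (nat_lit 1) (nat_lit 0x18c106) (.s2 (.s2 (.cj (nat_lit 0x25) (nat_lit 1) (nat_lit 0x31) (.cj (nat_lit 0x27) (nat_lit 1) (nat_lit 0x18c18a) (.s2 (.pw (nat_lit 1) (nat_lit 0xc1ee))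
 (.pw (nat_lit 1) (nat_lit 0x18bdcc)))))
 (.cj (nat_lit 0x25) (nat_lit 1) (nat_lit 0x5ed) (.pw (nat_lit 1) (nat_lit 0x60f7316a))))
 (.s2 (.pw (nat_lit 1) (nat_lit 0xc5ee))
 (.pw (nat_lit 1) (nat_lit 0x183149))))))
 (.cj (nat_lit 0x20) (nat_lit 1) (nat_lit 0x29) (.pw (nat_lit 1) (nat_lit 0x307b906)))))]
theorem hj0 : jobsChk 2 18 T pb (lf2 F23.cd om T gb 18 3) js0 = true := by decide +kernel

noncomputable def js1 : List Job := [([nat_lit 2], nat_lit 3, .s2 (.cj (nat_lit 0x20) (nat_lit 1) (nat_lit 0x1) (.s2 (.cj (nat_lit 0x23) (nat_lit 1) (nat_lit 0x1) (.s2 (.cj (nat_lit 0x25) (nat_lit 1) (nat_lit 0x1) (.s2 (.cj (nat_lit 0x27) (nat_lit 1) (nat_lit 0x1) (.cj (nat_lit 0x21) (nat_lit 1) (nat_lit 0xc1ee) (.cj (nat_lit 0x29) (nat_lit 1) (nat_lit 0x1) (.s2 (.s2 (.cj (nat_lit 0x2d) (nat_lit 1) (nat_lit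 0x1) (.s2 (.s2 (.lf (nat_lit 0x10078500aa9))
 (.lf (nat_lit 0x10006d007f500aab)))
 (.s2 (.lf (nat_lit 0x10029c00aa100b03))
 (.lf (nat_lit 0x10029900b0200c51)))))
 (.cj (nat_lit 0x2d) (nat_lit 1) (nat_lit 0x1) (.s2 (.s2 (.lf (nat_lit 0x1002a700aa100b03))
 (.lf (nat_lit 0x1007f500aab00db6)))
 (.s2 (.lf (nat_lit 0x10018e00b0200c51))
 (.lf (nat_lit 0x10000a0078500aa9))))))
 (.s2 (.pw (nat_lit 1) (nat_lit 0x1))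
 (.pw (nat_lit 1) (nat_lit 0x1)))))))
 (.cj (nat_lit 0x27) (nat_lit 1) (nat_lit 0x1) (.cj (nat_lit 0x21) (nat_lit 1) (nat_lit 0xc1ee) (.pw (nat_lit 1) (nat_lit 0x1))))))
 (.cj (nat_lit 0x25) (nat_lit 1) (nat_lit 0xc5ed) (.cj (nat_lit 0x21) (nat_lit 1) (nat_lit 0x307b98b) (.pw (nat_lit 1) (nat_lit 0x1))))))
 (.cj (nat_lit 0x23) (nat_lit 1) (nat_lit 0x1) (.s2 (.pw (nat_lit 1) (nat_lit 0x1))
 (.pw (nat_lit 1) (nat_lit 0xb9aa))))))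
 (.cj (nat_lit 0x20) (nat_lit 1) (nat_lit 0x1) (.cj (nat_lit 0x21) (nat_lit 1) (nat_lit 0x307b968) (.pw (nat_lit 1) (nat_lit 0x1))))),
 ([nat_lit 3], nat_lit 4, .s2 (.cj (nat_lit 0x21) (nat_lit 1) (nat_lit 0x1) (.cj (nat_lit 0x22) (nat_lit 1) (nat_lit 0x1) (.cj (nat_lit 0x24) (nat_lit 1) (nat_lit 0x1) (.s2 (.s2 (.s2 (.cj (nat_lit 0x28) (nat_lit 1) (nat_lit 0x1) (.s2 (.cj (nat_lit 0x29) (nat_lit 1) (nat_lit 0x1) (.cj (nat_lit 0x2c) (nat_lit 1) (nat_lit 0x1) (.s2 (.cj (nat_lit 0x2f) (nat_lit 1) (nat_lit 0x1) (.s2 (.lf (nat_lit 0x100de602070))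
 (.lf (nat_lit 0x10000a02afd03e49))))
 (.pw (nat_lit 1) (nat_lit 0x1)))))
 (.cj (nat_lit 0x29) (nat_lit 1) (nat_lit 0x1) (.pw (nat_lit 1) (nat_lit 0x1)))))
 (.cj (nat_lit 0x28) (nat_lit 1) (nat_lit 0x1) (.s2 (.cj (nat_lit 0x29) (nat_lit 1) (nat_lit 0x1) (.cj (nat_lit 0x2c) (nat_lit 1) (nat_lit 0x1) (.s2 (.cj (nat_lit 0x2f) (nat_lit 1) (nat_lit 0x1) (.cj (nat_lit 0x585) (nat_lit 1) (nat_lit 0x1) (.lf (nat_lit 0x10018e02afd03e49))))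
 (.pw (nat_lit 1) (nat_lit 0x1)))))
 (.cj (nat_lit 0x29) (nat_lit 1) (nat_lit 0x1) (.pw (nat_lit 1) (nat_lit 0x1))))))
 (.s2 (.cj (nat_lit 0x28) (nat_lit 1) (nat_lit 0x31) (.s2 (.pw (nat_lit 1) (nat_lit 0x1))
 (.pw (nat_lit 1) (nat_lit 0x2e))))
 (.cj (nat_lit 0x28) (nat_lit 1) (nat_lit 0x31) (.s2 (.pw (nat_lit 1) (nat_lit 0x1))
 (.pw (nat_lit 1) (nat_lit 0x2e))))))
 (.cj (nat_lit 0x20) (nat_lit 1) (nat_lit 0x2c) (.s2 (.pw (nat_lit 1) (nat_lit 0x1))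
 (.pw (nat_lit 1) (nat_lit 0x1))))))))
 (.cj (nat_lit 0x21) (nat_lit 1) (nat_lit 0xc5ac) (.cj (nat_lit 0x22) (nat_lit 1) (nat_lit 0x1) (.pw (nat_lit 1) (nat_lit 0x1))))),
 ([nat_lit 4], nat_lit 5, .s2 (.s2 (.cj (nat_lit 0x23) (nat_lit 1) (nat_lit 0x1) (.s2 (.cj (nat_lit 0x25) (nat_lit 1) (nat_lit 0xc5cd) (.cj (nat_lit 0x26) (nat_lit 1) (nat_lit 0x1) (.s2 (.cj (nat_lit 0x28) (nat_lit 1) (nat_lit 0x2f) (.cj (nat_lit 0x501) (nat_lit 1) (nat_lit 0xc5ee) (.s2 (.cj (nat_lit 0x2b) (nat_lit 1) (nat_lit 0x1) (.s2 (.s2 (.lf (nat_lit 0x100000002a1))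
 (.lf (nat_lit 0x10006d0008b001a6)))
 (.s2 (.lf (nat_lit 0x10000d000120029c))
 (.lf (nat_lit 0x1000f20029800299)))))
 (.cj (nat_lit 0x2b) (nat_lit 1) (nat_lit 0x1) (.s2 (.s2 (.lf (nat_lit 0x10000d00012002a7))
 (.lf (nat_lit 0x10008b001a600db6)))
 (.s2 (.lf (nat_lit 0x1000f20018e00298))
 (.lf (nat_lit 0x1000000000a002a1))))))))
 (.cj (nat_lit 0x28) (nat_lit 1) (nat_lit 0x2f) (.cj (nat_lit 0x20) (nat_lit 1) (nat_lit 0x62e) (.s2 (.pw (nat_lit 1) (nat_lit 0x1))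
 (.pw (nat_lit 1) (nat_lit 0x1))))))))
 (.cj (nat_lit 0x20) (nat_lit 1) (nat_lit 0xb9ac) (.cj (nat_lit 0x26) (nat_lit 1) (nat_lit 0x1) (.s2 (.pw (nat_lit 1) (nat_lit 0x2f))
 (.pw (nat_lit 1) (nat_lit 0x1)))))))
 (.cj (nat_lit 0x23) (nat_lit 1) (nat_lit 0x1) (.cj (nat_lit 0x21) (nat_lit 1) (nat_lit 0x31839ab) (.cj (nat_lit 0x25) (nat_lit 1) (nat_lit 0x17b9ab) (.pw (nat_lit 1) (nat_lit 0x1))))))
 (.s2 (.cj (nat_lit 0x23) (nat_lit 1) (nat_lit 0x1) (.cj (nat_lit 0x22) (nat_lit 1) (nat_lit 0x5ec) (.pw (nat_lit 1) (nat_lit 0xc5cd))))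
 (.cj (nat_lit 0x23) (nat_lit 1) (nat_lit 0x1) (.cj (nat_lit 0x22) (nat_lit 1) (nat_lit 0x5ec) (.pw (nat_lit 1) (nat_lit 0x18b56a)))))),
 ([nat_lit 5], nat_lit 6, .s2 (.s2 (.cj (nat_lit 0x22) (nat_lit 1) (nat_lit 0x1) (.cj (nat_lit 0x24) (nat_lit 1) (nat_lit 0xc5cd) (.s2 (.cj (nat_lit 0x26) (nat_lit 1) (nat_lit 0x1) (.s2 (.cj (nat_lit 0x27) (nat_lit 1) (nat_lit 0x1) (.cj (nat_lit 0x2a) (nat_lit 1) (nat_lit 0x31) (.s2 (.s2 (.cj (nat_lit 0x2c) (nat_lit 1) (nat_lit 0x1) (.lf (nat_lit 0x10000a0197b029e8)))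
 (.cj (nat_lit 0x21) (nat_lit 1) (nat_lit 0x1) (.lf (nat_lit 0x1023af024cb))))
 (.cj (nat_lit 0x23) (nat_lit 1) (nat_lit 0x1) (.pw (nat_lit 1) (nat_lit 0x1))))))
 (.cj (nat_lit 0x27) (nat_lit 1) (nat_lit 0x1) (.cj (nat_lit 0x23) (nat_lit 1) (nat_lit 0x1) (.s2 (.s2 (.pw (nat_lit 1) (nat_lit 0x1))
 (.pw (nat_lit 1) (nat_lit 0x1)))
 (.cj (nat_lit 0x543) (nat_lit 1) (nat_lit 0x31) (.cj (nat_lit 0x21) (nat_lit 1) (nat_lit 0x1) (.lf (nat_lit 0x10029c023af024cb)))))))))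
 (.cj (nat_lit 0x26) (nat_lit 1) (nat_lit 0x1) (.cj (nat_lit 0x21) (nat_lit 1) (nat_lit 0x30) (.cj (nat_lit 0x27) (nat_lit 1) (nat_lit 0x1) (.pw (nat_lit 1) (nat_lit 0x31))))))))
 (.cj (nat_lit 0x22) (nat_lit 1) (nat_lit 0xc5ca) (.cj (nat_lit 0x21) (nat_lit 1) (nat_lit 0x1) (.s2 (.cj (nat_lit 0x26) (nat_lit 1) (nat_lit 0x1) (.s2 (.pw (nat_lit 1) (nat_lit 0x1))
 (.pw (nat_lit 1) (nat_lit 0x31))))
 (.cj (nat_lit 0x26) (nat_lit 1) (nat_lit 0x1) (.cj (nat_lit 0x481) (nat_lit 1) (nat_lit 0xc1cd) (.pw (nat_lit 1) (nat_lit 0x62e))))))))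
 (.cj (nat_lit 0x20) (nat_lit 1) (nat_lit 0x2a) (.cj (nat_lit 0x22) (nat_lit 1) (nat_lit 0x1) (.cj (nat_lit 0x24) (nat_lit 1) (nat_lit 0x5aa) (.s2 (.pw (nat_lit 1) (nat_lit 0x1))
 (.pw (nat_lit 1) (nat_lit 0x62e))))))),
 ([nat_lit 6], nat_lit 7, .cj (nat_lit 0x20) (nat_lit 1) (nat_lit 0x2a) (.cj (nat_lit 0x21) (nat_lit 1) (nat_lit 0xc60b) (.s2 (.cj (nat_lit 0x24) (nat_lit 1) (nat_lit 0x1) (.cj (nat_lit 0x25) (nat_lit 1) (nat_lit 0x1) (.s2 (.s2 (.cj (nat_lit 0x29) (nat_lit 1) (nat_lit 0x60f) (.s2 (.cj (nat_lit 0x2d) (nat_lit 1) (nat_lit 0x1) (.s2 (.lf (nat_lit 0x10018e00a4a00aa1))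
 (.lf (nat_lit 0x10000a007f200b03))))
 (.cj (nat_lit 0x23) (nat_lit 1) (nat_lit 0x1) (.s2 (.lf (nat_lit 0x100a1d00aa2))
 (.lf (nat_lit 0x10029900aa900b02))))))
 (.cj (nat_lit 0x29) (nat_lit 1) (nat_lit 0x60f) (.cj (nat_lit 0x22) (nat_lit 1) (nat_lit 0x1) (.pw (nat_lit 1) (nat_lit 0x1)))))
 (.s2 (.cj (nat_lit 0x23) (nat_lit 1) (nat_lit 0x1) (.cj (nat_lit 0x523) (nat_lit 1) (nat_lit 0x1) (.cj (nat_lit 0x2d) (nat_lit 1) (nat_lit 0x1) (.s2 (.lf (nat_lit 0x10029c0078500c51))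
 (.lf (nat_lit 0x100a4900aab00db6))))))
 (.cj (nat_lit 0x23) (nat_lit 1) (nat_lit 0x1) (.cj (nat_lit 0x22) (nat_lit 1) (nat_lit 0x1) (.pw (nat_lit 1) (nat_lit 0x1))))))))
 (.cj (nat_lit 0x24) (nat_lit 1) (nat_lit 0x1) (.cj (nat_lit 0x25) (nat_lit 1) (nat_lit 0x1) (.cj (nat_lit 0x22) (nat_lit 1) (nat_lit 0x1) (.cj (nat_lit 0x23) (nat_lit 1) (nat_lit 0x30) (.pw (nat_lit 1) (nat_lit 0x60f)))))))))]
theorem hj1 : jobsChk 2 18 T pb (lf2 F23.cd om T gb 18 3) js1 = true := by decide +kernel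

noncomputable def js2 : List Job := [([nat_lit 7], nat_lit 8, .s2 (.cj (nat_lit 0x21) (nat_lit 1) (nat_lit 0x1) (.cj (nat_lit 0x22) (nat_lit 1) (nat_lit 0x1) (.s2 (.s2 (.cj (nat_lit 0x25) (nat_lit 1) (nat_lit 0x1) (.cj (nat_lit 0x28) (nat_lit 1) (nat_lit 0x2f) (.s2 (.cj (nat_lit 0x2b) (nat_lit 1) (nat_lit 0x1) (.s2 (.lf (nat_lit 0x1000f2002a1))
 (.lf (nat_lit 0x10007f00299002b5))))
 (.cj (nat_lit 0x23) (nat_lit 1) (nat_lit 0x1) (.s2 (.lf (nat_lit 0x1000840008b0018e))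
 (.lf (nat_lit 0x10000a0006b001a6)))))))
 (.cj (nat_lit 0x25) (nat_lit 1) (nat_lit 0x31) (.cj (nat_lit 0x23) (nat_lit 1) (nat_lit 0x1) (.cj (nat_lit 0x503) (nat_lit 1) (nat_lit 0x30) (.cj (nat_lit 0x2b) (nat_lit 1) (nat_lit 0x1) (.s2 (.lf (nat_lit 0x10000d001b9002a7))
 (.lf (nat_lit 0x1000000006d00298))))))))
 (.s2 (.cj (nat_lit 0x25) (nat_lit 1) (nat_lit 0x1) (.cj (nat_lit 0x28) (nat_lit 1) (nat_lit 0x2f) (.cj (nat_lit 0x24) (nat_lit 1) (nat_lit 0x1) (.pw (nat_lit 1) (nat_lit 0x1)))))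
 (.cj (nat_lit 0x25) (nat_lit 1) (nat_lit 0x31) (.cj (nat_lit 0x23) (nat_lit 1) (nat_lit 0x1) (.cj (nat_lit 0x24) (nat_lit 1) (nat_lit 0x1) (.pw (nat_lit 1) (nat_lit 0x1)))))))))
 (.cj (nat_lit 0x21) (nat_lit 1) (nat_lit 0x31) (.cj (nat_lit 0x22) (nat_lit 1) (nat_lit 0x1) (.cj (nat_lit 0x23) (nat_lit 1) (nat_lit 0x30) (.cj (nat_lit 0x24) (nat_lit 1) (nat_lit 0x2f) (.cj (nat_lit 0x25) (nat_lit 1) (nat_lit 0x1) (.pw (nat_lit 1) (nat_lit 0x2f)))))))),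
 ([nat_lit 8], nat_lit 9, .cj (nat_lit 0x20) (nat_lit 1) (nat_lit 0xb9ac) (.s2 (.cj (nat_lit 0x23) (nat_lit 1) (nat_lit 0x1) (.cj (nat_lit 0x24) (nat_lit 1) (nat_lit 0x2f) (.s2 (.cj (nat_lit 0x27) (nat_lit 1) (nat_lit 0x2f) (.s2 (.s2 (.cj (nat_lit 0x21) (nat_lit 1) (nat_lit 0x1) (.lf (nat_lit 0x10078500b03)))
 (.cj (nat_lit 0x29) (nat_lit 1) (nat_lit 0x1) (.lf (nat_lit 0x10029c00aa100aa9))))
 (.s2 (.cj (nat_lit 0x21) (nat_lit 1) (nat_lit 0x1) (.lf (nat_lit 0x1002a700a4a00b02)))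
 (.cj (nat_lit 0x25) (nat_lit 1) (nat_lit 0x1) (.lf (nat_lit 0x10000a007f500aa2))))))
 (.cj (nat_lit 0x27) (nat_lit 1) (nat_lit 0x2f) (.cj (nat_lit 0x22) (nat_lit 1) (nat_lit 0x1) (.cj (nat_lit 0x26) (nat_lit 1) (nat_lit 0x1) (.pw (nat_lit 1) (nat_lit 0x1))))))))
 (.cj (nat_lit 0x23) (nat_lit 1) (nat_lit 0x1) (.cj (nat_lit 0x21) (nat_lit 1) (nat_lit 0x30) (.s2 (.cj (nat_lit 0x25) (nat_lit 1) (nat_lit 0x31) (.cj (nat_lit 0x4e5) (nat_lit 1) (nat_lit 0x1) (.cj (nat_lit 0x139481) (nat_lit 1) (nat_lit 0x31) (.cj (nat_lit 0x29) (nat_lit 1) (nat_lit 0x1) (.lf (nat_lit 0x100a9d00aab00db6))))))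
 (.cj (nat_lit 0x25) (nat_lit 1) (nat_lit 0x31) (.cj (nat_lit 0x22) (nat_lit 1) (nat_lit 0x1) (.cj (nat_lit 0x26) (nat_lit 1) (nat_lit 0x1) (.pw (nat_lit 1) (nat_lit 0x1)))))))))),
 ([nat_lit 9], nat_lit 10, .s2 (.s2 (.cj (nat_lit 0x22) (nat_lit 1) (nat_lit 0x1) (.cj (nat_lit 0x23) (nat_lit 1) (nat_lit 0x1) (.cj (nat_lit 0x26) (nat_lit 1) (nat_lit 0x60f) (.s2 (.s2 (.cj (nat_lit 0x28) (nat_lit 1) (nat_lit 0x1) (.lf (nat_lit 0x10006b002a1)))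
 (.cj (nat_lit 0x21) (nat_lit 1) (nat_lit 0x1) (.lf (nat_lit 0x10008b00298002a7))))
 (.s2 (.cj (nat_lit 0x25) (nat_lit 1) (nat_lit 0x1) (.lf (nat_lit 0x10000a00069001b9)))
 (.cj (nat_lit 0x21) (nat_lit 1) (nat_lit 0x1) (.lf (nat_lit 0x100000000840029c))))))))
 (.cj (nat_lit 0x22) (nat_lit 1) (nat_lit 0x1) (.cj (nat_lit 0x23) (nat_lit 1) (nat_lit 0x1) (.cj (nat_lit 0x26) (nat_lit 1) (nat_lit 0x60f) (.cj (nat_lit 0x24) (nat_lit 1) (nat_lit 0x1) (.cj (nat_lit 0x27) (nat_lit 1) (nat_lit 0x1) (.pw (nat_lit 1) (nat_lit 0x1))))))))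
 (.s2 (.cj (nat_lit 0x22) (nat_lit 1) (nat_lit 0x1) (.cj (nat_lit 0x23) (nat_lit 1) (nat_lit 0x1) (.cj (nat_lit 0x25) (nat_lit 1) (nat_lit 0x31) (.cj (nat_lit 0x4c5) (nat_lit 1) (nat_lit 0x30) (.cj (nat_lit 0x441) (nat_lit 1) (nat_lit 0x1) (.cj (nat_lit 0x28) (nat_lit 1) (nat_lit 0x1) (.lf (nat_lit 0x1000120006d0007f))))))))
 (.cj (nat_lit 0x22) (nat_lit 1) (nat_lit 0x1) (.cj (nat_lit 0x23) (nat_lit 1) (nat_lit 0x1) (.cj (nat_lit 0x25) (nat_lit 1) (nat_lit 0x31) (.cj (nat_lit 0x24) (nat_lit 1) (nat_lit 0x1) (.cj (nat_lit 0x27) (nat_lit 1) (nat_lit 0x1) (.pw (nat_lit 1) (nat_lit 0x1))))))))),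
 ([nat_lit 10], nat_lit 11, .s2 (.cj (nat_lit 0x21) (nat_lit 1) (nat_lit 0x630) (.s2 (.cj (nat_lit 0x25) (nat_lit 1) (nat_lit 0x31) (.s2 (.s2 (.s2 (.lf (nat_lit 0x10018e0029c002a7))
 (.lf (nat_lit 0x10000a0018e)))
 (.s2 (.lf (nat_lit 0x10006d0018e00db6))
 (.lf (nat_lit 0x100299))))
 (.cj (nat_lit 0x23) (nat_lit 1) (nat_lit 0x1) (.s2 (.lf (nat_lit 0x10000a0029c00db6))
 (.lf (nat_lit 0x1002a700db6))))))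
 (.cj (nat_lit 0x25) (nat_lit 1) (nat_lit 0x31) (.cj (nat_lit 0x22) (nat_lit 1) (nat_lit 0x1) (.cj (nat_lit 0x26) (nat_lit 1) (nat_lit 0x1) (.cj (nat_lit 0x28) (nat_lit 1) (nat_lit 0x1) (.lf (nat_lit 0x10008b000920018e))))))))
 (.cj (nat_lit 0x21) (nat_lit 1) (nat_lit 0x630) (.cj (nat_lit 0x20) (nat_lit 1) (nat_lit 0x62e) (.cj (nat_lit 0x25) (nat_lit 1) (nat_lit 0x31) (.cj (nat_lit 0x24) (nat_lit 1) (nat_lit 0x1) (.cj (nat_lit 0x27) (nat_lit 1) (nat_lit 0x1) (.cj (nat_lit 0x29) (nat_lit 1) (nat_lit 0x1) (.lf (nat_lit 0x10018e00aa900b12))))))))),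
 ([nat_lit 11], nat_lit 12, .s2 (.cj (nat_lit 0x20) (nat_lit 1) (nat_lit 0x62e) (.s2 (.cj (nat_lit 0x24) (nat_lit 1) (nat_lit 0x1) (.cj (nat_lit 0x27) (nat_lit 1) (nat_lit 0x1) (.cj (nat_lit 0x29) (nat_lit 1) (nat_lit 0x1) (.lf (nat_lit 0x10000a00a4900aa1)))))
 (.cj (nat_lit 0x24) (nat_lit 1) (nat_lit 0x1) (.cj (nat_lit 0x27) (nat_lit 1) (nat_lit 0x1) (.cj (nat_lit 0x21) (nat_lit 1) (nat_lit 0x1) (.lf (nat_lit 0x100a9d00b02)))))))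
 (.cj (nat_lit 0x20) (nat_lit 1) (nat_lit 0x62e) (.cj (nat_lit 0x23) (nat_lit 1) (nat_lit 0x1) (.cj (nat_lit 0x24) (nat_lit 1) (nat_lit 0x1) (.cj (nat_lit 0x27) (nat_lit 1) (nat_lit 0x1) (.cj (nat_lit 0x21) (nat_lit 1) (nat_lit 0x1) (.lf (nat_lit 0x1002a700aa200c51)))))))),
 ([nat_lit 12], nat_lit 13, .s2 (.cj (nat_lit 0x23) (nat_lit 1) (nat_lit 0x1) (.s2 (.s2 (.cj (nat_lit 0x21) (nat_lit 1) (nat_lit 0x1) (.lf (nat_lit 0x10000a0006d0018e)))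
 (.cj (nat_lit 0x25) (nat_lit 1) (nat_lit 0x1) (.lf (nat_lit 0x10006d00299))))
 (.s2 (.cj (nat_lit 0x21) (nat_lit 1) (nat_lit 0x1) (.lf (nat_lit 0x10006d002a700db6)))
 (.s2 (.lf (nat_lit 0x10029c))
 (.lf (nat_lit 0x10000a002a7))))))
 (.cj (nat_lit 0x23) (nat_lit 1) (nat_lit 0x1) (.cj (nat_lit 0x22) (nat_lit 1) (nat_lit 0x1) (.cj (nat_lit 0x26) (nat_lit 1) (nat_lit 0x1) (.cj (nat_lit 0x21) (nat_lit 1) (nat_lit 0x1) (.lf (nat_lit 0x10000d0006b002a7))))))),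
 ([nat_lit 13], nat_lit 14, .s2 (.cj (nat_lit 0x22) (nat_lit 1) (nat_lit 0x1) (.cj (nat_lit 0x26) (nat_lit 1) (nat_lit 0x1) (.cj (nat_lit 0x28) (nat_lit 1) (nat_lit 0x1) (.lf (nat_lit 0x10000a00298002b5)))))
 (.cj (nat_lit 0x22) (nat_lit 1) (nat_lit 0x1) (.cj (nat_lit 0x26) (nat_lit 1) (nat_lit 0x1) (.cj (nat_lit 0x21) (nat_lit 1) (nat_lit 0x1) (.lf (nat_lit 0x10001200084)))))),
 ([nat_lit 14], nat_lit 15, .s2 (.s2 (.cj (nat_lit 0x21) (nat_lit 1) (nat_lit 0x1) (.lf (nat_lit 0x10006d00db6)))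
 (.s2 (.lf (nat_lit 0x10029c002a7))
 (.lf (nat_lit 0x10000a))))
 (.cj (nat_lit 0x23) (nat_lit 1) (nat_lit 0x1) (.cj (nat_lit 0x21) (nat_lit 1) (nat_lit 0x1) (.lf (nat_lit 0x1002990029c00db6))))),
 ([nat_lit 15], nat_lit 16, .cj (nat_lit 0x23) (nat_lit 1) (nat_lit 0x1) (.cj (nat_lit 0x25) (nat_lit 1) (nat_lit 0x1) (.lf (nat_lit 0x10006d002990029c)))),
 ([nat_lit 16], nat_lit 17, .cj (nat_lit 0x21) (nat_lit 1) (nat_lit 0x1) (.lf (nat_lit 0x10000a0018e00299))),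
 ([nat_lit 17], nat_lit 18, .lf (nat_lit 0x10000a0029c002a7))]
theorem hj2 : jobsChk 2 18 T pb (lf2 F23.cd om T gb 18 3) js2 = true := by decide +kernel


end Cfsg.Agent.Fi.Q23a
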