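import Cfsg.Agent.Fi.Q23br

set_option autoImplicit false
set_option maxRecDepth 100000
set_option Elab.async false

namespace Cfsg.Agent.Fi.Q23b

open Cfsg.Agent.FM Cfsg.Agent.Fi
open Cfsg.Agent.M24 (nall lall)

noncomputable def js0 : List Job := [([nat_lit 0], nat_lit 1, .s3 (.s3 (.cj (nat_lit 0x21) (nat_lit 2) (nat_lit 0x162d68) (.s3 (.cj (nat_lit 0x24) (nat_lit 2) (nat_lit 0x2c62d68) (.s3 (.cj (nat_lit 0x26) (nat_lit 2) (nat_lit 0x2b5a528) (.cj (nat_lit 0x23) (nat_lit 2) (nat_lit 0xb18b) (.cj (nat_lit 0x25) (nat_lit 2) (nat_lit 0x2c) (.pw (nat_lit 1) (nat_lit 0xb16b)))))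
 (.cj (nat_lit 0x20) (nat_lit 1) (nat_lit 0x152508) (.s3 (.s3 (.cj (nat_lit 0x9041) (nat_lit 2) (nat_lit 0x2b) (.s3 (.cj (nat_lit 0x23) (nat_lit 1) (nat_lit 0x1) (.lf (nat_lit 0x10004d000690117a0006d0109f012940018e0000005fd300003)))
 (.cj (nat_lit 0x23) (nat_lit 1) (nat_lit 0x1) (.lf (nat_lit 0x10002e00db900dba000440117900002017bc036cf00003072fd00003)))
 (.cj (nat_lit 0x23) (nat_lit 1) (nat_lit 0x1) (.lf (nat_lit 0x100db70006b00db8000420109d0007c00dbf0004a020ae01a32000030641c00003)))))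
 (.cj (nat_lit 0x9041) (nat_lit 1) (nat_lit 0x16316b) (.s3 (.cj (nat_lit 0x23) (nat_lit 2) (nat_lit 0x1) (.lf (nat_lit 0x100db600069000410000a000eb0002c00ff601afe000240466900003)))
 (.cj (nat_lit 0x23) (nat_lit 2) (nat_lit 0x1) (.lf (nat_lit 0x100db60004d0006900dba00026011260117f001a200001012cb00003)))
 (.cj (nat_lit 0x23) (nat_lit 2) (nat_lit 0x1) (.lf (nat_lit 0x100db900dbb0002500026011c70007d01d2f02faf000030173000003)))))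
 (.s3 (.s3 (.cj (nat_lit 0x25) (nat_lit 1) (nat_lit 0x1) (.lf (nat_lit 0x100db60006b0006c0105800006000fd041860001e03abe00003)))
 (.cj (nat_lit 0x25) (nat_lit 1) (nat_lit 0x1) (.lf (nat_lit 0x100db700dbd00f6a0000200078039ae00031018d400001)))
 (.cj (nat_lit 0x25) (nat_lit 1) (nat_lit 0x1) (.lf (nat_lit 0x100db7000690109d000440004e00018000aa041bb0006702a1400001))))
 (.s3 (.cj (nat_lit 0x23) (nat_lit 1) (nat_lit 0x1) (.lf (nat_lit 0x100db90006b000250006a0109d01058000020105a03d7d000310566800003)))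
 (.cj (nat_lit 0x23) (nat_lit 1) (nat_lit 0x1) (.lf (nat_lit 0x100db70006b00db800ff20117a000eb0128f014ea01fa101fb900003)))
 (.cj (nat_lit 0x23) (nat_lit 1) (nat_lit 0x1) (.lf (nat_lit 0x10006b00dbb000250007c00fbe017bc07baf000340456f00002))))
 (.s3 (.cj (nat_lit 0x23) (nat_lit 2) (nat_lit 0x1) (.lf (nat_lit 0x100db600db7000a600015000a80007100f720029d0000f0654300002)))
 (.cj (nat_lit 0x23) (nat_lit 2) (nat_lit 0x1) (.lf (nat_lit 0x1000690006a0117a0004c01a41028a100037002d600001)))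
 (.cj (nat_lit 0x23) (nat_lit 2) (nat_lit 0x1) (.lf (nat_lit 0x100db6000a60002f010250000b011ca0236d000040560900002))))))
 (.cj (nat_lit 0x9041) (nat_lit 2) (nat_lit 0x2c62d4a) (.s3 (.s3 (.cj (nat_lit 0x23) (nat_lit 1) (nat_lit 0x1) (.lf (nat_lit 0x10002e00db90004d0004100fbe013f300dde06ba700001)))
 (.cj (nat_lit 0x23) (nat_lit 1) (nat_lit 0x1) (.lf (nat_lit 0x100db9000420000a0000d0000b012220192d0000f03f3e00003)))
 (.cj (nat_lit 0x23) (nat_lit 1) (nat_lit 0x1) (.lf (nat_lit 0x10002e00db60006b00dbf0002b01a4002bd50001f0515200003))))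
 (.s3 (.cj (nat_lit 0x23) (nat_lit 2) (nat_lit 0x1) (.lf (nat_lit 0x100db7000690004100ff2000440109e0000e0018401a200000107a8000001)))
 (.cj (nat_lit 0x23) (nat_lit 2) (nat_lit 0x1) (.lf (nat_lit 0x100db600db70004d00025010a00000a010580000b01631026520000906dac00001)))
 (.cj (nat_lit 0x23) (nat_lit 2) (nat_lit 0x1) (.lf (nat_lit 0x10002e00db800ff2011220004f013f001a1e0455a00003))))
 (.s3 (.cj (nat_lit 0x25) (nat_lit 1) (nat_lit 0x1) (.lf (nat_lit 0x100db60004d0006a0109d000f20001600149039a0000010307400003)))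
 (.cj (nat_lit 0x25) (nat_lit 1) (nat_lit 0x1) (.lf (nat_lit 0x1000690006b000250109d000a800f6a0000b011780369b000080607000003)))
 (.cj (nat_lit 0x25) (nat_lit 1) (nat_lit 0x1) (.lf (nat_lit 0x10002e0004d000410109d0000d0004300002013ee04518000120662300003))))))
 (.cj (nat_lit 0x9041) (nat_lit 1) (nat_lit 0x162d4a) (.s3 (.s3 (.cj (nat_lit 0x23) (nat_lit 1) (nat_lit 0x1) (.lf (nat_lit 0x100db9000690006b0002501025010da035c700010052a600000)))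
 (.cj (nat_lit 0x23) (nat_lit 1) (nat_lit 0x1) (.lf (nat_lit 0x100db600db900069000a6000260002d0135d036be01fbc00003)))
 (.cj (nat_lit 0x23) (nat_lit 1) (nat_lit 0x1) (.lf (nat_lit 0x100db90004d00025000a600dbf000160122007b40000330762800003))))
 (.s3 (.cj (nat_lit 0x23) (nat_lit 2) (nat_lit 0x1) (.lf (nat_lit 0x100db700db80006c0001a0112200002011c603d6c0001e04ed100003)))
 (.cj (nat_lit 0x23) (nat_lit 2) (nat_lit 0x1) (.lf (nat_lit 0x100db700db800dbd0006f01122000050128d014550000405a5d00003)))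
 (.cj (nat_lit 0x23) (nat_lit 2) (nat_lit 0x1) (.lf (nat_lit 0x100db70004d00069000420109d000eb00dbc000170128907b120002000e3f002b600002))))
 (.s3 (.cj (nat_lit 0x25) (nat_lit 2) (nat_lit 0x1) (.lf (nat_lit 0x10002e0006b00db80000d0006e0000b00079023be00010008f200003)))
 (.cj (nat_lit 0x25) (nat_lit 2) (nat_lit 0x1) (.lf (nat_lit 0x10002e00db70004d00dbd0002f00fbc00030014e8041e100012024fe00001)))
 (.cj (nat_lit 0x25) (nat_lit 2) (nat_lit 0x1) (.lf (nat_lit 0x100dbb0006a0117a0004e00dbf000160112301d0d000110536700003))))))))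
 (.cj (nat_lit 0x20) (nat_lit 2) (nat_lit 0x2b5a528) (.cj (nat_lit 0x23) (nat_lit 1) (nat_lit 0x2c) (.cj (nat_lit 0x25) (nat_lit 1) (nat_lit 0x58c) (.pw (nat_lit 1) (nat_lit 0x56b)))))))
 (.cj (nat_lit 0x20) (nat_lit 1) (nat_lit 0x152528) (.cj (nat_lit 0x9041) (nat_lit 2) (nat_lit 0x15a9494a107) (.cj (nat_lit 0x26) (nat_lit 2) (nat_lit 0x58a52528) (.pw (nat_lit 2) (nat_lit 0xb14a)))))
 (.cj (nat_lit 0x20) (nat_lit 2) (nat_lit 0xad68) (.cj (nat_lit 0x9041) (nat_lit 1) (nat_lit 0x15ad4a420e7) (.cj (nat_lit 0x26) (nat_lit 2) (nat_lit 0xb18b52528) (.pw (nat_lit 2) (nat_lit 0xb18b5a949)))))))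
 (.cj (nat_lit 0x20) (nat_lit 2) (nat_lit 0xad2941ce5) (.cj (nat_lit 0x441) (nat_lit 1) (nat_lit 0x58b524e6) (.pw (nat_lit 2) (nat_lit 0xb18b5a92841cc6))))
 (.cj (nat_lit 0x20) (nat_lit 1) (nat_lit 0x2c5a8e5) (.cj (nat_lit 0x441) (nat_lit 2) (nat_lit 0x2a5250839ca5) (.pw (nat_lit 2) (nat_lit 0xad69420e6)))))
 (.s3 (.cj (nat_lit 0x21) (nat_lit 2) (nat_lit 0x162d68) (.cj (nat_lit 0x441) (nat_lit 2) (nat_lit 0x2939ca5) (.cj (nat_lit 0x24) (nat_lit 2) (nat_lit 0x152929) (.s3 (.cj (nat_lit 0x26) (nat_lit 2) (nat_lit 0x2b5a928) (.pw (nat_lit 1) (nat_lit 0x2c62d6a)))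
 (.cj (nat_lit 0x26) (nat_lit 2) (nat_lit 0x2b5a928) (.cj (nat_lit 0x27) (nat_lit 1) (nat_lit 0x2c) (.cj (nat_lit 0x9ce5) (nat_lit 1) (nat_lit 0x2c5ad4a) (.s3 (.cj (nat_lit 0x29) (nat_lit 1) (nat_lit 0x58c) (.pw (nat_lit 1) (nat_lit 0x1)))
 (.cj (nat_lit 0x29) (nat_lit 1) (nat_lit 0x58c) (.pw (nat_lit 2) (nat_lit 0x1)))
 (.cj (nat_lit 0x29) (nat_lit 1) (nat_lit 0x58c) (.cj (nat_lit 0x2b) (nat_lit 1) (nat_lit 0x1) (.lf (nat_lit 0x100db600dbb000a60013a0128f000ad00eab07a95000040620d00003))))))))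
 (.cj (nat_lit 0x26) (nat_lit 2) (nat_lit 0x2b5a928) (.pw (nat_lit 2) (nat_lit 0xad6a)))))))
 (.cj (nat_lit 0x21) (nat_lit 2) (nat_lit 0xb18b5a0e7314a4) (.s3 (.cj (nat_lit 0x23) (nat_lit 1) (nat_lit 0x2c5a527) (.cj (nat_lit 0x483) (nat_lit 1) (nat_lit 0x58b5a928) (.pw (nat_lit 2) (nat_lit 0xb16b4a508))))
 (.cj (nat_lit 0x20) (nat_lit 2) (nat_lit 0x15a908) (.cj (nat_lit 0x483) (nat_lit 1) (nat_lit 0xb16b52908) (.cj (nat_lit 0x25) (nat_lit 1) (nat_lit 0x2c5ad4a) (.s3 (.cj (nat_lit 0x28) (nat_lit 1) (nat_lit 0xb16a) (.pw (nat_lit 2) (nat_lit 0x2c)))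
 (.cj (nat_lit 0x4c5) (nat_lit 2) (nat_lit 0x2c) (.cj (nat_lit 0x29) (nat_lit 1) (nat_lit 0x2c) (.cj (nat_lit 0x294a0c5) (nat_lit 1) (nat_lit 0x1) (.cj (nat_lit 0x2b) (nat_lit 1) (nat_lit 0x1) (.lf (nat_lit 0x100db60004d00dbb00ff20117a0002f00f6a01a3d000620000005a1e00003))))))
 (.cj (nat_lit 0x28) (nat_lit 1) (nat_lit 0xb16a) (.pw (nat_lit 1) (nat_lit 0x58c)))))))
 (.cj (nat_lit 0x23) (nat_lit 1) (nat_lit 0xad6a52107) (.cj (nat_lit 0x483) (nat_lit 1) (nat_lit 0x15ad29) (.pw (nat_lit 1) (nat_lit 0x58b5a508))))))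
 (.cj (nat_lit 0x20) (nat_lit 2) (nat_lit 0x56b4a0e5) (.cj (nat_lit 0x440) (nat_lit 2) (nat_lit 0x56b420a5) (.pw (nat_lit 1) (nat_lit 0x161cc6)))))
 (.s3 (.cj (nat_lit 0x20) (nat_lit 2) (nat_lit 0x162d68) (.cj (nat_lit 0x441) (nat_lit 1) (nat_lit 0x58c5a0e7) (.cj (nat_lit 0x24) (nat_lit 2) (nat_lit 0xb16b52508) (.s3 (.cj (nat_lit 0x26) (nat_lit 2) (nat_lit 0xb18b5a948) (.pw (nat_lit 2) (nat_lit 0xad6a)))
 (.cj (nat_lit 0x26) (nat_lit 2) (nat_lit 0xb18b5a948) (.cj (nat_lit 0x27) (nat_lit 2) (nat_lit 0x2c) (.cj (nat_lit 0x9ce5) (nat_lit 2) (nat_lit 0xb16a) (.s3 (.cj (nat_lit 0x2a) (nat_lit 2) (nat_lit 0x1) (.cj (nat_lit 0x23) (nat_lit 1) (nat_lit 0x1) (.lf (nat_lit 0x100db600db900ff20117a0001a0006f013e501f7b00010038bc00003))))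
 (.cj (nat_lit 0x2a) (nat_lit 2) (nat_lit 0x1) (.pw (nat_lit 2) (nat_lit 0x1)))
 (.cj (nat_lit 0x2a) (nat_lit 2) (nat_lit 0x1) (.pw (nat_lit 1) (nat_lit 0x1)))))))
 (.cj (nat_lit 0x26) (nat_lit 2) (nat_lit 0xb18b5a948) (.pw (nat_lit 1) (nat_lit 0x2c62d6a)))))))
 (.cj (nat_lit 0x21) (nat_lit 2) (nat_lit 0x58c5a4e7314a4) (.cj (nat_lit 0x441) (nat_lit 2) (nat_lit 0x2c52908398a5) (.pw (nat_lit 1) (nat_lit 0xad494a106))))
 (.cj (nat_lit 0x21) (nat_lit 2) (nat_lit 0xad4a49484) (.s3 (.cj (nat_lit 0x23) (nat_lit 2) (nat_lit 0x2c52908) (.cj (nat_lit 0x480) (nat_lit 2) (nat_lit 0x58c4a507) (.pw (nat_lit 1) (nat_lit 0xb189))))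
 (.cj (nat_lit 0x23) (nat_lit 2) (nat_lit 0x1) (.cj (nat_lit 0x9080) (nat_lit 1) (nat_lit 0x2c62d49) (.cj (nat_lit 0x26) (nat_lit 2) (nat_lit 0x2b5a508) (.s3 (.cj (nat_lit 0x27) (nat_lit 1) (nat_lit 0x1) (.pw (nat_lit 2) (nat_lit 0x56b)))
 (.cj (nat_lit 0x27) (nat_lit 1) (nat_lit 0x2c) (.cj (nat_lit 0x29) (nat_lit 2) (nat_lit 0x56b) (.cj (nat_lit 0x28418c5) (nat_lit 2) (nat_lit 0x2c) (.cj (nat_lit 0x2a) (nat_lit 2) (nat_lit 0x1) (.lf (nat_lit 0x100dbb0004100ff20000a000f2000280117802e360000300ce300003))))))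
 (.cj (nat_lit 0x27) (nat_lit 1) (nat_lit 0x58c) (.pw (nat_lit 1) (nat_lit 0x2b)))))))
 (.cj (nat_lit 0x23) (nat_lit 2) (nat_lit 0xb148) (.cj (nat_lit 0x9083) (nat_lit 1) (nat_lit 0xb18b524e7) (.pw (nat_lit 2) (nat_lit 0x58b52928))))))))]
theorem hj0 : jobsChk 3 13 T pb (lf3 F23.cd om T gb 13 reps) js0 = true := by decide +kernel

noncomputable def js1 : List Job := [([nat_lit 1], nat_lit 2, .s3 (.cj (nat_lit 0x20) (nat_lit 1) (nat_lit 0x1) (.cj (nat_lit 0x22) (nat_lit 2) (nat_lit 0x58c5a928) (.s3 (.s3 (.s3 (.cj (nat_lit 0x27) (nat_lit 1) (nat_lit 0x1) (.cj (nat_lit 0x26) (nat_lit 2) (nat_lit 0xb18a) (.cj (nat_lit 0xb14a398c4) (nat_lit 1) (nat_lit 0x1) (.cj (nat_lit 0x2a) (nat_lit 1) (nat_lit 0x1) (.pw (nat_lit 2) (nat_lit 0x1))))))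
 (.cj (nat_lit 0x27) (nat_lit 1) (nat_lit 0x1) (.cj (nat_lit 0x26) (nat_lit 2) (nat_lit 0x56b) (.cj (nat_lit 0x58c51cc4) (nat_lit 2) (nat_lit 0x58b) (.cj (nat_lit 0x2a) (nat_lit 1) (nat_lit 0x1) (.cj (nat_lit 0x23) (nat_lit 2) (nat_lit 0x1) (.lf (nat_lit 0x10002e0004d00dba0004e0006e0000c01a41035750002004c7800003)))))))
 (.cj (nat_lit 0x21) (nat_lit 1) (nat_lit 0x1) (.cj (nat_lit 0x26) (nat_lit 2) (nat_lit 0x162d4a) (.cj (nat_lit 0x4e4) (nat_lit 2) (nat_lit 0x2b) (.cj (nat_lit 0x2a) (nat_lit 1) (nat_lit 0x1) (.cj (nat_lit 0x23) (nat_lit 1) (nat_lit 0x1) (.lf (nat_lit 0x100db9000690006a0117a000270014001fd60000801ea3002b600003))))))))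
 (.s3 (.cj (nat_lit 0x23) (nat_lit 1) (nat_lit 0x1) (.cj (nat_lit 0x21) (nat_lit 1) (nat_lit 0xb14a) (.cj (nat_lit 0x9ce3) (nat_lit 2) (nat_lit 0xb16b) (.cj (nat_lit 0x28) (nat_lit 1) (nat_lit 0x1) (.pw (nat_lit 1) (nat_lit 0x1))))))
 (.cj (nat_lit 0x23) (nat_lit 1) (nat_lit 0x58c) (.cj (nat_lit 0x26) (nat_lit 2) (nat_lit 0x56b) (.cj (nat_lit 0x9ce3) (nat_lit 2) (nat_lit 0x56b) (.pw (nat_lit 2) (nat_lit 0x58c)))))
 (.cj (nat_lit 0x23) (nat_lit 1) (nat_lit 0x2c) (.cj (nat_lit 0x26) (nat_lit 2) (nat_lit 0x162d4a) (.cj (nat_lit 0x4e4) (nat_lit 1) (nat_lit 0xb16b) (.pw (nat_lit 1) (nat_lit 0x58c))))))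
 (.s3 (.cj (nat_lit 0x23) (nat_lit 2) (nat_lit 0x2b) (.cj (nat_lit 0x21) (nat_lit 2) (nat_lit 0xb18a) (.cj (nat_lit 0x4e3) (nat_lit 2) (nat_lit 0x1) (.cj (nat_lit 0x28) (nat_lit 2) (nat_lit 0x1) (.cj (nat_lit 0x98c1) (nat_lit 2) (nat_lit 0x1) (.lf (nat_lit 0x10002e00dbb00042000a60000d0001b014e70354900013002cb00003)))))))
 (.cj (nat_lit 0x23) (nat_lit 2) (nat_lit 0xb18b) (.cj (nat_lit 0x26) (nat_lit 2) (nat_lit 0x56b) (.cj (nat_lit 0x4e3) (nat_lit 2) (nat_lit 0x58c) (.pw (nat_lit 1) (nat_lit 0x2c)))))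
 (.cj (nat_lit 0x23) (nat_lit 2) (nat_lit 0x58b) (.cj (nat_lit 0x26) (nat_lit 2) (nat_lit 0x162d4a) (.cj (nat_lit 0x4e3) (nat_lit 2) (nat_lit 0x2c) (.pw (nat_lit 2) (nat_lit 0x2c)))))))
 (.s3 (.s3 (.cj (nat_lit 0x27) (nat_lit 1) (nat_lit 0x2c) (.cj (nat_lit 0x26) (nat_lit 1) (nat_lit 0x162d6a) (.cj (nat_lit 0x24) (nat_lit 1) (nat_lit 0x1) (.cj (nat_lit 0x2a) (nat_lit 1) (nat_lit 0x1) (.cj (nat_lit 0x23) (nat_lit 1) (nat_lit 0x1) (.lf (nat_lit 0x10002e00db70006b00db80006c0000a0117b013ef0264900d0900003)))))))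
 (.cj (nat_lit 0x27) (nat_lit 1) (nat_lit 0x2c) (.cj (nat_lit 0x24) (nat_lit 2) (nat_lit 0xb16a) (.cj (nat_lit 0x4c4) (nat_lit 1) (nat_lit 0x1) (.cj (nat_lit 0x2a) (nat_lit 1) (nat_lit 0x1) (.cj (nat_lit 0x28) (nat_lit 1) (nat_lit 0x1) (.lf (nat_lit 0x100db600db70006c0000d000760129201f7e00001026ce00003)))))))
 (.cj (nat_lit 0x27) (nat_lit 1) (nat_lit 0x2c) (.cj (nat_lit 0x26) (nat_lit 1) (nat_lit 0x54a) (.cj (nat_lit 0x98c4) (nat_lit 2) (nat_lit 0xb18b) (.cj (nat_lit 0x2a) (nat_lit 1) (nat_lit 0x1) (.pw (nat_lit 2) (nat_lit 0x1)))))))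
 (.s3 (.cj (nat_lit 0x23) (nat_lit 1) (nat_lit 0x1) (.cj (nat_lit 0x26) (nat_lit 1) (nat_lit 0x162d6a) (.cj (nat_lit 0x24) (nat_lit 2) (nat_lit 0x58c) (.pw (nat_lit 2) (nat_lit 0x58c)))))
 (.cj (nat_lit 0x21) (nat_lit 1) (nat_lit 0x2c) (.cj (nat_lit 0x24) (nat_lit 2) (nat_lit 0xad4a) (.cj (nat_lit 0x4c4) (nat_lit 2) (nat_lit 0x58c) (.pw (nat_lit 1) (nat_lit 0x58c)))))
 (.cj (nat_lit 0x23) (nat_lit 1) (nat_lit 0x2c) (.cj (nat_lit 0x26) (nat_lit 1) (nat_lit 0x54a) (.cj (nat_lit 0x9ce3) (nat_lit 2) (nat_lit 0xb16b) (.cj (nat_lit 0x28) (nat_lit 1) (nat_lit 0x1) (.pw (nat_lit 1) (nat_lit 0x1)))))))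
 (.s3 (.cj (nat_lit 0x23) (nat_lit 2) (nat_lit 0xb18b) (.cj (nat_lit 0x4e1) (nat_lit 1) (nat_lit 0x56a) (.cj (nat_lit 0x4e3) (nat_lit 2) (nat_lit 0x1) (.pw (nat_lit 1) (nat_lit 0x2c)))))
 (.cj (nat_lit 0x23) (nat_lit 2) (nat_lit 0x58b) (.cj (nat_lit 0x24) (nat_lit 2) (nat_lit 0xb18b) (.cj (nat_lit 0x4e3) (nat_lit 2) (nat_lit 0x58c) (.pw (nat_lit 2) (nat_lit 0x2c)))))
 (.cj (nat_lit 0x23) (nat_lit 2) (nat_lit 0x2b) (.cj (nat_lit 0x21) (nat_lit 1) (nat_lit 0x54a) (.cj (nat_lit 0x4e3) (nat_lit 2) (nat_lit 0x2c) (.cj (nat_lit 0x28) (nat_lit 2) (nat_lit 0x1) (.cj (nat_lit 0x98c1) (nat_lit 1) (nat_lit 0x1) (.lf (nat_lit 0x100db800ff20006f011220004f00f70002520546c00003)))))))))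
 (.s3 (.s3 (.cj (nat_lit 0x27) (nat_lit 1) (nat_lit 0x58c) (.cj (nat_lit 0x9ce4) (nat_lit 1) (nat_lit 0x2b) (.cj (nat_lit 0x26) (nat_lit 1) (nat_lit 0xb18b) (.cj (nat_lit 0x29) (nat_lit 1) (nat_lit 0x1) (.pw (nat_lit 1) (nat_lit 0x1))))))
 (.cj (nat_lit 0x27) (nat_lit 1) (nat_lit 0x58c) (.cj (nat_lit 0x21) (nat_lit 1) (nat_lit 0x15ad4a) (.s3 (.cj (nat_lit 0x29) (nat_lit 1) (nat_lit 0x1) (.cj (nat_lit 0x23) (nat_lit 1) (nat_lit 0x1) (.lf (nat_lit 0x10002e00db70004d00db800ff20013a0117900006015860008f0425200003))))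
 (.cj (nat_lit 0x29) (nat_lit 1) (nat_lit 0x1) (.cj (nat_lit 0x23) (nat_lit 2) (nat_lit 0x1) (.lf (nat_lit 0x100db600dbb00025010a0000f2011790000501631013c5000110536000003))))
 (.cj (nat_lit 0x29) (nat_lit 1) (nat_lit 0x1) (.s3 (.lf (nat_lit 0x10002e00db600db70117a0000d010580000b017c101f830002405a1000002))
 (.lf (nat_lit 0x100db600ff2000270117b000300117c000df000000154100001))
 (.lf (nat_lit 0x10004d00041010a0000270002f000a9017ba041e3000200729e00000)))))))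
 (.cj (nat_lit 0x27) (nat_lit 1) (nat_lit 0x58c) (.cj (nat_lit 0x9ce4) (nat_lit 2) (nat_lit 0x1) (.cj (nat_lit 0x26) (nat_lit 2) (nat_lit 0xb16b) (.cj (nat_lit 0x29) (nat_lit 1) (nat_lit 0x1) (.pw (nat_lit 1) (nat_lit 0x1)))))))
 (.s3 (.cj (nat_lit 0x23) (nat_lit 1) (nat_lit 0x1) (.cj (nat_lit 0x9ce4) (nat_lit 1) (nat_lit 0x1) (.cj (nat_lit 0x26) (nat_lit 1) (nat_lit 0xb18b) (.pw (nat_lit 1) (nat_lit 0x2c)))))
 (.cj (nat_lit 0x23) (nat_lit 1) (nat_lit 0x58c) (.cj (nat_lit 0x21) (nat_lit 2) (nat_lit 0x56a) (.cj (nat_lit 0x9ce3) (nat_lit 2) (nat_lit 0xb16b) (.cj (nat_lit 0x28) (nat_lit 1) (nat_lit 0x1) (.s3 (.lf (nat_lit 0x100db6000250001a000260000b013ef001c6000040196e00003))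
 (.lf (nat_lit 0x10002e0006b00db80000a000f20101e07afe0001d0696d00001))
 (.lf (nat_lit 0x100db600db700dbd0000a010230162f03290000080278600003)))))))
 (.cj (nat_lit 0x23) (nat_lit 1) (nat_lit 0x2c) (.cj (nat_lit 0x4e1) (nat_lit 2) (nat_lit 0x16314a) (.cj (nat_lit 0x26) (nat_lit 2) (nat_lit 0xb16b) (.pw (nat_lit 2) (nat_lit 0x2c))))))
 (.s3 (.cj (nat_lit 0x21) (nat_lit 1) (nat_lit 0x56b) (.cj (nat_lit 0x9ce4) (nat_lit 1) (nat_lit 0x56b) (.cj (nat_lit 0x4e3) (nat_lit 2) (nat_lit 0x1) (.pw (nat_lit 2) (nat_lit 0x2c)))))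
 (.cj (nat_lit 0x23) (nat_lit 2) (nat_lit 0x2b) (.s3 (.cj (nat_lit 0x4e3) (nat_lit 2) (nat_lit 0x58c) (.cj (nat_lit 0x28) (nat_lit 2) (nat_lit 0x1) (.s3 (.lf (nat_lit 0x10006900025010a00004e00f6a00006017c1000e1000000034500001))
 (.lf (nat_lit 0x100db70004d000250006f00dbc0000b000f10008801c2400003))
 (.lf (nat_lit 0x100dbb00041000430128f00019013ef02ebb0623e00002)))))
 (.cj (nat_lit 0x4e3) (nat_lit 2) (nat_lit 0x1) (.cj (nat_lit 0x28) (nat_lit 2) (nat_lit 0x1) (.cj (nat_lit 0x541) (nat_lit 2) (nat_lit 0x1) (.lf (nat_lit 0x100db70004d010a00002f00f6a0004f016de02e32000510307400003)))))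
 (.cj (nat_lit 0x4e3) (nat_lit 2) (nat_lit 0x2c) (.cj (nat_lit 0x28) (nat_lit 2) (nat_lit 0x1) (.cj (nat_lit 0xa941) (nat_lit 1) (nat_lit 0x1) (.lf (nat_lit 0x10004d00dbb0004e00fbc0007001d38001e6000040301a00003)))))))
 (.cj (nat_lit 0x21) (nat_lit 2) (nat_lit 0x58b) (.cj (nat_lit 0x9ce4) (nat_lit 2) (nat_lit 0x2b) (.cj (nat_lit 0x4e3) (nat_lit 2) (nat_lit 0x2c) (.pw (nat_lit 1) (nat_lit 0x2c))))))))))
 (.s3 (.cj (nat_lit 0x21) (nat_lit 1) (nat_lit 0x14a506) (.cj (nat_lit 0x23) (nat_lit 1) (nat_lit 0x15a907) (.cj (nat_lit 0x24) (nat_lit 1) (nat_lit 0x152528) (.pw (nat_lit 1) (nat_lit 0xb188)))))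
 (.cj (nat_lit 0x21) (nat_lit 1) (nat_lit 0x14a506) (.cj (nat_lit 0x23) (nat_lit 1) (nat_lit 0x15a907) (.cj (nat_lit 0x24) (nat_lit 1) (nat_lit 0x16316b) (.pw (nat_lit 2) (nat_lit 0x15a908)))))
 (.cj (nat_lit 0x21) (nat_lit 1) (nat_lit 0x14a506) (.cj (nat_lit 0x23) (nat_lit 1) (nat_lit 0x15a907) (.cj (nat_lit 0x24) (nat_lit 1) (nat_lit 0xb16a52508) (.cj (nat_lit 0x25) (nat_lit 1) (nat_lit 0x162d48) (.s3 (.cj (nat_lit 0x28) (nat_lit 1) (nat_lit 0x56a) (.pw (nat_lit 2) (nat_lit 0x16316b)))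
 (.cj (nat_lit 0x26) (nat_lit 1) (nat_lit 0x58c) (.cj (nat_lit 0x29) (nat_lit 1) (nat_lit 0x58b) (.s3 (.cj (nat_lit 0x50528c60) (nat_lit 2) (nat_lit 0x1) (.lf (nat_lit 0x100db7000690117a00fbe0002a015a6041c80001c0152e00003)))
 (.cj (nat_lit 0x50528c60) (nat_lit 1) (nat_lit 0x1) (.lf (nat_lit 0x1000690006b010a000015011790004f017ba0264e000320737700003)))
 (.s3 (.lf (nat_lit 0x100db600db90004d00069010a00000d000280105a036d10003d0621200003))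
 (.lf (nat_lit 0x100db90004d0117a00ff3000020146001f5a0003204d9100000))
 (.lf (nat_lit 0x10004d000690006c000150109e000280117e0009b03dcc00003))))))
 (.cj (nat_lit 0x28) (nat_lit 1) (nat_lit 0x56a) (.pw (nat_lit 1) (nat_lit 0x58b)))))))))
 (.cj (nat_lit 0x20) (nat_lit 2) (nat_lit 0xb18a4a4e5) (.cj (nat_lit 0x21) (nat_lit 2) (nat_lit 0xad69) (.cj (nat_lit 0x23) (nat_lit 2) (nat_lit 0x163148) (.pw (nat_lit 2) (nat_lit 0x162d6a524e7)))))),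
 ([nat_lit 2], nat_lit 3, .cj (nat_lit 0x20) (nat_lit 2) (nat_lit 0x2c62d6a51ce5) (.cj (nat_lit 0x21) (nat_lit 1) (nat_lit 0x2c4a106) (.cj (nat_lit 0x23) (nat_lit 1) (nat_lit 0x15a9494a107) (.pw (nat_lit 2) (nat_lit 0x2c62107)))))]
theorem hj1 : jobsChk 3 13 T pb (lf3 F23.cd om T gb 13 reps) js1 = true := by decide +kernel

noncomputable def js2 : List Job := [([nat_lit 3], nat_lit 4, .s3 (.cj (nat_lit 0x22) (nat_lit 2) (nat_lit 0x2c) (.s3 (.s3 (.cj (nat_lit 0x26) (nat_lit 2) (nat_lit 0x2b) (.cj (nat_lit 0x98c4) (nat_lit 2) (nat_lit 0xb16a) (.s3 (.s3 (.cj (nat_lit 0x25) (nat_lit 2) (nat_lit 0x1) (.lf (nat_lit 0x100dbb000420109d0000d0109f0000b01a48000970000001b2c00001)))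
 (.cj (nat_lit 0x25) (nat_lit 2) (nat_lit 0x1) (.lf (nat_lit 0x10006b00dbb000a60007c00ff00002d017b90300a0001d03ce400000)))
 (.cj (nat_lit 0x25) (nat_lit 2) (nat_lit 0x1) (.lf (nat_lit 0x100db6000690006b000410117a0006f0102300070010240001e07ad100002))))
 (.cj (nat_lit 0x21) (nat_lit 2) (nat_lit 0x1) (.cj (nat_lit 0x23) (nat_lit 1) (nat_lit 0x1) (.lf (nat_lit 0x100db600db700069000250109d0013a0000500017039f4000040546000003))))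
 (.cj (nat_lit 0x21) (nat_lit 1) (nat_lit 0x1) (.cj (nat_lit 0x23) (nat_lit 2) (nat_lit 0x1) (.lf (nat_lit 0x100db600db900069000410001a000b100fef02653000320483900003)))))))
 (.cj (nat_lit 0x21) (nat_lit 2) (nat_lit 0x2c) (.cj (nat_lit 0x98c4) (nat_lit 1) (nat_lit 0x54a) (.cj (nat_lit 0x98c1) (nat_lit 1) (nat_lit 0x16316b) (.s3 (.cj (nat_lit 0x23) (nat_lit 2) (nat_lit 0x1) (.lf (nat_lit 0x100db7000690006a0006f010d90002a01a40039c4018cf00001)))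
 (.cj (nat_lit 0x23) (nat_lit 2) (nat_lit 0x1) (.lf (nat_lit 0x10002e0004d00dbb0004100ff20006d000700145d03e4201fb900003)))
 (.cj (nat_lit 0x23) (nat_lit 2) (nat_lit 0x1) (.lf (nat_lit 0x100db90006b00042000a60000d010dd00045013e70010306b5500003)))))))
 (.cj (nat_lit 0x21) (nat_lit 1) (nat_lit 0x1) (.s3 (.cj (nat_lit 0x4c1) (nat_lit 1) (nat_lit 0x2c) (.cj (nat_lit 0x98c4) (nat_lit 2) (nat_lit 0x58c) (.cj (nat_lit 0x23) (nat_lit 1) (nat_lit 0x1) (.lf (nat_lit 0x10002e00db900dbd00026011c70002c00fb9017050000902c8100003)))))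
 (.cj (nat_lit 0x4c1) (nat_lit 1) (nat_lit 0x56b) (.s3 (.cj (nat_lit 0x23) (nat_lit 2) (nat_lit 0x1) (.lf (nat_lit 0x100db600db8000420000a0105c0004c013ed00e13000000745a00002)))
 (.cj (nat_lit 0x23) (nat_lit 2) (nat_lit 0x1) (.lf (nat_lit 0x100db900025010a0000f20000600dce0158c000030130800001)))
 (.cj (nat_lit 0x23) (nat_lit 2) (nat_lit 0x1) (.lf (nat_lit 0x10002e00db700db8000ea00dbf00076017c302bce000070349f00003)))))
 (.cj (nat_lit 0x4c1) (nat_lit 1) (nat_lit 0xb18b) (.cj (nat_lit 0x98c4) (nat_lit 1) (nat_lit 0x58c) (.cj (nat_lit 0x25) (nat_lit 1) (nat_lit 0x1) (.lf (nat_lit 0x100db60004d00db8000a60000a010d9000ab00f91024ed000010141900003))))))))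
 (.cj (nat_lit 0x20) (nat_lit 1) (nat_lit 0x2b5a949) (.cj (nat_lit 0x23) (nat_lit 1) (nat_lit 0x1) (.cj (nat_lit 0x25) (nat_lit 1) (nat_lit 0x1) (.cj (nat_lit 0x27) (nat_lit 1) (nat_lit 0x58c) (.pw (nat_lit 1) (nat_lit 0x1))))))
 (.cj (nat_lit 0x20) (nat_lit 2) (nat_lit 0x54a4a508) (.cj (nat_lit 0x23) (nat_lit 2) (nat_lit 0x2b) (.cj (nat_lit 0x21) (nat_lit 2) (nat_lit 0x2a) (.cj (nat_lit 0x27) (nat_lit 2) (nat_lit 0x1) (.pw (nat_lit 1) (nat_lit 0x1))))))))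
 (.cj (nat_lit 0x20) (nat_lit 1) (nat_lit 0x58c5a908) (.cj (nat_lit 0x440) (nat_lit 2) (nat_lit 0x2b520e7) (.s3 (.cj (nat_lit 0x21) (nat_lit 1) (nat_lit 0x162d49) (.cj (nat_lit 0x27) (nat_lit 1) (nat_lit 0x1) (.cj (nat_lit 0x139cc3) (nat_lit 1) (nat_lit 0x58c) (.pw (nat_lit 2) (nat_lit 0x58c)))))
 (.cj (nat_lit 0x25) (nat_lit 2) (nat_lit 0x162929) (.cj (nat_lit 0x27) (nat_lit 1) (nat_lit 0x1) (.cj (nat_lit 0x9ce1) (nat_lit 1) (nat_lit 0x58b) (.pw (nat_lit 1) (nat_lit 0x2c)))))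
 (.cj (nat_lit 0x26) (nat_lit 2) (nat_lit 0x56b) (.cj (nat_lit 0x27) (nat_lit 1) (nat_lit 0x1) (.cj (nat_lit 0x98c4) (nat_lit 1) (nat_lit 0x1) (.cj (nat_lit 0x28) (nat_lit 1) (nat_lit 0x1) (.cj (nat_lit 0x2a) (nat_lit 2) (nat_lit 0x1) (.lf (nat_lit 0x10006b0006c0004e00dbc0001b000bb0024c0000304b3f00003))))))))))
 (.cj (nat_lit 0x20) (nat_lit 2) (nat_lit 0x14a508) (.cj (nat_lit 0x8840) (nat_lit 2) (nat_lit 0x162508) (.s3 (.cj (nat_lit 0x26) (nat_lit 2) (nat_lit 0x58a) (.cj (nat_lit 0x4c5) (nat_lit 1) (nat_lit 0x1) (.cj (nat_lit 0x27398c1) (nat_lit 1) (nat_lit 0x2b) (.pw (nat_lit 1) (nat_lit 0x58c)))))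
 (.cj (nat_lit 0x26) (nat_lit 2) (nat_lit 0x1) (.cj (nat_lit 0x27) (nat_lit 2) (nat_lit 0x16316b) (.cj (nat_lit 0x139cc1) (nat_lit 2) (nat_lit 0x2c) (.cj (nat_lit 0x28) (nat_lit 2) (nat_lit 0x1) (.cj (nat_lit 0x2a) (nat_lit 2) (nat_lit 0x1) (.lf (nat_lit 0x10004d00dbb0109d000440117900076017bf0108d02c0900003)))))))
 (.cj (nat_lit 0x24) (nat_lit 2) (nat_lit 0x16316a) (.cj (nat_lit 0x27) (nat_lit 2) (nat_lit 0x16316b) (.cj (nat_lit 0x98c4) (nat_lit 2) (nat_lit 0x58b) (.pw (nat_lit 2) (nat_lit 0x2c))))))))),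
 ([nat_lit 4], nat_lit 5, .cj (nat_lit 0x20) (nat_lit 1) (nat_lit 0x2c62d48) (.cj (nat_lit 0x22) (nat_lit 2) (nat_lit 0x2c62d6a) (.s3 (.cj (nat_lit 0x21) (nat_lit 1) (nat_lit 0xad49) (.cj (nat_lit 0x27) (nat_lit 1) (nat_lit 0x1) (.cj (nat_lit 0x26) (nat_lit 2) (nat_lit 0x58b) (.pw (nat_lit 2) (nat_lit 0x1)))))
 (.cj (nat_lit 0x23) (nat_lit 1) (nat_lit 0x2c5a949) (.cj (nat_lit 0x24) (nat_lit 2) (nat_lit 0x1) (.cj (nat_lit 0x26) (nat_lit 1) (nat_lit 0xb18b) (.pw (nat_lit 1) (nat_lit 0x1)))))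
 (.cj (nat_lit 0x23) (nat_lit 1) (nat_lit 0x15a949) (.cj (nat_lit 0x24) (nat_lit 1) (nat_lit 0x1) (.s3 (.cj (nat_lit 0x26) (nat_lit 1) (nat_lit 0x1) (.cj (nat_lit 0xa4a3) (nat_lit 1) (nat_lit 0x1) (.lf (nat_lit 0x100db9000690006b0006c000440007c00076024ec01a2d0100700003))))
 (.cj (nat_lit 0x26) (nat_lit 1) (nat_lit 0x1) (.cj (nat_lit 0xa4a3) (nat_lit 2) (nat_lit 0x1) (.lf (nat_lit 0x100db70004d00dbb0117a0002f010d9017bf01d1e0001c021ac00003))))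
 (.cj (nat_lit 0x26) (nat_lit 1) (nat_lit 0x1) (.s3 (.lf (nat_lit 0x10002e00db8000250006f00030017c5032720001c0337f00003))
 (.lf (nat_lit 0x100db600db7010a00006f00ff00000b000f7021ed0001c0607000003))
 (.lf (nat_lit 0x100db900dba0002f000160013c07b0e0003f0195b00000)))))))))),
 ([nat_lit 5], nat_lit 6, .s3 (.cj (nat_lit 0x22) (nat_lit 2) (nat_lit 0x58c) (.cj (nat_lit 0x24) (nat_lit 1) (nat_lit 0x162949) (.cj (nat_lit 0x20) (nat_lit 1) (nat_lit 0x1) (.s3 (.cj (nat_lit 0x481) (nat_lit 1) (nat_lit 0x2c) (.cj (nat_lit 0x23) (nat_lit 1) (nat_lit 0x1) (.lf (nat_lit 0x10002e00db600dbb0000d00dbf0000b01124029ef000030426600003))))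
 (.s3 (.cj (nat_lit 0x23) (nat_lit 2) (nat_lit 0x1) (.lf (nat_lit 0x10002e00db900dbb00041000ea0000c012ee03d33054f100003)))
 (.cj (nat_lit 0x23) (nat_lit 2) (nat_lit 0x1) (.lf (nat_lit 0x10004d0004100ff200015000ea000a902a0e014cd0000707b2d00000)))
 (.cj (nat_lit 0x23) (nat_lit 2) (nat_lit 0x1) (.lf (nat_lit 0x100db900dbb00dba0117a000430001b0135e00e430001c0583200003))))
 (.cj (nat_lit 0x481) (nat_lit 2) (nat_lit 0x2c) (.cj (nat_lit 0x27) (nat_lit 1) (nat_lit 0x1) (.lf (nat_lit 0x10006b00dba0117a0004e0006e0007000fbb07b0f000210646200003))))))))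
 (.cj (nat_lit 0x22) (nat_lit 2) (nat_lit 0xad28) (.cj (nat_lit 0x23) (nat_lit 1) (nat_lit 0x1) (.cj (nat_lit 0x25) (nat_lit 1) (nat_lit 0x1) (.cj (nat_lit 0x27) (nat_lit 1) (nat_lit 0x1) (.cj (nat_lit 0x28) (nat_lit 1) (nat_lit 0x58c) (.pw (nat_lit 2) (nat_lit 0x1)))))))
 (.cj (nat_lit 0x20) (nat_lit 2) (nat_lit 0xa948) (.cj (nat_lit 0x23) (nat_lit 2) (nat_lit 0xb18b) (.cj (nat_lit 0x25) (nat_lit 2) (nat_lit 0x1) (.cj (nat_lit 0x27) (nat_lit 2) (nat_lit 0x58c) (.cj (nat_lit 0x28) (nat_lit 2) (nat_lit 0x58c) (.pw (nat_lit 1) (nat_lit 0x1)))))))),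
 ([nat_lit 6], nat_lit 7, .cj (nat_lit 0x20) (nat_lit 1) (nat_lit 0xad6a52508) (.cj (nat_lit 0x23) (nat_lit 1) (nat_lit 0x1) (.cj (nat_lit 0x21) (nat_lit 1) (nat_lit 0x54a) (.cj (nat_lit 0x27) (nat_lit 1) (nat_lit 0x58c) (.cj (nat_lit 0x28) (nat_lit 1) (nat_lit 0x1) (.s3 (.lf (nat_lit 0x100db70006b00db8000250117a000f200019012eb07aaf0001d075f700001))
 (.lf (nat_lit 0x1000690006b000410002f00fbc0000e0013d04515055bf00003))
 (.lf (nat_lit 0x10002e0006b00db800025010a00007c00ff0000490109901e2b000070462c00002)))))))),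
 ([nat_lit 7], nat_lit 8, .cj (nat_lit 0x21) (nat_lit 2) (nat_lit 0x2c) (.cj (nat_lit 0x24) (nat_lit 2) (nat_lit 0x56b) (.cj (nat_lit 0x20) (nat_lit 1) (nat_lit 0x2c) (.s3 (.cj (nat_lit 0x23) (nat_lit 2) (nat_lit 0x1) (.lf (nat_lit 0x100db600db9000420000a01025000b201d31039ae000200442b00002)))
 (.cj (nat_lit 0x23) (nat_lit 2) (nat_lit 0x1) (.lf (nat_lit 0x10002e00db6000690006b00dba0128f000f003d1100012071de00001)))
 (.cj (nat_lit 0x23) (nat_lit 2) (nat_lit 0x1) (.lf (nat_lit 0x100db800ff20007c010d900019015a9028b8039cb002b600003))))))),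
 ([nat_lit 8], nat_lit 9, .cj (nat_lit 0x22) (nat_lit 2) (nat_lit 0x1) (.s3 (.cj (nat_lit 0x20) (nat_lit 1) (nat_lit 0x1) (.cj (nat_lit 0x25) (nat_lit 1) (nat_lit 0x1) (.lf (nat_lit 0x100db600db90004d000420117a0006d0006f000f001d0b00003028c900001))))
 (.cj (nat_lit 0x21) (nat_lit 2) (nat_lit 0x1) (.cj (nat_lit 0x23) (nat_lit 1) (nat_lit 0x1) (.lf (nat_lit 0x100db900dbb0006a0000a0013a0000c01462021c8000010738b00002))))
 (.cj (nat_lit 0x21) (nat_lit 1) (nat_lit 0x1) (.cj (nat_lit 0x23) (nat_lit 2) (nat_lit 0x1) (.lf (nat_lit 0x1000250006a0006e0117b000480117e03d43000240221800003)))))),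
 ([nat_lit 9], nat_lit 10, .cj (nat_lit 0x22) (nat_lit 2) (nat_lit 0x1) (.cj (nat_lit 0x24) (nat_lit 1) (nat_lit 0x1) (.cj (nat_lit 0x23) (nat_lit 1) (nat_lit 0x1) (.lf (nat_lit 0x100db700dbb0002500ff200027000ea0002d013eb02f140000f0553400000))))),
 ([nat_lit 10], nat_lit 11, .cj (nat_lit 0x21) (nat_lit 2) (nat_lit 0x1) (.cj (nat_lit 0x20) (nat_lit 2) (nat_lit 0x1) (.lf (nat_lit 0x10002e0006b00db8000420007c011220001b010a300296000140758200002)))),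
 ([nat_lit 11], nat_lit 12, .cj (nat_lit 0x20) (nat_lit 2) (nat_lit 0x1) (.lf (nat_lit 0x100db600025010a00001a0006f00016000b5002640758300002))),
 ([nat_lit 12], nat_lit 13, .lf (nat_lit 0x100dbb00025010a000027000ea0002a0010007b8a0001c076cc002b600002))]
theorem hj2 : jobsChk 3 13 T pb (lf3 F23.cd om T gb 13 reps) js2 = true := by decide +kernel


end Cfsg.Agent.Fi.Q23b
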