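import Cfsg.Agent.Fi.Q24ad

set_option autoImplicit false
set_option maxRecDepth 100000
set_option Elab.async false

namespace Cfsg.Agent.Fi.Q24a

open Cfsg.Agent.FM Cfsg.Agent.Fi
open Cfsg.Agent.M24 (nall lall)

noncomputable def js0 : List Job := [([nat_lit 0], nat_lit 3, .s2 (.s2 (.s2 (.cj (nat_lit 0x24) (nat_lit 1) (nat_lit 0x1) (.s2 (.s2 (.s2 (.cj (nat_lit 0x29) (nat_lit 1) (nat_lit 0x2e) (.s2 (.s2 (.cj (nat_lit 0x2c) (nat_lit 1) (nat_lit 0x31) (.s2 (.s2 (.cj (nat_lit 0x22) (nat_lit 1) (nat_lit 0x6b2) (.s2 (.s2 (.s2 (.s2 (.s2 (.lf (nat_lit 0x100000))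
 (.lf (nat_lit 0x1000f2002a807bb7)))
 (.cj (nat_lit 0x5e3) (nat_lit 1) (nat_lit 0x1) (.lf (nat_lit 0x1000120029c07bb7))))
 (.cj (nat_lit 0x5e2) (nat_lit 1) (nat_lit 0x1) (.cj (nat_lit 0x27) (nat_lit 1) (nat_lit 0x1) (.lf (nat_lit 0x10001200069002a8)))))
 (.s2 (.cj (nat_lit 0x25) (nat_lit 1) (nat_lit 0x1) (.cj (nat_lit 0x28) (nat_lit 1) (nat_lit 0x1) (.lf (nat_lit 0x10000a002a707bb7))))
 (.cj (nat_lit 0x25) (nat_lit 1) (nat_lit 0x1) (.cj (nat_lit 0x27) (nat_lit 1) (nat_lit 0x1) (.lf (nat_lit 0x1000000009200db6))))))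
 (.cj (nat_lit 0x5e2) (nat_lit 1) (nat_lit 0x35) (.cj (nat_lit 0x25) (nat_lit 1) (nat_lit 0x1) (.s2 (.cj (nat_lit 0x27) (nat_lit 1) (nat_lit 0x1) (.lf (nat_lit 0x10000a002a8002b5)))
 (.cj (nat_lit 0x27) (nat_lit 1) (nat_lit 0x1) (.lf (nat_lit 0x100000001b900299))))))))
 (.pw (nat_lit 1) (nat_lit 0x6b2)))
 (.s2 (.cj (nat_lit 0x2f) (nat_lit 1) (nat_lit 0x6b2) (.cj (nat_lit 0x5e3) (nat_lit 1) (nat_lit 0xd693) (.cj (nat_lit 0x27) (nat_lit 1) (nat_lit 0x34) (.cj (nat_lit 0x28) (nat_lit 1) (nat_lit 0x1) (.cj (nat_lit 0x2b) (nat_lit 1) (nat_lit 0x1) (.s2 (.lf (nat_lit 0x10000a0001200084))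
 (.lf (nat_lit 0x1000000006b001a6))))))))
 (.pw (nat_lit 1) (nat_lit 0x6b2)))))
 (.pw (nat_lit 1) (nat_lit 0x31)))
 (.s2 (.cj (nat_lit 0x2c) (nat_lit 1) (nat_lit 0x6b1) (.s2 (.s2 (.cj (nat_lit 0x23) (nat_lit 1) (nat_lit 0x32) (.s2 (.cj (nat_lit 0x21) (nat_lit 1) (nat_lit 0x6b3) (.cj (nat_lit 0xbcc1) (nat_lit 1) (nat_lit 0x35) (.cj (nat_lit 0x2a) (nat_lit 1) (nat_lit 0x1) (.cj (nat_lit 0x2d) (nat_lit 1) (nat_lit 0x1) (.lf (nat_lit 0x10000000e320126e))))))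
 (.cj (nat_lit 0x21) (nat_lit 1) (nat_lit 0x6b3) (.cj (nat_lit 0x25) (nat_lit 1) (nat_lit 0x1) (.cj (nat_lit 0x2a) (nat_lit 1) (nat_lit 0x1) (.pw (nat_lit 1) (nat_lit 0x1)))))))
 (.pw (nat_lit 1) (nat_lit 0x6b2)))
 (.s2 (.cj (nat_lit 0x26) (nat_lit 1) (nat_lit 0x35) (.cj (nat_lit 0x5e3) (nat_lit 1) (nat_lit 0xd693) (.cj (nat_lit 0x27) (nat_lit 1) (nat_lit 0x34) (.cj (nat_lit 0x28) (nat_lit 1) (nat_lit 0x1) (.pw (nat_lit 1) (nat_lit 0x1))))))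
 (.pw (nat_lit 1) (nat_lit 0xd692)))))
 (.pw (nat_lit 1) (nat_lit 0x6b1)))))
 (.pw (nat_lit 1) (nat_lit 0x2e)))
 (.s2 (.cj (nat_lit 0x29) (nat_lit 1) (nat_lit 0x66e) (.cj (nat_lit 0x22) (nat_lit 1) (nat_lit 0x650) (.s2 (.cj (nat_lit 0x26) (nat_lit 1) (nat_lit 0x1) (.s2 (.s2 (.cj (nat_lit 0x2f) (nat_lit 1) (nat_lit 0x32) (.cj (nat_lit 0x586) (nat_lit 1) (nat_lit 0x1) (.s2 (.cj (nat_lit 0x2a) (nat_lit 1) (nat_lit 0x1) (.cj (nat_lit 0x1730c1) (nat_lit 1) (nat_lit 0x35) (.cj (nat_lit 0x27) (nat_lit 1) (nat_lit 0x1) (.lf (nat_lit 0x10000000e3200eae)))))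
 (.cj (nat_lit 0x2a) (nat_lit 1) (nat_lit 0x1) (.cj (nat_lit 0x25) (nat_lit 1) (nat_lit 0x1) (.pw (nat_lit 1) (nat_lit 0x1)))))))
 (.pw (nat_lit 1) (nat_lit 0x32)))
 (.s2 (.cj (nat_lit 0x2f) (nat_lit 1) (nat_lit 0x32) (.cj (nat_lit 0x586) (nat_lit 1) (nat_lit 0x1) (.cj (nat_lit 0x27) (nat_lit 1) (nat_lit 0x34) (.pw (nat_lit 1) (nat_lit 0x1)))))
 (.pw (nat_lit 1) (nat_lit 0x672)))))
 (.pw (nat_lit 1) (nat_lit 0x31)))))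
 (.pw (nat_lit 1) (nat_lit 0x66e))))
 (.s2 (.s2 (.cj (nat_lit 0x29) (nat_lit 1) (nat_lit 0x6b4941ee) (.cj (nat_lit 0x25) (nat_lit 1) (nat_lit 0x1) (.s2 (.cj (nat_lit 0x2c) (nat_lit 1) (nat_lit 0x6b1) (.s2 (.s2 (.cj (nat_lit 0x26) (nat_lit 1) (nat_lit 0x35) (.cj (nat_lit 0x21) (nat_lit 1) (nat_lit 0xd693) (.cj (nat_lit 0x2e) (nat_lit 1) (nat_lit 0x34) (.s2 (.cj (nat_lit 0xbdc6) (nat_lit 1) (nat_lit 0x1) (.cj (nat_lit 0x28) (nat_lit 1) (nat_lit 0x1) (.lf (nat_lit 0x102d4f03bc007bb7))))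
 (.cj (nat_lit 0x5e2) (nat_lit 1) (nat_lit 0x1) (.pw (nat_lit 1) (nat_lit 0x1)))))))
 (.pw (nat_lit 1) (nat_lit 0x6b2)))
 (.s2 (.cj (nat_lit 0x26) (nat_lit 1) (nat_lit 0x35) (.cj (nat_lit 0x21) (nat_lit 1) (nat_lit 0xd693) (.pw (nat_lit 1) (nat_lit 0x34))))
 (.pw (nat_lit 1) (nat_lit 0x6b4)))))
 (.pw (nat_lit 1) (nat_lit 0x6b1)))))
 (.pw (nat_lit 1) (nat_lit 0x35941ee)))
 (.s2 (.cj (nat_lit 0x29) (nat_lit 1) (nat_lit 0x693941ee) (.cj (nat_lit 0x25) (nat_lit 1) (nat_lit 0x1) (.s2 (.cj (nat_lit 0x26) (nat_lit 1) (nat_lit 0x30) (.s2 (.s2 (.cj (nat_lit 0x2a) (nat_lit 1) (nat_lit 0x33) (.cj (nat_lit 0xbd86) (nat_lit 1) (nat_lit 0x32) (.cj (nat_lit 0x5ea) (nat_lit 1) (nat_lit 0x33) (.s2 (.cj (nat_lit 0xbdca) (nat_lit 1) (nat_lit 0x35) (.pw (nat_lit 1) (nat_lit 0x1)))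
 (.cj (nat_lit 0xbca2) (nat_lit 1) (nat_lit 0x1) (.cj (nat_lit 0x28) (nat_lit 1) (nat_lit 0x1) (.lf (nat_lit 0x1002a800af200af4))))))))
 (.pw (nat_lit 1) (nat_lit 0x6b2)))
 (.s2 (.cj (nat_lit 0x2a) (nat_lit 1) (nat_lit 0x33) (.cj (nat_lit 0x5e3) (nat_lit 1) (nat_lit 0x693) (.pw (nat_lit 1) (nat_lit 0x693))))
 (.pw (nat_lit 1) (nat_lit 0x693)))))
 (.pw (nat_lit 1) (nat_lit 0x31)))))
 (.pw (nat_lit 1) (nat_lit 0x6b3941ee))))))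
 (.cj (nat_lit 0x24) (nat_lit 1) (nat_lit 0x549) (.s2 (.cj (nat_lit 0x23) (nat_lit 1) (nat_lit 0xd650) (.s2 (.cj (nat_lit 0x26) (nat_lit 1) (nat_lit 0x1) (.cj (nat_lit 0x27) (nat_lit 1) (nat_lit 0x1) (.s2 (.cj (nat_lit 0x2c) (nat_lit 1) (nat_lit 0x671) (.cj (nat_lit 0x21) (nat_lit 1) (nat_lit 0x35) (.s2 (.cj (nat_lit 0x22) (nat_lit 1) (nat_lit 0x6b2) (.s2 (.s2 (.cj (nat_lit 0x2d) (nat_lit 1) (nat_lit 0x1) (.cj (nat_lit 0x30) (nat_lit 1) (nat_lit 0x1) (.cj (nat_lit 0xa4c1) (nat_lit 1) (nat_lit 0x1) (.lf (nat_lit 0x10000000e3203681)))))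
 (.cj (nat_lit 0x2d) (nat_lit 1) (nat_lit 0x1) (.pw (nat_lit 1) (nat_lit 0x1))))
 (.cj (nat_lit 0x5e2) (nat_lit 1) (nat_lit 0x35) (.pw (nat_lit 1) (nat_lit 0x1)))))
 (.pw (nat_lit 1) (nat_lit 0xd692)))))
 (.pw (nat_lit 1) (nat_lit 0x671)))))
 (.pw (nat_lit 1) (nat_lit 0x2e))))
 (.cj (nat_lit 0x23) (nat_lit 1) (nat_lit 0xd650) (.s2 (.cj (nat_lit 0x26) (nat_lit 1) (nat_lit 0xd690) (.pw (nat_lit 1) (nat_lit 0x1)))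
 (.pw (nat_lit 1) (nat_lit 0xd69283dcb)))))))
 (.s2 (.pw (nat_lit 1) (nat_lit 0x1))
 (.pw (nat_lit 1) (nat_lit 0x5c9))))
 (.s2 (.s2 (.cj (nat_lit 0x24) (nat_lit 1) (nat_lit 0x6b283dac) (.cj (nat_lit 0x22) (nat_lit 1) (nat_lit 0xd650) (.cj (nat_lit 0x25) (nat_lit 1) (nat_lit 0x1) (.s2 (.cj (nat_lit 0x29) (nat_lit 1) (nat_lit 0x338b9ac) (.s2 (.s2 (.cj (nat_lit 0x2a) (nat_lit 1) (nat_lit 0x1) (.s2 (.s2 (.pw (nat_lit 1) (nat_lit 0x6b2))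
 (.cj (nat_lit 0x23) (nat_lit 1) (nat_lit 0x32) (.cj (nat_lit 0x21) (nat_lit 1) (nat_lit 0xd693) (.cj (nat_lit 0x17b986) (nat_lit 1) (nat_lit 0x693) (.cj (nat_lit 0xb98a) (nat_lit 1) (nat_lit 0x1) (.s2 (.pw (nat_lit 1) (nat_lit 0x1))
 (.cj (nat_lit 0x28) (nat_lit 1) (nat_lit 0x1) (.lf (nat_lit 0x104cdc0735807bb7)))))))))
 (.s2 (.pw (nat_lit 1) (nat_lit 0x1a4e51))
 (.cj (nat_lit 0x2f) (nat_lit 1) (nat_lit 0x32) (.pw (nat_lit 1) (nat_lit 0x693))))))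
 (.pw (nat_lit 1) (nat_lit 0xca30)))
 (.s2 (.cj (nat_lit 0x26) (nat_lit 1) (nat_lit 0x6b2) (.s2 (.s2 (.pw (nat_lit 1) (nat_lit 0x32))
 (.cj (nat_lit 0x2f) (nat_lit 1) (nat_lit 0x32) (.cj (nat_lit 0x2e) (nat_lit 1) (nat_lit 0x33) (.cj (nat_lit 0x5c1) (nat_lit 1) (nat_lit 0xd693) (.cj (nat_lit 0xb986) (nat_lit 1) (nat_lit 0x35) (.s2 (.cj (nat_lit 0x28) (nat_lit 1) (nat_lit 0x1) (.lf (nat_lit 0x102b100372607bb7)))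
 (.pw (nat_lit 1) (nat_lit 0x1))))))))
 (.s2 (.pw (nat_lit 1) (nat_lit 0xce51))
 (.cj (nat_lit 0x2f) (nat_lit 1) (nat_lit 0x32) (.pw (nat_lit 1) (nat_lit 0x33))))))
 (.pw (nat_lit 1) (nat_lit 0xca30)))))
 (.pw (nat_lit 1) (nat_lit 0xd251839ac))))))
 (.cj (nat_lit 0x24) (nat_lit 1) (nat_lit 0x6b283d49) (.cj (nat_lit 0x22) (nat_lit 1) (nat_lit 0xd650) (.pw (nat_lit 1) (nat_lit 0xd650)))))
 (.s2 (.pw (nat_lit 1) (nat_lit 0x358bdac))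
 (.pw (nat_lit 1) (nat_lit 0x357b928)))))]
theorem hj0 : jobsChk 2 22 T pb (lf2 F24.cd om T gb 22 4) js0 = true := by decide +kernel

noncomputable def js1 : List Job := [([nat_lit 2, nat_lit 0], nat_lit 3, .s2 (.s2 (.s2 (.cj (nat_lit 0x24) (nat_lit 1) (nat_lit 0xd60f) (.cj (nat_lit 0x23) (nat_lit 1) (nat_lit 0xd650) (.s2 (.s2 (.cj (nat_lit 0x29) (nat_lit 1) (nat_lit 0x68e) (.cj (nat_lit 0x28) (nat_lit 1) (nat_lit 0x35) (.s2 (.cj (nat_lit 0x2c) (nat_lit 1) (nat_lit 0x19460f) (.cj (nat_lit 0x21) (nat_lit 1) (nat_lit 0x1ad270) (.s2 (.pw (nat_lit 1) (nat_lit 0x6b2))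
 (.cj (nat_lit 0x26) (nat_lit 1) (nat_lit 0x35) (.s2 (.cj (nat_lit 0x31) (nat_lit 1) (nat_lit 0x35) (.s2 (.cj (nat_lit 0x25) (nat_lit 1) (nat_lit 0x1) (.cj (nat_lit 0xc5e6) (nat_lit 1) (nat_lit 0x1) (.lf (nat_lit 0x1000000157501581))))
 (.pw (nat_lit 1) (nat_lit 0x1))))
 (.pw (nat_lit 1) (nat_lit 0x35)))))))
 (.pw (nat_lit 1) (nat_lit 0xd62f)))))
 (.pw (nat_lit 1) (nat_lit 0x1aca0e)))
 (.s2 (.cj (nat_lit 0x29) (nat_lit 1) (nat_lit 0x66e) (.pw (nat_lit 1) (nat_lit 0x650)))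
 (.pw (nat_lit 1) (nat_lit 0x693941cb))))))
 (.cj (nat_lit 0x24) (nat_lit 1) (nat_lit 0x6b483d49) (.cj (nat_lit 0x23) (nat_lit 1) (nat_lit 0x3594168) (.s2 (.s2 (.cj (nat_lit 0x29) (nat_lit 1) (nat_lit 0x68e) (.cj (nat_lit 0x27) (nat_lit 1) (nat_lit 0x1) (.s2 (.cj (nat_lit 0x2c) (nat_lit 1) (nat_lit 0x6939460f) (.cj (nat_lit 0x526) (nat_lit 1) (nat_lit 0x1ad250) (.s2 (.pw (nat_lit 1) (nat_lit 0x6b2))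
 (.cj (nat_lit 0x22) (nat_lit 1) (nat_lit 0x6b2) (.s2 (.cj (nat_lit 0x21) (nat_lit 1) (nat_lit 0x6b3) (.s2 (.pw (nat_lit 1) (nat_lit 0x1))
 (.cj (nat_lit 0x25) (nat_lit 1) (nat_lit 0x1) (.cj (nat_lit 0x507) (nat_lit 1) (nat_lit 0x1) (.lf (nat_lit 0x10029c00cb300cb5))))))
 (.pw (nat_lit 1) (nat_lit 0x6b3)))))))
 (.pw (nat_lit 1) (nat_lit 0x35a4e2f)))))
 (.pw (nat_lit 1) (nat_lit 0x1aca0e)))
 (.s2 (.cj (nat_lit 0x29) (nat_lit 1) (nat_lit 0x66e) (.pw (nat_lit 1) (nat_lit 0x650)))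
 (.pw (nat_lit 1) (nat_lit 0x693941cb)))))))
 (.s2 (.pw (nat_lit 1) (nat_lit 0x64f))
 (.pw (nat_lit 1) (nat_lit 0x193dc9))))
 (.s2 (.s2 (.cj (nat_lit 0x24) (nat_lit 1) (nat_lit 0x6b283dac) (.pw (nat_lit 1) (nat_lit 0x1)))
 (.cj (nat_lit 0x24) (nat_lit 1) (nat_lit 0x1a4949) (.pw (nat_lit 1) (nat_lit 0x6a8))))
 (.s2 (.pw (nat_lit 1) (nat_lit 0x328b587))
 (.pw (nat_lit 1) (nat_lit 0x68f72507)))))]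
theorem hj1 : jobsChk 2 22 T pb (lf2 F24.cd om T gb 22 4) js1 = true := by decide +kernel

noncomputable def js2 : List Job := [([nat_lit 1, nat_lit 0], nat_lit 8, .s2 (.s2 (.s2 (.s2 (.s2 (.s2 (.cj (nat_lit 0x25) (nat_lit 1) (nat_lit 0x35) (.s2 (.s2 (.cj (nat_lit 0x23) (nat_lit 1) (nat_lit 0xd693) (.cj (nat_lit 0x2b) (nat_lit 1) (nat_lit 0x6b3) (.s2 (.s2 (.s2 (.lf (nat_lit 0x10006b))
 (.lf (nat_lit 0x100092002a100db6)))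
 (.cj (nat_lit 0x503) (nat_lit 1) (nat_lit 0x1) (.lf (nat_lit 0x1001a6001b9002a1))))
 (.cj (nat_lit 0xaca2) (nat_lit 1) (nat_lit 0x1) (.cj (nat_lit 0x507) (nat_lit 1) (nat_lit 0x1) (.lf (nat_lit 0x100092001a600298)))))))
 (.cj (nat_lit 0x23) (nat_lit 1) (nat_lit 0x693) (.cj (nat_lit 0x24) (nat_lit 1) (nat_lit 0x1) (.cj (nat_lit 0x564) (nat_lit 1) (nat_lit 0x35) (.cj (nat_lit 0x29) (nat_lit 1) (nat_lit 0x1) (.cj (nat_lit 0x2c) (nat_lit 1) (nat_lit 0x1) (.lf (nat_lit 0x10006b0006d002b5))))))))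
 (.cj (nat_lit 0x20) (nat_lit 1) (nat_lit 0x6b2) (.cj (nat_lit 0x23) (nat_lit 1) (nat_lit 0x693) (.cj (nat_lit 0x26) (nat_lit 1) (nat_lit 0x1) (.cj (nat_lit 0x566) (nat_lit 1) (nat_lit 0x35) (.cj (nat_lit 0x2a) (nat_lit 1) (nat_lit 0x1) (.cj (nat_lit 0x2d) (nat_lit 1) (nat_lit 0x1) (.lf (nat_lit 0x10006b34e223ef51))))))))))
 (.cj (nat_lit 0x25) (nat_lit 1) (nat_lit 0x6b3) (.s2 (.cj (nat_lit 0x4a2) (nat_lit 1) (nat_lit 0xd692) (.cj (nat_lit 0x24) (nat_lit 1) (nat_lit 0x1) (.cj (nat_lit 0x2b) (nat_lit 1) (nat_lit 0x33) (.cj (nat_lit 0x29) (nat_lit 1) (nat_lit 0x1) (.cj (nat_lit 0xa504) (nat_lit 1) (nat_lit 0x35) (.cj (nat_lit 0x2f) (nat_lit 1) (nat_lit 0x1) (.lf (nat_lit 0x10000a0006b002b5))))))))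
 (.cj (nat_lit 0x20) (nat_lit 1) (nat_lit 0x6b2) (.cj (nat_lit 0x24) (nat_lit 1) (nat_lit 0x1) (.cj (nat_lit 0x26) (nat_lit 1) (nat_lit 0x1) (.cj (nat_lit 0x29) (nat_lit 1) (nat_lit 0x1) (.cj (nat_lit 0x2a) (nat_lit 1) (nat_lit 0x1) (.pw (nat_lit 1) (nat_lit 0x1))))))))))
 (.cj (nat_lit 0x20) (nat_lit 1) (nat_lit 0x31) (.cj (nat_lit 0x25) (nat_lit 1) (nat_lit 0x6b3) (.cj (nat_lit 0x4a2) (nat_lit 1) (nat_lit 0xd692) (.s2 (.cj (nat_lit 0x26) (nat_lit 1) (nat_lit 0x1) (.cj (nat_lit 0x2b) (nat_lit 1) (nat_lit 0x33) (.cj (nat_lit 0x2a) (nat_lit 1) (nat_lit 0x1) (.cj (nat_lit 0xa906) (nat_lit 1) (nat_lit 0x35) (.cj (nat_lit 0x30) (nat_lit 1) (nat_lit 0x1) (.lf (nat_lit 0x10006b34e22406b1)))))))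
 (.cj (nat_lit 0x26) (nat_lit 1) (nat_lit 0x1) (.cj (nat_lit 0x24) (nat_lit 1) (nat_lit 0x1) (.cj (nat_lit 0x2a) (nat_lit 1) (nat_lit 0x1) (.cj (nat_lit 0x29) (nat_lit 1) (nat_lit 0x1) (.pw (nat_lit 1) (nat_lit 0x1)))))))))))
 (.s2 (.s2 (.cj (nat_lit 0x25) (nat_lit 1) (nat_lit 0x35) (.cj (nat_lit 0x24) (nat_lit 1) (nat_lit 0x1) (.cj (nat_lit 0x26) (nat_lit 1) (nat_lit 0x35) (.cj (nat_lit 0x23) (nat_lit 1) (nat_lit 0x693) (.pw (nat_lit 1) (nat_lit 0x6b3))))))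
 (.cj (nat_lit 0x25) (nat_lit 1) (nat_lit 0x6b3) (.cj (nat_lit 0x24) (nat_lit 1) (nat_lit 0x6b1) (.cj (nat_lit 0x26) (nat_lit 1) (nat_lit 0x35) (.cj (nat_lit 0x23) (nat_lit 1) (nat_lit 0x693) (.pw (nat_lit 1) (nat_lit 0x33)))))))
 (.cj (nat_lit 0x20) (nat_lit 1) (nat_lit 0x31) (.cj (nat_lit 0x25) (nat_lit 1) (nat_lit 0x6b3) (.cj (nat_lit 0x24) (nat_lit 1) (nat_lit 0x1) (.cj (nat_lit 0x26) (nat_lit 1) (nat_lit 0x31) (.cj (nat_lit 0x23) (nat_lit 1) (nat_lit 0x693) (.pw (nat_lit 1) (nat_lit 0x33)))))))))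
 (.s2 (.s2 (.cj (nat_lit 0x23) (nat_lit 1) (nat_lit 0x1ad271) (.cj (nat_lit 0x24) (nat_lit 1) (nat_lit 0x1) (.s2 (.cj (nat_lit 0x27) (nat_lit 1) (nat_lit 0xd271) (.cj (nat_lit 0x28) (nat_lit 1) (nat_lit 0x6b4) (.cj (nat_lit 0x2b) (nat_lit 1) (nat_lit 0xd693) (.cj (nat_lit 0x2c) (nat_lit 1) (nat_lit 0x1) (.cj (nat_lit 0x2f) (nat_lit 1) (nat_lit 0x1) (.cj (nat_lit 0x4a4) (nat_lit 1) (nat_lit 0x1) (.lf (nat_lit 0x10000a0006b00084))))))))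
 (.cj (nat_lit 0x20) (nat_lit 1) (nat_lit 0x6b2) (.cj (nat_lit 0x28) (nat_lit 1) (nat_lit 0x34) (.cj (nat_lit 0x26) (nat_lit 1) (nat_lit 0x1) (.cj (nat_lit 0x2c) (nat_lit 1) (nat_lit 0x1) (.pw (nat_lit 1) (nat_lit 0x1)))))))))
 (.cj (nat_lit 0x20) (nat_lit 1) (nat_lit 0x31) (.cj (nat_lit 0x24) (nat_lit 1) (nat_lit 0x1) (.cj (nat_lit 0x4a2) (nat_lit 1) (nat_lit 0x6b2) (.cj (nat_lit 0x27) (nat_lit 1) (nat_lit 0x1ad271) (.cj (nat_lit 0x26) (nat_lit 1) (nat_lit 0x1) (.cj (nat_lit 0x2b) (nat_lit 1) (nat_lit 0x693) (.pw (nat_lit 1) (nat_lit 0x1)))))))))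
 (.s2 (.cj (nat_lit 0x23) (nat_lit 1) (nat_lit 0xd271) (.cj (nat_lit 0x25) (nat_lit 1) (nat_lit 0x35) (.cj (nat_lit 0x4a4) (nat_lit 1) (nat_lit 0x6b4) (.cj (nat_lit 0x26) (nat_lit 1) (nat_lit 0x35) (.cj (nat_lit 0x28) (nat_lit 1) (nat_lit 0x6b4) (.pw (nat_lit 1) (nat_lit 0xd693)))))))
 (.cj (nat_lit 0x20) (nat_lit 1) (nat_lit 0x31) (.cj (nat_lit 0x24) (nat_lit 1) (nat_lit 0x68f) (.cj (nat_lit 0x4a2) (nat_lit 1) (nat_lit 0x6b2) (.cj (nat_lit 0x26) (nat_lit 1) (nat_lit 0x31) (.cj (nat_lit 0x28) (nat_lit 1) (nat_lit 0x6b4) (.pw (nat_lit 1) (nat_lit 0x34))))))))))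
 (.cj (nat_lit 0x20) (nat_lit 1) (nat_lit 0x2e) (.s2 (.cj (nat_lit 0x23) (nat_lit 1) (nat_lit 0x1ad271) (.s2 (.cj (nat_lit 0x26) (nat_lit 1) (nat_lit 0x1) (.cj (nat_lit 0x27) (nat_lit 1) (nat_lit 0x1ad271) (.s2 (.cj (nat_lit 0x28) (nat_lit 1) (nat_lit 0x6b4) (.cj (nat_lit 0x2b) (nat_lit 1) (nat_lit 0xd693) (.cj (nat_lit 0x2d) (nat_lit 1) (nat_lit 0x1) (.cj (nat_lit 0x30) (nat_lit 1) (nat_lit 0x1) (.cj (nat_lit 0x4c5) (nat_lit 1) (nat_lit 0x1) (.lf (nat_lit 0x10006b34e2246b3a)))))))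
 (.cj (nat_lit 0x28) (nat_lit 1) (nat_lit 0x34) (.cj (nat_lit 0x24) (nat_lit 1) (nat_lit 0x1) (.cj (nat_lit 0x2d) (nat_lit 1) (nat_lit 0x1) (.pw (nat_lit 1) (nat_lit 0x1))))))))
 (.cj (nat_lit 0x26) (nat_lit 1) (nat_lit 0x1) (.cj (nat_lit 0x27) (nat_lit 1) (nat_lit 0xd271) (.cj (nat_lit 0x4c2) (nat_lit 1) (nat_lit 0x672) (.cj (nat_lit 0x24) (nat_lit 1) (nat_lit 0x1) (.cj (nat_lit 0x2b) (nat_lit 1) (nat_lit 0x693) (.pw (nat_lit 1) (nat_lit 0x1)))))))))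
 (.cj (nat_lit 0x23) (nat_lit 1) (nat_lit 0xd271) (.s2 (.cj (nat_lit 0x25) (nat_lit 1) (nat_lit 0x35) (.cj (nat_lit 0x24) (nat_lit 1) (nat_lit 0x1) (.cj (nat_lit 0x4c5) (nat_lit 1) (nat_lit 0x1) (.cj (nat_lit 0x28) (nat_lit 1) (nat_lit 0x6b4) (.pw (nat_lit 1) (nat_lit 0xd693))))))
 (.cj (nat_lit 0x25) (nat_lit 1) (nat_lit 0x6b3) (.cj (nat_lit 0x24) (nat_lit 1) (nat_lit 0x6b1) (.cj (nat_lit 0x4c5) (nat_lit 1) (nat_lit 0x33) (.cj (nat_lit 0x28) (nat_lit 1) (nat_lit 0x6b4) (.pw (nat_lit 1) (nat_lit 0x34)))))))))))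
 (.s2 (.s2 (.cj (nat_lit 0x22) (nat_lit 1) (nat_lit 0x68e) (.cj (nat_lit 0x24) (nat_lit 1) (nat_lit 0x1) (.cj (nat_lit 0x26) (nat_lit 1) (nat_lit 0x1) (.cj (nat_lit 0x25) (nat_lit 1) (nat_lit 0x35) (.s2 (.s2 (.pw (nat_lit 1) (nat_lit 0xd693))
 (.pw (nat_lit 1) (nat_lit 0x693)))
 (.cj (nat_lit 0x20) (nat_lit 1) (nat_lit 0x6b2) (.pw (nat_lit 1) (nat_lit 0x693))))))))
 (.cj (nat_lit 0x22) (nat_lit 1) (nat_lit 0x68e) (.cj (nat_lit 0x24) (nat_lit 1) (nat_lit 0x66e) (.cj (nat_lit 0x26) (nat_lit 1) (nat_lit 0x1) (.cj (nat_lit 0x25) (nat_lit 1) (nat_lit 0x35) (.s2 (.cj (nat_lit 0x27) (nat_lit 1) (nat_lit 0xd271) (.pw (nat_lit 1) (nat_lit 0x6b4)))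
 (.cj (nat_lit 0x20) (nat_lit 1) (nat_lit 0x6b2) (.pw (nat_lit 1) (nat_lit 0x1)))))))))
 (.cj (nat_lit 0x20) (nat_lit 1) (nat_lit 0x2e) (.cj (nat_lit 0x22) (nat_lit 1) (nat_lit 0x2e) (.cj (nat_lit 0x24) (nat_lit 1) (nat_lit 0x1) (.cj (nat_lit 0x26) (nat_lit 1) (nat_lit 0x66e) (.cj (nat_lit 0x25) (nat_lit 1) (nat_lit 0x35) (.cj (nat_lit 0x27) (nat_lit 1) (nat_lit 0x1ad271) (.s2 (.pw (nat_lit 1) (nat_lit 0x6b4))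
 (.pw (nat_lit 1) (nat_lit 0x1)))))))))))]
theorem hj2 : jobsChk 2 22 T pb (lf2 F24.cd om T gb 22 4) js2 = true := by decide +kernel

noncomputable def js3 : List Job := [([nat_lit 7, nat_lit 1, nat_lit 0], nat_lit 8, .s2 (.s2 (.s2 (.cj (nat_lit 0x25) (nat_lit 1) (nat_lit 0xce4e) (.s2 (.s2 (.cj (nat_lit 0x22) (nat_lit 1) (nat_lit 0xd272) (.cj (nat_lit 0x24) (nat_lit 1) (nat_lit 0x1) (.cj (nat_lit 0x26) (nat_lit 1) (nat_lit 0x35) (.pw (nat_lit 1) (nat_lit 0xd693)))))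
 (.cj (nat_lit 0x22) (nat_lit 1) (nat_lit 0x1a4e50) (.cj (nat_lit 0x24) (nat_lit 1) (nat_lit 0x6b1) (.cj (nat_lit 0x26) (nat_lit 1) (nat_lit 0x35) (.pw (nat_lit 1) (nat_lit 0x693))))))
 (.cj (nat_lit 0x20) (nat_lit 1) (nat_lit 0x31) (.cj (nat_lit 0x22) (nat_lit 1) (nat_lit 0x1a4e4f) (.cj (nat_lit 0x24) (nat_lit 1) (nat_lit 0x1) (.cj (nat_lit 0x26) (nat_lit 1) (nat_lit 0x31) (.pw (nat_lit 1) (nat_lit 0x693))))))))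
 (.cj (nat_lit 0x25) (nat_lit 1) (nat_lit 0xce4e) (.s2 (.cj (nat_lit 0x23) (nat_lit 1) (nat_lit 0xd271) (.cj (nat_lit 0x22) (nat_lit 1) (nat_lit 0xd272) (.cj (nat_lit 0x29) (nat_lit 1) (nat_lit 0x1) (.pw (nat_lit 1) (nat_lit 0xd271)))))
 (.cj (nat_lit 0x20) (nat_lit 1) (nat_lit 0x31) (.cj (nat_lit 0x22) (nat_lit 1) (nat_lit 0xce4f) (.cj (nat_lit 0x29) (nat_lit 1) (nat_lit 0x1) (.pw (nat_lit 1) (nat_lit 0xd691))))))))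
 (.cj (nat_lit 0x20) (nat_lit 1) (nat_lit 0x35a4a0e) (.cj (nat_lit 0x25) (nat_lit 1) (nat_lit 0xce4e) (.cj (nat_lit 0x23) (nat_lit 1) (nat_lit 0xd271) (.s2 (.cj (nat_lit 0x22) (nat_lit 1) (nat_lit 0x672) (.pw (nat_lit 1) (nat_lit 0x1ad271)))
 (.cj (nat_lit 0x22) (nat_lit 1) (nat_lit 0x1a4e50) (.pw (nat_lit 1) (nat_lit 0x691))))))))
 (.s2 (.s2 (.cj (nat_lit 0x22) (nat_lit 1) (nat_lit 0x68e) (.cj (nat_lit 0x24) (nat_lit 1) (nat_lit 0x6af) (.cj (nat_lit 0x26) (nat_lit 1) (nat_lit 0x30) (.s2 (.cj (nat_lit 0x29) (nat_lit 1) (nat_lit 0x6b3) (.cj (nat_lit 0x2a) (nat_lit 1) (nat_lit 0x33) (.cj (nat_lit 0x27) (nat_lit 1) (nat_lit 0x693) (.cj (nat_lit 0x2b) (nat_lit 1) (nat_lit 0x6b3) (.s2 (.cj (nat_lit 0x5cb) (nat_lit 1) (nat_lit 0x1) (.pw (nat_lit 1) (nat_lit 0x1)))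
 (.cj (nat_lit 0x5cb) (nat_lit 1) (nat_lit 0x1) (.cj (nat_lit 0x2c) (nat_lit 1) (nat_lit 0x1) (.lf (nat_lit 0x1007d500af100db6)))))))))
 (.cj (nat_lit 0x29) (nat_lit 1) (nat_lit 0x6b3) (.cj (nat_lit 0x2a) (nat_lit 1) (nat_lit 0x33) (.cj (nat_lit 0x28) (nat_lit 1) (nat_lit 0x6b4) (.pw (nat_lit 1) (nat_lit 0x693)))))))))
 (.cj (nat_lit 0x22) (nat_lit 1) (nat_lit 0x68e) (.cj (nat_lit 0x24) (nat_lit 1) (nat_lit 0x349c9ee) (.cj (nat_lit 0x26) (nat_lit 1) (nat_lit 0x30) (.s2 (.cj (nat_lit 0x29) (nat_lit 1) (nat_lit 0x6b3) (.pw (nat_lit 1) (nat_lit 0x6b3)))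
 (.cj (nat_lit 0x29) (nat_lit 1) (nat_lit 0x6b3) (.pw (nat_lit 1) (nat_lit 0x692))))))))
 (.cj (nat_lit 0x20) (nat_lit 1) (nat_lit 0x35a4a0e) (.cj (nat_lit 0x22) (nat_lit 1) (nat_lit 0x2e) (.cj (nat_lit 0x24) (nat_lit 1) (nat_lit 0x6af) (.cj (nat_lit 0x26) (nat_lit 1) (nat_lit 0x6b49ca0e) (.s2 (.pw (nat_lit 1) (nat_lit 0x33))
 (.pw (nat_lit 1) (nat_lit 0xd692))))))))),
 ([nat_lit 6, nat_lit 1, nat_lit 0], nat_lit 7, .s2 (.s2 (.s2 (.cj (nat_lit 0x25) (nat_lit 1) (nat_lit 0x6ae) (.s2 (.s2 (.cj (nat_lit 0x28) (nat_lit 1) (nat_lit 0x1ad271) (.cj (nat_lit 0x29) (nat_lit 1) (nat_lit 0x1) (.s2 (.cj (nat_lit 0x2b) (nat_lit 1) (nat_lit 0x672) (.cj (nat_lit 0x2c) (nat_lit 1) (nat_lit 0x1) (.cj (nat_lit 0x2f) (nat_lit 1) (nat_lit 0x1) (.cj (nat_lit 0xad03) (nat_lit 1) (nat_lit 0x35) (.cj (nat_lit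 0x17b167) (nat_lit 1) (nat_lit 0x35) (.cj (nat_lit 0x17ad22) (nat_lit 1) (nat_lit 0x1) (.lf (nat_lit 0x1000000000a0006b))))))))
 (.cj (nat_lit 0x20) (nat_lit 1) (nat_lit 0x6b2) (.cj (nat_lit 0x2c) (nat_lit 1) (nat_lit 0x1) (.pw (nat_lit 1) (nat_lit 0x1)))))))
 (.cj (nat_lit 0x20) (nat_lit 1) (nat_lit 0x31) (.cj (nat_lit 0x29) (nat_lit 1) (nat_lit 0x1) (.cj (nat_lit 0x522) (nat_lit 1) (nat_lit 0x1ace50) (.cj (nat_lit 0x2b) (nat_lit 1) (nat_lit 0xd672) (.pw (nat_lit 1) (nat_lit 0x1)))))))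
 (.s2 (.cj (nat_lit 0x28) (nat_lit 1) (nat_lit 0x1ad271) (.cj (nat_lit 0x29) (nat_lit 1) (nat_lit 0x34) (.cj (nat_lit 0x24) (nat_lit 1) (nat_lit 0x32) (.pw (nat_lit 1) (nat_lit 0x672)))))
 (.cj (nat_lit 0x20) (nat_lit 1) (nat_lit 0x31) (.cj (nat_lit 0x29) (nat_lit 1) (nat_lit 0x34) (.cj (nat_lit 0x24) (nat_lit 1) (nat_lit 0x32) (.pw (nat_lit 1) (nat_lit 0xce51))))))))
 (.cj (nat_lit 0x20) (nat_lit 1) (nat_lit 0x2e) (.s2 (.cj (nat_lit 0x23) (nat_lit 1) (nat_lit 0x349ca0d) (.cj (nat_lit 0x28) (nat_lit 1) (nat_lit 0xd691) (.pw (nat_lit 1) (nat_lit 0x1))))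
 (.cj (nat_lit 0x23) (nat_lit 1) (nat_lit 0x6b49ca0d) (.cj (nat_lit 0x28) (nat_lit 1) (nat_lit 0xd691) (.pw (nat_lit 1) (nat_lit 0xce50)))))))
 (.s2 (.cj (nat_lit 0x25) (nat_lit 1) (nat_lit 0x6ae) (.cj (nat_lit 0x22) (nat_lit 1) (nat_lit 0xd24e) (.cj (nat_lit 0x24) (nat_lit 1) (nat_lit 0x31) (.pw (nat_lit 1) (nat_lit 0x1ad271)))))
 (.cj (nat_lit 0x20) (nat_lit 1) (nat_lit 0x2e) (.cj (nat_lit 0x22) (nat_lit 1) (nat_lit 0x64e) (.cj (nat_lit 0x24) (nat_lit 1) (nat_lit 0x31) (.pw (nat_lit 1) (nat_lit 0x35a4e2e)))))))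
 (.s2 (.s2 (.cj (nat_lit 0x25) (nat_lit 1) (nat_lit 0xd693941cb) (.s2 (.s2 (.cj (nat_lit 0x28) (nat_lit 1) (nat_lit 0xd271) (.cj (nat_lit 0x29) (nat_lit 1) (nat_lit 0x64f) (.cj (nat_lit 0x24) (nat_lit 1) (nat_lit 0x32) (.pw (nat_lit 1) (nat_lit 0xd271)))))
 (.cj (nat_lit 0x20) (nat_lit 1) (nat_lit 0x31) (.cj (nat_lit 0x29) (nat_lit 1) (nat_lit 0x64f) (.cj (nat_lit 0x24) (nat_lit 1) (nat_lit 0x32) (.pw (nat_lit 1) (nat_lit 0x693))))))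
 (.s2 (.cj (nat_lit 0x28) (nat_lit 1) (nat_lit 0xd271) (.cj (nat_lit 0x29) (nat_lit 1) (nat_lit 0xd24f) (.cj (nat_lit 0x522) (nat_lit 1) (nat_lit 0x35a4e50) (.cj (nat_lit 0x2a) (nat_lit 1) (nat_lit 0x6b4) (.pw (nat_lit 1) (nat_lit 0xd692))))))
 (.cj (nat_lit 0x20) (nat_lit 1) (nat_lit 0x31) (.cj (nat_lit 0x29) (nat_lit 1) (nat_lit 0xd24f) (.s2 (.cj (nat_lit 0x2a) (nat_lit 1) (nat_lit 0x693) (.cj (nat_lit 0x26) (nat_lit 1) (nat_lit 0x1) (.pw (nat_lit 1) (nat_lit 0x6b4))))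
 (.cj (nat_lit 0x2a) (nat_lit 1) (nat_lit 0x33) (.cj (nat_lit 0x2c) (nat_lit 1) (nat_lit 0x1) (.cj (nat_lit 0x2e) (nat_lit 1) (nat_lit 0x1) (.cj (nat_lit 0xad03) (nat_lit 1) (nat_lit 0x1) (.pw (nat_lit 1) (nat_lit 0x35))))))))))))
 (.cj (nat_lit 0x20) (nat_lit 1) (nat_lit 0x35a4a0e) (.cj (nat_lit 0x4a0) (nat_lit 1) (nat_lit 0x693) (.cj (nat_lit 0x23) (nat_lit 1) (nat_lit 0x6b49ca0d) (.cj (nat_lit 0x28) (nat_lit 1) (nat_lit 0xd691) (.pw (nat_lit 1) (nat_lit 0x339460f)))))))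
 (.s2 (.cj (nat_lit 0x25) (nat_lit 1) (nat_lit 0xd693941cb) (.cj (nat_lit 0x22) (nat_lit 1) (nat_lit 0xd24e) (.cj (nat_lit 0x24) (nat_lit 1) (nat_lit 0x1aca2f) (.pw (nat_lit 1) (nat_lit 0x6b0)))))
 (.cj (nat_lit 0x20) (nat_lit 1) (nat_lit 0x35a4a0e) (.cj (nat_lit 0x22) (nat_lit 1) (nat_lit 0x64e) (.cj (nat_lit 0x24) (nat_lit 1) (nat_lit 0x1aca2f) (.pw (nat_lit 1) (nat_lit 0x34941ee)))))))),
 ([nat_lit 5, nat_lit 1, nat_lit 0], nat_lit 6, .s2 (.s2 (.cj (nat_lit 0x23) (nat_lit 1) (nat_lit 0x1) (.cj (nat_lit 0x24) (nat_lit 1) (nat_lit 0x1) (.cj (nat_lit 0x26) (nat_lit 1) (nat_lit 0x1) (.cj (nat_lit 0x27) (nat_lit 1) (nat_lit 0xd251) (.s2 (.s2 (.pw (nat_lit 1) (nat_lit 0x35))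
 (.pw (nat_lit 1) (nat_lit 0x6b3)))
 (.cj (nat_lit 0x20) (nat_lit 1) (nat_lit 0x31) (.pw (nat_lit 1) (nat_lit 0x6b3))))))))
 (.cj (nat_lit 0x23) (nat_lit 1) (nat_lit 0x1) (.cj (nat_lit 0x24) (nat_lit 1) (nat_lit 0x68f) (.cj (nat_lit 0x26) (nat_lit 1) (nat_lit 0xd690) (.pw (nat_lit 1) (nat_lit 0xd22e))))))
 (.s2 (.cj (nat_lit 0x23) (nat_lit 1) (nat_lit 0x359ca0d) (.cj (nat_lit 0x24) (nat_lit 1) (nat_lit 0x1) (.pw (nat_lit 1) (nat_lit 0x6ae))))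
 (.cj (nat_lit 0x23) (nat_lit 1) (nat_lit 0x359ca0d) (.cj (nat_lit 0x24) (nat_lit 1) (nat_lit 0x64f) (.pw (nat_lit 1) (nat_lit 0xc5cb))))))]
theorem hj3 : jobsChk 2 22 T pb (lf2 F24.cd om T gb 22 4) js3 = true := by decide +kernel

noncomputable def js4 : List Job := [([nat_lit 4, nat_lit 1, nat_lit 0], nat_lit 5, .s2 (.cj (nat_lit 0x20) (nat_lit 1) (nat_lit 0x1) (.s2 (.s2 (.cj (nat_lit 0x25) (nat_lit 1) (nat_lit 0x6ae) (.s2 (.s2 (.cj (nat_lit 0x28) (nat_lit 1) (nat_lit 0x1ad271) (.s2 (.cj (nat_lit 0x2a) (nat_lit 1) (nat_lit 0x1) (.cj (nat_lit 0x503) (nat_lit 1) (nat_lit 0x32) (.s2 (.cj (nat_lit 0x2d) (nat_lit 1) (nat_lit 0x1) (.cj (nat_lit 0x30) (nat_lit 1) (nat_lit 0x1) (.cj (nat_lit 0xad03) (nat_lit 1) (nat_lit 0x35) (.cj (nat_lit 0x183567) (nat_lit 1) (nat_lit 0x35) (.cj (nat_lit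 0xad42) (nat_lit 1) (nat_lit 0x1) (.lf (nat_lit 0x10006b34e22405c3)))))))
 (.cj (nat_lit 0x2d) (nat_lit 1) (nat_lit 0x1) (.pw (nat_lit 1) (nat_lit 0x1))))))
 (.cj (nat_lit 0x2a) (nat_lit 1) (nat_lit 0x1) (.cj (nat_lit 0x2b) (nat_lit 1) (nat_lit 0x672) (.cj (nat_lit 0xad42) (nat_lit 1) (nat_lit 0x32) (.pw (nat_lit 1) (nat_lit 0x1)))))))
 (.cj (nat_lit 0x28) (nat_lit 1) (nat_lit 0x1ad271) (.s2 (.cj (nat_lit 0x2a) (nat_lit 1) (nat_lit 0x34) (.pw (nat_lit 1) (nat_lit 0xd672)))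
 (.cj (nat_lit 0x2a) (nat_lit 1) (nat_lit 0x34) (.pw (nat_lit 1) (nat_lit 0x1ace51))))))
 (.s2 (.cj (nat_lit 0x28) (nat_lit 1) (nat_lit 0xd691) (.cj (nat_lit 0x503) (nat_lit 1) (nat_lit 0x19ca2f) (.pw (nat_lit 1) (nat_lit 0x1))))
 (.cj (nat_lit 0x28) (nat_lit 1) (nat_lit 0xd691) (.cj (nat_lit 0x503) (nat_lit 1) (nat_lit 0x359ca2f) (.pw (nat_lit 1) (nat_lit 0x1ace4f)))))))
 (.cj (nat_lit 0x25) (nat_lit 1) (nat_lit 0x6ae) (.s2 (.cj (nat_lit 0x22) (nat_lit 1) (nat_lit 0x68e) (.pw (nat_lit 1) (nat_lit 0x1ad271)))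
 (.cj (nat_lit 0x22) (nat_lit 1) (nat_lit 0x68e) (.pw (nat_lit 1) (nat_lit 0x35a4e2e))))))
 (.s2 (.cj (nat_lit 0x25) (nat_lit 1) (nat_lit 0x69393dcb) (.s2 (.s2 (.cj (nat_lit 0x28) (nat_lit 1) (nat_lit 0xd271) (.s2 (.cj (nat_lit 0x2a) (nat_lit 1) (nat_lit 0xd650) (.pw (nat_lit 1) (nat_lit 0x1ad271)))
 (.cj (nat_lit 0x2a) (nat_lit 1) (nat_lit 0xd650) (.pw (nat_lit 1) (nat_lit 0xd693)))))
 (.cj (nat_lit 0x28) (nat_lit 1) (nat_lit 0xd271) (.s2 (.cj (nat_lit 0x22) (nat_lit 1) (nat_lit 0x1a4e4f) (.cj (nat_lit 0x29) (nat_lit 1) (nat_lit 0x34) (.cj (nat_lit 0xad42) (nat_lit 1) (nat_lit 0x692) (.pw (nat_lit 1) (nat_lit 0xd692)))))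
 (.cj (nat_lit 0x22) (nat_lit 1) (nat_lit 0x1a4e0f) (.cj (nat_lit 0x2b) (nat_lit 1) (nat_lit 0x672) (.s2 (.cj (nat_lit 0x24) (nat_lit 1) (nat_lit 0x1) (.pw (nat_lit 1) (nat_lit 0x6b4)))
 (.cj (nat_lit 0x2d) (nat_lit 1) (nat_lit 0x1) (.cj (nat_lit 0x2e) (nat_lit 1) (nat_lit 0x1) (.cj (nat_lit 0xad03) (nat_lit 1) (nat_lit 0x1) (.pw (nat_lit 1) (nat_lit 0x35)))))))))))
 (.s2 (.cj (nat_lit 0x28) (nat_lit 1) (nat_lit 0xd691) (.cj (nat_lit 0x503) (nat_lit 1) (nat_lit 0x359ca2f) (.pw (nat_lit 1) (nat_lit 0x339460f))))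
 (.cj (nat_lit 0x28) (nat_lit 1) (nat_lit 0xd691) (.cj (nat_lit 0x503) (nat_lit 1) (nat_lit 0x19ca2f) (.pw (nat_lit 1) (nat_lit 0x630)))))))
 (.cj (nat_lit 0x25) (nat_lit 1) (nat_lit 0x69393dcb) (.s2 (.cj (nat_lit 0x22) (nat_lit 1) (nat_lit 0x68e) (.pw (nat_lit 1) (nat_lit 0x2f)))
 (.cj (nat_lit 0x22) (nat_lit 1) (nat_lit 0x68e) (.pw (nat_lit 1) (nat_lit 0x34941ee))))))))
 (.cj (nat_lit 0x20) (nat_lit 1) (nat_lit 0x1) (.s2 (.cj (nat_lit 0x23) (nat_lit 1) (nat_lit 0x64f) (.pw (nat_lit 1) (nat_lit 0x6ae)))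
 (.cj (nat_lit 0x23) (nat_lit 1) (nat_lit 0x64f) (.pw (nat_lit 1) (nat_lit 0x348bdcb)))))),
 ([nat_lit 3, nat_lit 1, nat_lit 0], nat_lit 4, .s2 (.s2 (.s2 (.cj (nat_lit 0x22) (nat_lit 1) (nat_lit 0x1aca2e) (.cj (nat_lit 0x25) (nat_lit 1) (nat_lit 0x1a4e2e) (.s2 (.s2 (.s2 (.cj (nat_lit 0x29) (nat_lit 1) (nat_lit 0x1) (.cj (nat_lit 0x2a) (nat_lit 1) (nat_lit 0x1) (.s2 (.cj (nat_lit 0x524) (nat_lit 1) (nat_lit 0x32) (.cj (nat_lit 0x20) (nat_lit 1) (nat_lit 0x6b2) (.pw (nat_lit 1) (nat_lit 0xd693))))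
 (.cj (nat_lit 0x524) (nat_lit 1) (nat_lit 0x32) (.cj (nat_lit 0x20) (nat_lit 1) (nat_lit 0x6b2) (.cj (nat_lit 0x28) (nat_lit 1) (nat_lit 0x6b4) (.cj (nat_lit 0x5c7) (nat_lit 1) (nat_lit 0x34) (.cj (nat_lit 0x5c8) (nat_lit 1) (nat_lit 0x1) (.s2 (.cj (nat_lit 0x2f) (nat_lit 1) (nat_lit 0x1) (.lf (nat_lit 0x1001a615a7d1b590)))
 (.pw (nat_lit 1) (nat_lit 0x1)))))))))))
 (.cj (nat_lit 0x24) (nat_lit 1) (nat_lit 0x6b2) (.cj (nat_lit 0x26) (nat_lit 1) (nat_lit 0x6b2) (.s2 (.s2 (.cj (nat_lit 0x20) (nat_lit 1) (nat_lit 0x6b2) (.pw (nat_lit 1) (nat_lit 0x692)))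
 (.s2 (.pw (nat_lit 1) (nat_lit 0xd692))
 (.pw (nat_lit 1) (nat_lit 0x692))))
 (.s2 (.cj (nat_lit 0x20) (nat_lit 1) (nat_lit 0x6b2) (.cj (nat_lit 0x2e) (nat_lit 1) (nat_lit 0x33) (.pw (nat_lit 1) (nat_lit 0x693))))
 (.s2 (.cj (nat_lit 0x28) (nat_lit 1) (nat_lit 0x34) (.pw (nat_lit 1) (nat_lit 0xd693)))
 (.cj (nat_lit 0x2e) (nat_lit 1) (nat_lit 0x33) (.pw (nat_lit 1) (nat_lit 0x693)))))))))
 (.s2 (.cj (nat_lit 0x29) (nat_lit 1) (nat_lit 0x1) (.pw (nat_lit 1) (nat_lit 0x1ad271)))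
 (.cj (nat_lit 0x29) (nat_lit 1) (nat_lit 0x6b4) (.pw (nat_lit 1) (nat_lit 0x651)))))
 (.cj (nat_lit 0x21) (nat_lit 1) (nat_lit 0x35941cd) (.s2 (.pw (nat_lit 1) (nat_lit 0x1ad271))
 (.pw (nat_lit 1) (nat_lit 0x651)))))))
 (.cj (nat_lit 0x22) (nat_lit 1) (nat_lit 0xc60e) (.cj (nat_lit 0x25) (nat_lit 1) (nat_lit 0x348b9aa) (.s2 (.s2 (.s2 (.cj (nat_lit 0x24) (nat_lit 1) (nat_lit 0x64f) (.pw (nat_lit 1) (nat_lit 0x349ca30)))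
 (.cj (nat_lit 0x24) (nat_lit 1) (nat_lit 0x1) (.pw (nat_lit 1) (nat_lit 0x691))))
 (.s2 (.cj (nat_lit 0x29) (nat_lit 1) (nat_lit 0x35a4e2e) (.cj (nat_lit 0x2a) (nat_lit 1) (nat_lit 0x1) (.s2 (.cj (nat_lit 0x524) (nat_lit 1) (nat_lit 0x32) (.pw (nat_lit 1) (nat_lit 0x1a4e51)))
 (.cj (nat_lit 0x524) (nat_lit 1) (nat_lit 0x32) (.pw (nat_lit 1) (nat_lit 0x6b2))))))
 (.cj (nat_lit 0x24) (nat_lit 1) (nat_lit 0xce2e) (.cj (nat_lit 0x26) (nat_lit 1) (nat_lit 0x6b2) (.s2 (.s2 (.cj (nat_lit 0x20) (nat_lit 1) (nat_lit 0x6b2) (.pw (nat_lit 1) (nat_lit 0x1)))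
 (.cj (nat_lit 0x23) (nat_lit 1) (nat_lit 0x1a4e51) (.pw (nat_lit 1) (nat_lit 0xd692))))
 (.s2 (.cj (nat_lit 0x20) (nat_lit 1) (nat_lit 0x6b2) (.cj (nat_lit 0x2c) (nat_lit 1) (nat_lit 0x33) (.cj (nat_lit 0x2f) (nat_lit 1) (nat_lit 0x6b4) (.pw (nat_lit 1) (nat_lit 0x1)))))
 (.cj (nat_lit 0x23) (nat_lit 1) (nat_lit 0x32) (.cj (nat_lit 0x2c) (nat_lit 1) (nat_lit 0x33) (.pw (nat_lit 1) (nat_lit 0xd693))))))))))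
 (.cj (nat_lit 0x21) (nat_lit 1) (nat_lit 0x35941cd) (.s2 (.pw (nat_lit 1) (nat_lit 0x693941cd))
 (.pw (nat_lit 1) (nat_lit 0x1ad1cd))))))))
 (.s2 (.cj (nat_lit 0x22) (nat_lit 1) (nat_lit 0x1aca2e) (.pw (nat_lit 1) (nat_lit 0x6ae)))
 (.cj (nat_lit 0x22) (nat_lit 1) (nat_lit 0xc60e) (.pw (nat_lit 1) (nat_lit 0x32839aa)))))
 (.s2 (.cj (nat_lit 0x20) (nat_lit 1) (nat_lit 0x2d) (.cj (nat_lit 0x22) (nat_lit 1) (nat_lit 0x1945ee) (.cj (nat_lit 0x25) (nat_lit 1) (nat_lit 0x348b989) (.s2 (.s2 (.s2 (.pw (nat_lit 1) (nat_lit 0x6b49ca2f))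
 (.pw (nat_lit 1) (nat_lit 0x691)))
 (.s2 (.pw (nat_lit 1) (nat_lit 0xd69393dcd))
 (.pw (nat_lit 1) (nat_lit 0x1ad1cd))))
 (.s2 (.s2 (.cj (nat_lit 0x29) (nat_lit 1) (nat_lit 0x1) (.cj (nat_lit 0x2a) (nat_lit 1) (nat_lit 0x35a4e2e) (.s2 (.pw (nat_lit 1) (nat_lit 0x35a4e51))
 (.pw (nat_lit 1) (nat_lit 0x32)))))
 (.cj (nat_lit 0x24) (nat_lit 1) (nat_lit 0x6b2) (.cj (nat_lit 0x26) (nat_lit 1) (nat_lit 0xce2e) (.s2 (.cj (nat_lit 0x2b) (nat_lit 1) (nat_lit 0xd272) (.s2 (.pw (nat_lit 1) (nat_lit 0x1))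
 (.pw (nat_lit 1) (nat_lit 0xd692))))
 (.cj (nat_lit 0x23) (nat_lit 1) (nat_lit 0x32) (.s2 (.cj (nat_lit 0x2d) (nat_lit 1) (nat_lit 0x33) (.cj (nat_lit 0x30) (nat_lit 1) (nat_lit 0x6b4) (.pw (nat_lit 1) (nat_lit 0x1))))
 (.cj (nat_lit 0x2d) (nat_lit 1) (nat_lit 0x33) (.pw (nat_lit 1) (nat_lit 0xd693)))))))))
 (.s2 (.cj (nat_lit 0x29) (nat_lit 1) (nat_lit 0x1) (.pw (nat_lit 1) (nat_lit 0x35a49ee)))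
 (.cj (nat_lit 0x29) (nat_lit 1) (nat_lit 0x6b4) (.pw (nat_lit 1) (nat_lit 0xd66e)))))))))
 (.cj (nat_lit 0x20) (nat_lit 1) (nat_lit 0x2d) (.cj (nat_lit 0x22) (nat_lit 1) (nat_lit 0x1945ee) (.pw (nat_lit 1) (nat_lit 0x6b393dc9))))))]
theorem hj4 : jobsChk 2 22 T pb (lf2 F24.cd om T gb 22 4) js4 = true := by decide +kernel

noncomputable def js5 : List Job := [([nat_lit 2, nat_lit 1, nat_lit 0], nat_lit 3, .s2 (.s2 (.s2 (.s2 (.cj (nat_lit 0x23) (nat_lit 1) (nat_lit 0x1) (.s2 (.s2 (.s2 (.cj (nat_lit 0x28) (nat_lit 1) (nat_lit 0x1ad251) (.s2 (.s2 (.pw (nat_lit 1) (nat_lit 0xd272))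
 (.pw (nat_lit 1) (nat_lit 0x1a4e50)))
 (.cj (nat_lit 0x20) (nat_lit 1) (nat_lit 0x31) (.pw (nat_lit 1) (nat_lit 0x1a4e4f)))))
 (.cj (nat_lit 0x28) (nat_lit 1) (nat_lit 0x1ace51) (.s2 (.s2 (.pw (nat_lit 1) (nat_lit 0xd272))
 (.pw (nat_lit 1) (nat_lit 0x1a4e50)))
 (.cj (nat_lit 0x20) (nat_lit 1) (nat_lit 0x31) (.pw (nat_lit 1) (nat_lit 0x64f))))))
 (.cj (nat_lit 0x21) (nat_lit 1) (nat_lit 0xd670) (.cj (nat_lit 0x28) (nat_lit 1) (nat_lit 0x1ace51) (.s2 (.s2 (.pw (nat_lit 1) (nat_lit 0x672))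
 (.pw (nat_lit 1) (nat_lit 0xd250)))
 (.s2 (.pw (nat_lit 1) (nat_lit 0xce4f))
 (.pw (nat_lit 1) (nat_lit 0x35a4a0f)))))))
 (.s2 (.s2 (.pw (nat_lit 1) (nat_lit 0x1ad22e))
 (.pw (nat_lit 1) (nat_lit 0x35a4e2e)))
 (.cj (nat_lit 0x21) (nat_lit 1) (nat_lit 0x1aca30) (.pw (nat_lit 1) (nat_lit 0x1ace2e))))))
 (.cj (nat_lit 0x23) (nat_lit 1) (nat_lit 0x64d) (.s2 (.s2 (.cj (nat_lit 0x25) (nat_lit 1) (nat_lit 0x6ae) (.cj (nat_lit 0x28) (nat_lit 1) (nat_lit 0x349460d) (.s2 (.s2 (.pw (nat_lit 1) (nat_lit 0x1ad270))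
 (.pw (nat_lit 1) (nat_lit 0xd693)))
 (.cj (nat_lit 0x20) (nat_lit 1) (nat_lit 0x31) (.pw (nat_lit 1) (nat_lit 0xd6939460f))))))
 (.cj (nat_lit 0x25) (nat_lit 1) (nat_lit 0x6ae) (.cj (nat_lit 0x28) (nat_lit 1) (nat_lit 0x339460d) (.s2 (.s2 (.cj (nat_lit 0x29) (nat_lit 1) (nat_lit 0x1) (.cj (nat_lit 0x24) (nat_lit 1) (nat_lit 0x1) (.pw (nat_lit 1) (nat_lit 0x6b3))))
 (.cj (nat_lit 0x29) (nat_lit 1) (nat_lit 0x693) (.cj (nat_lit 0x24) (nat_lit 1) (nat_lit 0xd651) (.cj (nat_lit 0x2d) (nat_lit 1) (nat_lit 0x693) (.s2 (.cj (nat_lit 0x2f) (nat_lit 1) (nat_lit 0x35) (.s2 (.pw (nat_lit 1) (nat_lit 0x35))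
 (.cj (nat_lit 0x2e) (nat_lit 1) (nat_lit 0x1) (.pw (nat_lit 1) (nat_lit 0x1)))))
 (.pw (nat_lit 1) (nat_lit 0x34)))))))
 (.cj (nat_lit 0x4a0) (nat_lit 1) (nat_lit 0xd691) (.cj (nat_lit 0x29) (nat_lit 1) (nat_lit 0x1) (.pw (nat_lit 1) (nat_lit 0x359ca30))))))))
 (.s2 (.cj (nat_lit 0x25) (nat_lit 1) (nat_lit 0x6ae) (.pw (nat_lit 1) (nat_lit 0x34945cd)))
 (.cj (nat_lit 0x25) (nat_lit 1) (nat_lit 0x6ae) (.pw (nat_lit 1) (nat_lit 0x1a4a2d)))))))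
 (.s2 (.cj (nat_lit 0x23) (nat_lit 1) (nat_lit 0x3494568) (.s2 (.cj (nat_lit 0x24) (nat_lit 1) (nat_lit 0x68f) (.cj (nat_lit 0x26) (nat_lit 1) (nat_lit 0xd650) (.cj (nat_lit 0x27) (nat_lit 1) (nat_lit 0xd251) (.s2 (.s2 (.cj (nat_lit 0x25) (nat_lit 1) (nat_lit 0x35) (.cj (nat_lit 0x2c) (nat_lit 1) (nat_lit 0x693) (.cj (nat_lit 0x21) (nat_lit 1) (nat_lit 0x33) (.s2 (.pw (nat_lit 1) (nat_lit 0x6b3))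
 (.cj (nat_lit 0x2b) (nat_lit 1) (nat_lit 0x33) (.s2 (.pw (nat_lit 1) (nat_lit 0x1))
 (.cj (nat_lit 0x29) (nat_lit 1) (nat_lit 0x1) (.cj (nat_lit 0x507) (nat_lit 1) (nat_lit 0x1) (.lf (nat_lit 0x100299085780857b))))))))))
 (.cj (nat_lit 0x22) (nat_lit 1) (nat_lit 0xce50) (.cj (nat_lit 0x2c) (nat_lit 1) (nat_lit 0x693) (.pw (nat_lit 1) (nat_lit 0xd692)))))
 (.cj (nat_lit 0x20) (nat_lit 1) (nat_lit 0x31) (.cj (nat_lit 0x22) (nat_lit 1) (nat_lit 0xce4f) (.pw (nat_lit 1) (nat_lit 0xd692))))))))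
 (.cj (nat_lit 0x24) (nat_lit 1) (nat_lit 0x66c) (.cj (nat_lit 0x26) (nat_lit 1) (nat_lit 0x35a4e4d) (.pw (nat_lit 1) (nat_lit 0xd271))))))
 (.cj (nat_lit 0x23) (nat_lit 1) (nat_lit 0x6b38b568) (.s2 (.cj (nat_lit 0x24) (nat_lit 1) (nat_lit 0x68f) (.pw (nat_lit 1) (nat_lit 0x670)))
 (.cj (nat_lit 0x24) (nat_lit 1) (nat_lit 0x35a4a2c) (.pw (nat_lit 1) (nat_lit 0x6b3945ab)))))))
 (.s2 (.cj (nat_lit 0x20) (nat_lit 1) (nat_lit 0x1) (.cj (nat_lit 0x23) (nat_lit 1) (nat_lit 0xd64c) (.s2 (.cj (nat_lit 0x25) (nat_lit 1) (nat_lit 0xd68e) (.s2 (.cj (nat_lit 0x28) (nat_lit 1) (nat_lit 0x34945ec) (.s2 (.s2 (.pw (nat_lit 1) (nat_lit 0x1a4e4f))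
 (.pw (nat_lit 1) (nat_lit 0x349c60f)))
 (.s2 (.pw (nat_lit 1) (nat_lit 0xd272))
 (.pw (nat_lit 1) (nat_lit 0x35a4e30)))))
 (.cj (nat_lit 0x28) (nat_lit 1) (nat_lit 0x33945ec) (.s2 (.s2 (.cj (nat_lit 0x2a) (nat_lit 1) (nat_lit 0x34) (.pw (nat_lit 1) (nat_lit 0xd272)))
 (.cj (nat_lit 0x2a) (nat_lit 1) (nat_lit 0x34) (.pw (nat_lit 1) (nat_lit 0x1a4e30))))
 (.s2 (.cj (nat_lit 0x2a) (nat_lit 1) (nat_lit 0x33) (.cj (nat_lit 0x2c) (nat_lit 1) (nat_lit 0x693) (.cj (nat_lit 0x26) (nat_lit 1) (nat_lit 0x31) (.s2 (.pw (nat_lit 1) (nat_lit 0x1))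
 (.cj (nat_lit 0x30) (nat_lit 1) (nat_lit 0x35) (.s2 (.cj (nat_lit 0x29) (nat_lit 1) (nat_lit 0x1) (.pw (nat_lit 1) (nat_lit 0x1)))
 (.pw (nat_lit 1) (nat_lit 0x35))))))))
 (.cj (nat_lit 0x2a) (nat_lit 1) (nat_lit 0x33) (.cj (nat_lit 0x2c) (nat_lit 1) (nat_lit 0x693) (.pw (nat_lit 1) (nat_lit 0x6b1)))))))))
 (.cj (nat_lit 0x25) (nat_lit 1) (nat_lit 0xd68e) (.s2 (.pw (nat_lit 1) (nat_lit 0x1a45cc))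
 (.pw (nat_lit 1) (nat_lit 0x62c)))))))
 (.cj (nat_lit 0x20) (nat_lit 1) (nat_lit 0x1) (.cj (nat_lit 0x23) (nat_lit 1) (nat_lit 0x348bd68) (.s2 (.pw (nat_lit 1) (nat_lit 0x1ace4f))
 (.pw (nat_lit 1) (nat_lit 0x35a458b)))))))
 (.s2 (.s2 (.s2 (.pw (nat_lit 1) (nat_lit 0xd22e))
 (.pw (nat_lit 1) (nat_lit 0x35a45cd)))
 (.s2 (.pw (nat_lit 1) (nat_lit 0xce48))
 (.pw (nat_lit 1) (nat_lit 0x67283548))))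
 (.s2 (.cj (nat_lit 0x20) (nat_lit 1) (nat_lit 0x60d) (.pw (nat_lit 1) (nat_lit 0x34945cc)))
 (.cj (nat_lit 0x20) (nat_lit 1) (nat_lit 0x60d) (.pw (nat_lit 1) (nat_lit 0xbd28))))))]
theorem hj5 : jobsChk 2 22 T pb (lf2 F24.cd om T gb 22 4) js5 = true := by decide +kernel

noncomputable def js6 : List Job := [([nat_lit 1], nat_lit 2, .s2 (.s2 (.s2 (.s2 (.cj (nat_lit 0x24) (nat_lit 1) (nat_lit 0x1) (.s2 (.s2 (.s2 (.cj (nat_lit 0x29) (nat_lit 1) (nat_lit 0x2e) (.s2 (.s2 (.cj (nat_lit 0x2c) (nat_lit 1) (nat_lit 0x31) (.cj (nat_lit 0x25) (nat_lit 1) (nat_lit 0x35) (.s2 (.cj (nat_lit 0x2f) (nat_lit 1) (nat_lit 0x6b2) (.cj (nat_lit 0x27) (nat_lit 1) (nat_lit 0xd693) (.cj (nat_lit 0x2b) (nat_lit 1) (nat_lit 0x6b3) (.s2 (.s2 (.s2 (.lf (nat_lit 0x1000000006b))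
 (.lf (nat_lit 0x130ce63c7d83c9613cb60)))
 (.cj (nat_lit 0x1abd03) (nat_lit 1) (nat_lit 0x1) (.lf (nat_lit 0x1449fa1a6dc2288949671))))
 (.cj (nat_lit 0x17aca2) (nat_lit 1) (nat_lit 0x1) (.cj (nat_lit 0x507) (nat_lit 1) (nat_lit 0x1) (.lf (nat_lit 0x1150f70a7ea0b18115a87))))))))
 (.pw (nat_lit 1) (nat_lit 0x6b2)))))
 (.pw (nat_lit 1) (nat_lit 0x31)))
 (.s2 (.cj (nat_lit 0x2c) (nat_lit 1) (nat_lit 0x6b1) (.cj (nat_lit 0x25) (nat_lit 1) (nat_lit 0x35) (.s2 (.cj (nat_lit 0x26) (nat_lit 1) (nat_lit 0x35) (.cj (nat_lit 0x27) (nat_lit 1) (nat_lit 0xd693) (.pw (nat_lit 1) (nat_lit 0x6b3))))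
 (.pw (nat_lit 1) (nat_lit 0x33)))))
 (.pw (nat_lit 1) (nat_lit 0xce51)))))
 (.pw (nat_lit 1) (nat_lit 0x2e)))
 (.s2 (.cj (nat_lit 0x29) (nat_lit 1) (nat_lit 0x66e) (.cj (nat_lit 0x22) (nat_lit 1) (nat_lit 0x35a4a0e) (.s2 (.cj (nat_lit 0x26) (nat_lit 1) (nat_lit 0x1) (.cj (nat_lit 0x25) (nat_lit 1) (nat_lit 0x35) (.s2 (.cj (nat_lit 0x2f) (nat_lit 1) (nat_lit 0x32) (.pw (nat_lit 1) (nat_lit 0xd693)))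
 (.pw (nat_lit 1) (nat_lit 0x35a4e51)))))
 (.pw (nat_lit 1) (nat_lit 0xd693)))))
 (.pw (nat_lit 1) (nat_lit 0x1ad22e))))
 (.s2 (.s2 (.cj (nat_lit 0x29) (nat_lit 1) (nat_lit 0x6b4941ee) (.cj (nat_lit 0x25) (nat_lit 1) (nat_lit 0xce4e) (.s2 (.cj (nat_lit 0x2c) (nat_lit 1) (nat_lit 0x6b1) (.cj (nat_lit 0x22) (nat_lit 1) (nat_lit 0x1ad270) (.s2 (.cj (nat_lit 0x26) (nat_lit 1) (nat_lit 0x35) (.pw (nat_lit 1) (nat_lit 0xd693)))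
 (.pw (nat_lit 1) (nat_lit 0x1a4e51)))))
 (.pw (nat_lit 1) (nat_lit 0x693)))))
 (.pw (nat_lit 1) (nat_lit 0xd2728c1ee)))
 (.s2 (.cj (nat_lit 0x29) (nat_lit 1) (nat_lit 0x693941ee) (.cj (nat_lit 0x25) (nat_lit 1) (nat_lit 0xce4e) (.s2 (.cj (nat_lit 0x26) (nat_lit 1) (nat_lit 0x30) (.s2 (.s2 (.cj (nat_lit 0x2a) (nat_lit 1) (nat_lit 0x33) (.cj (nat_lit 0x27) (nat_lit 1) (nat_lit 0x693) (.cj (nat_lit 0x2b) (nat_lit 1) (nat_lit 0x6b3) (.s2 (.cj (nat_lit 0x5cb) (nat_lit 1) (nat_lit 0x1) (.pw (nat_lit 1) (nat_lit 0x1)))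
 (.cj (nat_lit 0x5cb) (nat_lit 1) (nat_lit 0x1) (.cj (nat_lit 0x2d) (nat_lit 1) (nat_lit 0x1) (.lf (nat_lit 0x101d6601eb004ff905143))))))))
 (.pw (nat_lit 1) (nat_lit 0x6b2)))
 (.s2 (.cj (nat_lit 0x2a) (nat_lit 1) (nat_lit 0x33) (.cj (nat_lit 0x28) (nat_lit 1) (nat_lit 0x6b4) (.pw (nat_lit 1) (nat_lit 0x693))))
 (.pw (nat_lit 1) (nat_lit 0x693)))))
 (.pw (nat_lit 1) (nat_lit 0x31)))))
 (.pw (nat_lit 1) (nat_lit 0x6b3941ee))))))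
 (.cj (nat_lit 0x24) (nat_lit 1) (nat_lit 0x549) (.s2 (.cj (nat_lit 0x23) (nat_lit 1) (nat_lit 0xd650) (.s2 (.cj (nat_lit 0x26) (nat_lit 1) (nat_lit 0x1) (.cj (nat_lit 0x27) (nat_lit 1) (nat_lit 0xd251) (.s2 (.cj (nat_lit 0x2c) (nat_lit 1) (nat_lit 0x671) (.pw (nat_lit 1) (nat_lit 0x35)))
 (.pw (nat_lit 1) (nat_lit 0x1ace2e)))))
 (.pw (nat_lit 1) (nat_lit 0x35))))
 (.cj (nat_lit 0x23) (nat_lit 1) (nat_lit 0xd650) (.s2 (.cj (nat_lit 0x26) (nat_lit 1) (nat_lit 0xd690) (.pw (nat_lit 1) (nat_lit 0xd22e)))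
 (.pw (nat_lit 1) (nat_lit 0x6b28c1eb)))))))
 (.s2 (.pw (nat_lit 1) (nat_lit 0x1))
 (.pw (nat_lit 1) (nat_lit 0x6a9))))
 (.s2 (.s2 (.cj (nat_lit 0x24) (nat_lit 1) (nat_lit 0x6b283dac) (.cj (nat_lit 0x22) (nat_lit 1) (nat_lit 0xc60e) (.cj (nat_lit 0x25) (nat_lit 1) (nat_lit 0x1a4e2e) (.s2 (.cj (nat_lit 0x29) (nat_lit 1) (nat_lit 0x338b9ac) (.s2 (.s2 (.cj (nat_lit 0x2a) (nat_lit 1) (nat_lit 0x1) (.s2 (.s2 (.pw (nat_lit 1) (nat_lit 0x1a4e51))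
 (.cj (nat_lit 0x2f) (nat_lit 1) (nat_lit 0x32) (.pw (nat_lit 1) (nat_lit 0x693))))
 (.s2 (.pw (nat_lit 1) (nat_lit 0x6b2))
 (.cj (nat_lit 0x23) (nat_lit 1) (nat_lit 0x32) (.cj (nat_lit 0x28) (nat_lit 1) (nat_lit 0x34) (.cj (nat_lit 0x5c7) (nat_lit 1) (nat_lit 0x34) (.cj (nat_lit 0x5c8) (nat_lit 1) (nat_lit 0x35) (.s2 (.pw (nat_lit 1) (nat_lit 0x1))
 (.cj (nat_lit 0x2d) (nat_lit 1) (nat_lit 0x1) (.lf (nat_lit 0x11a12c085e308ee817bb2)))))))))))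
 (.pw (nat_lit 1) (nat_lit 0x35a4e50)))
 (.s2 (.cj (nat_lit 0x26) (nat_lit 1) (nat_lit 0x6b2) (.s2 (.s2 (.pw (nat_lit 1) (nat_lit 0xd691))
 (.cj (nat_lit 0x2f) (nat_lit 1) (nat_lit 0x32) (.pw (nat_lit 1) (nat_lit 0xd692))))
 (.s2 (.pw (nat_lit 1) (nat_lit 0xd693))
 (.cj (nat_lit 0x23) (nat_lit 1) (nat_lit 0x32) (.cj (nat_lit 0x28) (nat_lit 1) (nat_lit 0x34) (.pw (nat_lit 1) (nat_lit 0xd693)))))))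
 (.pw (nat_lit 1) (nat_lit 0xd690)))))
 (.pw (nat_lit 1) (nat_lit 0xd672839ac))))))
 (.cj (nat_lit 0x24) (nat_lit 1) (nat_lit 0x6b283d49) (.cj (nat_lit 0x22) (nat_lit 1) (nat_lit 0xc60e) (.pw (nat_lit 1) (nat_lit 0xca0e)))))
 (.s2 (.pw (nat_lit 1) (nat_lit 0x349bdac))
 (.pw (nat_lit 1) (nat_lit 0xbd28)))))
 (.s2 (.s2 (.s2 (.cj (nat_lit 0x24) (nat_lit 1) (nat_lit 0xd60f) (.cj (nat_lit 0x23) (nat_lit 1) (nat_lit 0xd650) (.s2 (.s2 (.cj (nat_lit 0x29) (nat_lit 1) (nat_lit 0x68e) (.cj (nat_lit 0x28) (nat_lit 1) (nat_lit 0x1ad251) (.s2 (.cj (nat_lit 0x2c) (nat_lit 1) (nat_lit 0x19460f) (.pw (nat_lit 1) (nat_lit 0x1ad270)))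
 (.pw (nat_lit 1) (nat_lit 0xd693945ee)))))
 (.pw (nat_lit 1) (nat_lit 0x1ad270)))
 (.s2 (.cj (nat_lit 0x29) (nat_lit 1) (nat_lit 0x66e) (.pw (nat_lit 1) (nat_lit 0x349460e)))
 (.pw (nat_lit 1) (nat_lit 0x339460b))))))
 (.cj (nat_lit 0x24) (nat_lit 1) (nat_lit 0x6b483d49) (.cj (nat_lit 0x23) (nat_lit 1) (nat_lit 0x6b48c168) (.s2 (.s2 (.cj (nat_lit 0x29) (nat_lit 1) (nat_lit 0x68e) (.cj (nat_lit 0x27) (nat_lit 1) (nat_lit 0xd251) (.s2 (.cj (nat_lit 0x2c) (nat_lit 1) (nat_lit 0x6939460f) (.cj (nat_lit 0x25) (nat_lit 1) (nat_lit 0x35) (.s2 (.pw (nat_lit 1) (nat_lit 0x33))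
 (.cj (nat_lit 0x2d) (nat_lit 1) (nat_lit 0xd693) (.s2 (.pw (nat_lit 1) (nat_lit 0xd693))
 (.cj (nat_lit 0x2b) (nat_lit 1) (nat_lit 0x33) (.s2 (.cj (nat_lit 0x2a) (nat_lit 1) (nat_lit 0x1) (.cj (nat_lit 0x507) (nat_lit 1) (nat_lit 0x1) (.lf (nat_lit 0x10354103e1805a0b06ab8))))
 (.pw (nat_lit 1) (nat_lit 0x1)))))))))
 (.pw (nat_lit 1) (nat_lit 0x1a4a2f)))))
 (.pw (nat_lit 1) (nat_lit 0xce0e)))
 (.s2 (.cj (nat_lit 0x29) (nat_lit 1) (nat_lit 0x66e) (.pw (nat_lit 1) (nat_lit 0x6b49ca30)))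
 (.pw (nat_lit 1) (nat_lit 0x6b28c1cb)))))))
 (.s2 (.pw (nat_lit 1) (nat_lit 0x1a4dee))
 (.pw (nat_lit 1) (nat_lit 0x359bdc9))))
 (.s2 (.s2 (.cj (nat_lit 0x24) (nat_lit 1) (nat_lit 0x6b283dac) (.pw (nat_lit 1) (nat_lit 0xd22e)))
 (.cj (nat_lit 0x24) (nat_lit 1) (nat_lit 0x1a4949) (.pw (nat_lit 1) (nat_lit 0xce48))))
 (.s2 (.pw (nat_lit 1) (nat_lit 0x69273587))
 (.pw (nat_lit 1) (nat_lit 0x35a4e4f72507))))))]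
theorem hj6 : jobsChk 2 22 T pb (lf2 F24.cd om T gb 22 4) js6 = true := by decide +kernel

noncomputable def js7 : List Job := [([nat_lit 2], nat_lit 3, .s2 (.s2 (.s2 (.s2 (.cj (nat_lit 0x23) (nat_lit 1) (nat_lit 0x1) (.s2 (.s2 (.s2 (.cj (nat_lit 0x28) (nat_lit 1) (nat_lit 0x35) (.s2 (.s2 (.cj (nat_lit 0x21) (nat_lit 1) (nat_lit 0x1ad270) (.cj (nat_lit 0x24) (nat_lit 1) (nat_lit 0x1) (.cj (nat_lit 0x2d) (nat_lit 1) (nat_lit 0x1) (.s2 (.cj (nat_lit 0x31) (nat_lit 1) (nat_lit 0x35) (.s2 (.cj (nat_lit 0x29) (nat_lit 1) (nat_lit 0x1) (.s2 (.lf (nat_lit 0x1097c60adc6))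
 (.lf (nat_lit 0x1320d0348a340cca47b11))))
 (.pw (nat_lit 1) (nat_lit 0x1))))
 (.pw (nat_lit 1) (nat_lit 0x35))))))
 (.cj (nat_lit 0x21) (nat_lit 1) (nat_lit 0x1ad270) (.cj (nat_lit 0x2c) (nat_lit 1) (nat_lit 0x1) (.pw (nat_lit 1) (nat_lit 0x1)))))
 (.cj (nat_lit 0x20) (nat_lit 1) (nat_lit 0x31) (.cj (nat_lit 0x420) (nat_lit 1) (nat_lit 0xd272) (.pw (nat_lit 1) (nat_lit 0x1))))))
 (.cj (nat_lit 0x28) (nat_lit 1) (nat_lit 0xd693) (.s2 (.s2 (.cj (nat_lit 0x24) (nat_lit 1) (nat_lit 0x68f) (.cj (nat_lit 0x2c) (nat_lit 1) (nat_lit 0x693) (.cj (nat_lit 0x2d) (nat_lit 1) (nat_lit 0x1) (.s2 (.cj (nat_lit 0x31) (nat_lit 1) (nat_lit 0x35) (.s2 (.cj (nat_lit 0x29) (nat_lit 1) (nat_lit 0x1) (.cj (nat_lit 0x5a7) (nat_lit 1) (nat_lit 0x1) (.lf (nat_lit 0x13b94008f2b464f447471))))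
 (.pw (nat_lit 1) (nat_lit 0x1))))
 (.pw (nat_lit 1) (nat_lit 0x35))))))
 (.cj (nat_lit 0x21) (nat_lit 1) (nat_lit 0x1ad270) (.cj (nat_lit 0x2c) (nat_lit 1) (nat_lit 0x693) (.pw (nat_lit 1) (nat_lit 0x1)))))
 (.cj (nat_lit 0x20) (nat_lit 1) (nat_lit 0x31) (.cj (nat_lit 0x24) (nat_lit 1) (nat_lit 0x68f) (.pw (nat_lit 1) (nat_lit 0x693)))))))
 (.cj (nat_lit 0x21) (nat_lit 1) (nat_lit 0xd670) (.cj (nat_lit 0x28) (nat_lit 1) (nat_lit 0xd693) (.s2 (.s2 (.cj (nat_lit 0x26) (nat_lit 1) (nat_lit 0x1ad250) (.cj (nat_lit 0x24) (nat_lit 1) (nat_lit 0x1) (.cj (nat_lit 0x2d) (nat_lit 1) (nat_lit 0x693) (.s2 (.cj (nat_lit 0x31) (nat_lit 1) (nat_lit 0x35) (.s2 (.pw (nat_lit 1) (nat_lit 0x1))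
 (.cj (nat_lit 0x29) (nat_lit 1) (nat_lit 0x1) (.cj (nat_lit 0x587) (nat_lit 1) (nat_lit 0x1) (.lf (nat_lit 0x10b4a302ba1073b508584))))))
 (.pw (nat_lit 1) (nat_lit 0x6b4))))))
 (.cj (nat_lit 0x26) (nat_lit 1) (nat_lit 0x1ad250) (.cj (nat_lit 0x2c) (nat_lit 1) (nat_lit 0x1) (.pw (nat_lit 1) (nat_lit 0x33)))))
 (.s2 (.cj (nat_lit 0x26) (nat_lit 1) (nat_lit 0xd230) (.pw (nat_lit 1) (nat_lit 0x34)))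
 (.cj (nat_lit 0x26) (nat_lit 1) (nat_lit 0xd230) (.pw (nat_lit 1) (nat_lit 0xd670))))))))
 (.s2 (.s2 (.pw (nat_lit 1) (nat_lit 0x35))
 (.pw (nat_lit 1) (nat_lit 0x6b3)))
 (.cj (nat_lit 0x21) (nat_lit 1) (nat_lit 0x1aca30) (.pw (nat_lit 1) (nat_lit 0xd693))))))
 (.cj (nat_lit 0x23) (nat_lit 1) (nat_lit 0x64d) (.s2 (.s2 (.cj (nat_lit 0x25) (nat_lit 1) (nat_lit 0x1) (.cj (nat_lit 0x28) (nat_lit 1) (nat_lit 0x60d) (.s2 (.s2 (.cj (nat_lit 0x29) (nat_lit 1) (nat_lit 0x1) (.cj (nat_lit 0x24) (nat_lit 1) (nat_lit 0x1) (.pw (nat_lit 1) (nat_lit 0x6b2))))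
 (.cj (nat_lit 0x29) (nat_lit 1) (nat_lit 0x693) (.cj (nat_lit 0x24) (nat_lit 1) (nat_lit 0xd651) (.cj (nat_lit 0x27) (nat_lit 1) (nat_lit 0x1) (.s2 (.pw (nat_lit 1) (nat_lit 0x35))
 (.cj (nat_lit 0x2f) (nat_lit 1) (nat_lit 0x35) (.s2 (.cj (nat_lit 0x2e) (nat_lit 1) (nat_lit 0x1) (.cj (nat_lit 0x5a7) (nat_lit 1) (nat_lit 0x1) (.lf (nat_lit 0x142aed1704c2e77d2effc))))
 (.pw (nat_lit 1) (nat_lit 0x1)))))))))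
 (.cj (nat_lit 0x20) (nat_lit 1) (nat_lit 0x31) (.cj (nat_lit 0x29) (nat_lit 1) (nat_lit 0x1) (.pw (nat_lit 1) (nat_lit 0xd630)))))))
 (.cj (nat_lit 0x25) (nat_lit 1) (nat_lit 0x1) (.cj (nat_lit 0x28) (nat_lit 1) (nat_lit 0x1a4e0d) (.s2 (.s2 (.pw (nat_lit 1) (nat_lit 0x1ad250))
 (.pw (nat_lit 1) (nat_lit 0xd672)))
 (.cj (nat_lit 0x4a0) (nat_lit 1) (nat_lit 0xd22e) (.pw (nat_lit 1) (nat_lit 0x35a460f)))))))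
 (.s2 (.cj (nat_lit 0x25) (nat_lit 1) (nat_lit 0x1) (.pw (nat_lit 1) (nat_lit 0x64d)))
 (.cj (nat_lit 0x25) (nat_lit 1) (nat_lit 0x1) (.pw (nat_lit 1) (nat_lit 0xc9cd)))))))
 (.s2 (.cj (nat_lit 0x23) (nat_lit 1) (nat_lit 0x568) (.s2 (.cj (nat_lit 0x24) (nat_lit 1) (nat_lit 0x68f) (.cj (nat_lit 0x26) (nat_lit 1) (nat_lit 0xd650) (.cj (nat_lit 0x27) (nat_lit 1) (nat_lit 0x1) (.s2 (.s2 (.s2 (.cj (nat_lit 0x2c) (nat_lit 1) (nat_lit 0x693) (.cj (nat_lit 0x21) (nat_lit 1) (nat_lit 0x33) (.s2 (.cj (nat_lit 0x31) (nat_lit 1) (nat_lit 0xd693) (.s2 (.cj (nat_lit 0x29) (nat_lit 1) (nat_lit 0x1) (.cj (nat_lit 0x507) (nat_lit 1) (nat_lit 0x1) (.lf (nat_lit 0x10a4c20e9f6104944acc8))))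
 (.pw (nat_lit 1) (nat_lit 0x1))))
 (.pw (nat_lit 1) (nat_lit 0xd693)))))
 (.cj (nat_lit 0x2c) (nat_lit 1) (nat_lit 0x693) (.cj (nat_lit 0x21) (nat_lit 1) (nat_lit 0x33) (.s2 (.cj (nat_lit 0x31) (nat_lit 1) (nat_lit 0xd693) (.s2 (.pw (nat_lit 1) (nat_lit 0x1))
 (.cj (nat_lit 0x29) (nat_lit 1) (nat_lit 0x1) (.s2 (.lf (nat_lit 0x123416007d500af122534))
 (.lf (nat_lit 0x1085780857b))))))
 (.pw (nat_lit 1) (nat_lit 0x6b3))))))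
 (.s2 (.cj (nat_lit 0x2c) (nat_lit 1) (nat_lit 0x693) (.pw (nat_lit 1) (nat_lit 0x693)))
 (.cj (nat_lit 0x2c) (nat_lit 1) (nat_lit 0x693) (.pw (nat_lit 1) (nat_lit 0x33)))))
 (.cj (nat_lit 0x20) (nat_lit 1) (nat_lit 0x31) (.s2 (.pw (nat_lit 1) (nat_lit 0x693))
 (.pw (nat_lit 1) (nat_lit 0x33))))))))
 (.cj (nat_lit 0x24) (nat_lit 1) (nat_lit 0x66c) (.cj (nat_lit 0x26) (nat_lit 1) (nat_lit 0x35a4e4d) (.pw (nat_lit 1) (nat_lit 0x35))))))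
 (.cj (nat_lit 0x23) (nat_lit 1) (nat_lit 0xd69393568) (.s2 (.cj (nat_lit 0x24) (nat_lit 1) (nat_lit 0x68f) (.pw (nat_lit 1) (nat_lit 0xd650)))
 (.cj (nat_lit 0x24) (nat_lit 1) (nat_lit 0x35a4a2c) (.pw (nat_lit 1) (nat_lit 0x1a49ab)))))))
 (.s2 (.cj (nat_lit 0x20) (nat_lit 1) (nat_lit 0x1) (.cj (nat_lit 0x23) (nat_lit 1) (nat_lit 0xd64c) (.s2 (.cj (nat_lit 0x25) (nat_lit 1) (nat_lit 0x34) (.s2 (.cj (nat_lit 0x28) (nat_lit 1) (nat_lit 0x5ec) (.s2 (.s2 (.cj (nat_lit 0x2a) (nat_lit 1) (nat_lit 0x34) (.pw (nat_lit 1) (nat_lit 0x1)))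
 (.cj (nat_lit 0x2a) (nat_lit 1) (nat_lit 0x34) (.pw (nat_lit 1) (nat_lit 0xca30))))
 (.s2 (.cj (nat_lit 0x2a) (nat_lit 1) (nat_lit 0x33) (.cj (nat_lit 0x24) (nat_lit 1) (nat_lit 0x1) (.cj (nat_lit 0x26) (nat_lit 1) (nat_lit 0x31) (.s2 (.cj (nat_lit 0x30) (nat_lit 1) (nat_lit 0x35) (.s2 (.cj (nat_lit 0x29) (nat_lit 1) (nat_lit 0x1) (.cj (nat_lit 0x587) (nat_lit 1) (nat_lit 0x1) (.lf (nat_lit 0x10cac7124282616d474fb))))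
 (.pw (nat_lit 1) (nat_lit 0x1))))
 (.pw (nat_lit 1) (nat_lit 0x35))))))
 (.cj (nat_lit 0x2a) (nat_lit 1) (nat_lit 0x33) (.cj (nat_lit 0x27) (nat_lit 1) (nat_lit 0x1) (.pw (nat_lit 1) (nat_lit 0xd651)))))))
 (.cj (nat_lit 0x28) (nat_lit 1) (nat_lit 0x1a4dec) (.s2 (.s2 (.pw (nat_lit 1) (nat_lit 0x2f))
 (.pw (nat_lit 1) (nat_lit 0x19460f)))
 (.s2 (.pw (nat_lit 1) (nat_lit 0x693))
 (.pw (nat_lit 1) (nat_lit 0x6b49ca30)))))))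
 (.cj (nat_lit 0x25) (nat_lit 1) (nat_lit 0x34) (.s2 (.pw (nat_lit 1) (nat_lit 0x2c))
 (.pw (nat_lit 1) (nat_lit 0xd1cc)))))))
 (.cj (nat_lit 0x20) (nat_lit 1) (nat_lit 0x1) (.cj (nat_lit 0x23) (nat_lit 1) (nat_lit 0x193d68) (.s2 (.pw (nat_lit 1) (nat_lit 0x2f))
 (.pw (nat_lit 1) (nat_lit 0xcd8b)))))))
 (.s2 (.s2 (.s2 (.pw (nat_lit 1) (nat_lit 0x1))
 (.pw (nat_lit 1) (nat_lit 0x6ad)))
 (.s2 (.pw (nat_lit 1) (nat_lit 0x6a8))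
 (.pw (nat_lit 1) (nat_lit 0x3583548))))
 (.s2 (.cj (nat_lit 0x20) (nat_lit 1) (nat_lit 0x60d) (.pw (nat_lit 1) (nat_lit 0x64c)))
 (.cj (nat_lit 0x20) (nat_lit 1) (nat_lit 0x60d) (.pw (nat_lit 1) (nat_lit 0x6b393d28))))))]
theorem hj7 : jobsChk 2 22 T pb (lf2 F24.cd om T gb 22 4) js7 = true := by decide +kernel

noncomputable def js8 : List Job := [([nat_lit 3], nat_lit 4, .s2 (.s2 (.s2 (.cj (nat_lit 0x22) (nat_lit 1) (nat_lit 0x1) (.cj (nat_lit 0x25) (nat_lit 1) (nat_lit 0x1) (.s2 (.s2 (.s2 (.cj (nat_lit 0x29) (nat_lit 1) (nat_lit 0x1) (.cj (nat_lit 0x2a) (nat_lit 1) (nat_lit 0x1) (.s2 (.cj (nat_lit 0x524) (nat_lit 1) (nat_lit 0x32) (.cj (nat_lit 0x20) (nat_lit 1) (nat_lit 0x6b2) (.cj (nat_lit 0x2e) (nat_lit 1) (nat_lit 0xd693) (.s2 (.s2 (.s2 (.cj (nat_lit 0x2b) (nat_lit 1) (nat_lit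 0x1) (.lf (nat_lit 0x112b3c17b38)))
 (.pw (nat_lit 1) (nat_lit 0x1)))
 (.s2 (.cj (nat_lit 0x27) (nat_lit 1) (nat_lit 0x1) (.lf (nat_lit 0x1222f51cd182b4043f3bd)))
 (.pw (nat_lit 1) (nat_lit 0x1))))
 (.s2 (.s2 (.pw (nat_lit 1) (nat_lit 0x1))
 (.cj (nat_lit 0x28) (nat_lit 1) (nat_lit 0x1) (.lf (nat_lit 0x1309951502329629377e1))))
 (.s2 (.pw (nat_lit 1) (nat_lit 0x1))
 (.cj (nat_lit 0x27) (nat_lit 1) (nat_lit 0x1) (.lf (nat_lit 0x10d4b20cc654270842cdf)))))))))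
 (.cj (nat_lit 0x524) (nat_lit 1) (nat_lit 0x32) (.cj (nat_lit 0x20) (nat_lit 1) (nat_lit 0x6b2) (.pw (nat_lit 1) (nat_lit 0xd693)))))))
 (.cj (nat_lit 0x24) (nat_lit 1) (nat_lit 0x6b2) (.cj (nat_lit 0x26) (nat_lit 1) (nat_lit 0x6b2) (.s2 (.s2 (.cj (nat_lit 0x20) (nat_lit 1) (nat_lit 0x6b2) (.cj (nat_lit 0x2e) (nat_lit 1) (nat_lit 0x33) (.cj (nat_lit 0x524) (nat_lit 1) (nat_lit 0x34) (.cj (nat_lit 0x2e51820) (nat_lit 1) (nat_lit 0x35) (.s2 (.pw (nat_lit 1) (nat_lit 0x1))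
 (.cj (nat_lit 0x2b) (nat_lit 1) (nat_lit 0x1) (.lf (nat_lit 0x12dadc092f72f4a438f20))))))))
 (.s2 (.cj (nat_lit 0x2e) (nat_lit 1) (nat_lit 0x33) (.cj (nat_lit 0x524) (nat_lit 1) (nat_lit 0x34) (.cj (nat_lit 0x172481) (nat_lit 1) (nat_lit 0x35) (.s2 (.cj (nat_lit 0x28) (nat_lit 1) (nat_lit 0x1) (.lf (nat_lit 0x13a92224ca72c9d63a926)))
 (.pw (nat_lit 1) (nat_lit 0x1))))))
 (.cj (nat_lit 0x2e) (nat_lit 1) (nat_lit 0x33) (.cj (nat_lit 0x5c1) (nat_lit 1) (nat_lit 0xd693) (.s2 (.s2 (.pw (nat_lit 1) (nat_lit 0x1))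
 (.cj (nat_lit 0x2b) (nat_lit 1) (nat_lit 0x1) (.lf (nat_lit 0x142aaa2efd53075b307f3))))
 (.s2 (.pw (nat_lit 1) (nat_lit 0x1))
 (.cj (nat_lit 0x27) (nat_lit 1) (nat_lit 0x1) (.lf (nat_lit 0x10338b03418)))))))))
 (.s2 (.cj (nat_lit 0x20) (nat_lit 1) (nat_lit 0x6b2) (.pw (nat_lit 1) (nat_lit 0x6b3)))
 (.s2 (.pw (nat_lit 1) (nat_lit 0x33))
 (.pw (nat_lit 1) (nat_lit 0x6b3))))))))
 (.s2 (.cj (nat_lit 0x29) (nat_lit 1) (nat_lit 0x1) (.pw (nat_lit 1) (nat_lit 0x1)))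
 (.cj (nat_lit 0x29) (nat_lit 1) (nat_lit 0x6b4) (.pw (nat_lit 1) (nat_lit 0x6b4)))))
 (.cj (nat_lit 0x21) (nat_lit 1) (nat_lit 0x35941cd) (.s2 (.pw (nat_lit 1) (nat_lit 0x1))
 (.pw (nat_lit 1) (nat_lit 0x6b4)))))))
 (.cj (nat_lit 0x22) (nat_lit 1) (nat_lit 0xd650) (.cj (nat_lit 0x25) (nat_lit 1) (nat_lit 0xcdaa) (.s2 (.s2 (.s2 (.cj (nat_lit 0x24) (nat_lit 1) (nat_lit 0x64f) (.pw (nat_lit 1) (nat_lit 0xd650)))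
 (.cj (nat_lit 0x24) (nat_lit 1) (nat_lit 0x1) (.pw (nat_lit 1) (nat_lit 0x6b2))))
 (.s2 (.cj (nat_lit 0x29) (nat_lit 1) (nat_lit 0x35a4e2e) (.cj (nat_lit 0x2a) (nat_lit 1) (nat_lit 0x1) (.s2 (.cj (nat_lit 0x524) (nat_lit 1) (nat_lit 0x32) (.pw (nat_lit 1) (nat_lit 0x6b2)))
 (.cj (nat_lit 0x524) (nat_lit 1) (nat_lit 0x32) (.pw (nat_lit 1) (nat_lit 0x1a4e51))))))
 (.cj (nat_lit 0x24) (nat_lit 1) (nat_lit 0xce2e) (.cj (nat_lit 0x28) (nat_lit 1) (nat_lit 0x33) (.s2 (.s2 (.cj (nat_lit 0x23) (nat_lit 1) (nat_lit 0x32) (.cj (nat_lit 0x2c) (nat_lit 1) (nat_lit 0x33) (.pw (nat_lit 1) (nat_lit 0x6b4))))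
 (.cj (nat_lit 0x2b) (nat_lit 1) (nat_lit 0x34) (.cj (nat_lit 0x2c) (nat_lit 1) (nat_lit 0x33) (.cj (nat_lit 0x2f) (nat_lit 1) (nat_lit 0x6b4) (.cj (nat_lit 0x548) (nat_lit 1) (nat_lit 0x35) (.s2 (.cj (nat_lit 0x30) (nat_lit 1) (nat_lit 0x1) (.lf (nat_lit 0x11e08d156142e8d636207)))
 (.pw (nat_lit 1) (nat_lit 0x1))))))))
 (.s2 (.cj (nat_lit 0x2b) (nat_lit 1) (nat_lit 0x35) (.pw (nat_lit 1) (nat_lit 0x1ad272)))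
 (.cj (nat_lit 0x2b) (nat_lit 1) (nat_lit 0x35) (.pw (nat_lit 1) (nat_lit 0x33)))))))))
 (.cj (nat_lit 0x21) (nat_lit 1) (nat_lit 0x35941cd) (.s2 (.pw (nat_lit 1) (nat_lit 0x6b28c1cd))
 (.pw (nat_lit 1) (nat_lit 0x1945cd))))))))
 (.s2 (.cj (nat_lit 0x22) (nat_lit 1) (nat_lit 0x1) (.pw (nat_lit 1) (nat_lit 0x1)))
 (.cj (nat_lit 0x22) (nat_lit 1) (nat_lit 0xd650) (.pw (nat_lit 1) (nat_lit 0x35941aa)))))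
 (.s2 (.cj (nat_lit 0x20) (nat_lit 1) (nat_lit 0x2d) (.cj (nat_lit 0x22) (nat_lit 1) (nat_lit 0x6af) (.cj (nat_lit 0x25) (nat_lit 1) (nat_lit 0xcd89) (.s2 (.s2 (.s2 (.pw (nat_lit 1) (nat_lit 0x64f))
 (.pw (nat_lit 1) (nat_lit 0x6b2)))
 (.s2 (.pw (nat_lit 1) (nat_lit 0x328bdcd))
 (.pw (nat_lit 1) (nat_lit 0x1945cd))))
 (.s2 (.s2 (.cj (nat_lit 0x29) (nat_lit 1) (nat_lit 0x1) (.cj (nat_lit 0x2a) (nat_lit 1) (nat_lit 0x35a4e2e) (.s2 (.pw (nat_lit 1) (nat_lit 0x32))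
 (.pw (nat_lit 1) (nat_lit 0x35a4e51)))))
 (.cj (nat_lit 0x28) (nat_lit 1) (nat_lit 0x33) (.cj (nat_lit 0x26) (nat_lit 1) (nat_lit 0xce2e) (.s2 (.cj (nat_lit 0x23) (nat_lit 1) (nat_lit 0x6b2) (.s2 (.cj (nat_lit 0x2d) (nat_lit 1) (nat_lit 0x33) (.pw (nat_lit 1) (nat_lit 0x6b4)))
 (.cj (nat_lit 0x2d) (nat_lit 1) (nat_lit 0x33) (.cj (nat_lit 0x30) (nat_lit 1) (nat_lit 0x6b4) (.cj (nat_lit 0x528) (nat_lit 1) (nat_lit 0x35) (.s2 (.cj (nat_lit 0x2f) (nat_lit 1) (nat_lit 0x1) (.lf (nat_lit 0x1241f0246c02d20b3f058)))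
 (.pw (nat_lit 1) (nat_lit 0x1))))))))
 (.cj (nat_lit 0x2b) (nat_lit 1) (nat_lit 0x1) (.s2 (.pw (nat_lit 1) (nat_lit 0x1ad272))
 (.pw (nat_lit 1) (nat_lit 0x33))))))))
 (.s2 (.cj (nat_lit 0x28) (nat_lit 1) (nat_lit 0x1) (.pw (nat_lit 1) (nat_lit 0x33945ee)))
 (.cj (nat_lit 0x28) (nat_lit 1) (nat_lit 0x1) (.pw (nat_lit 1) (nat_lit 0x349ca2e)))))))))
 (.cj (nat_lit 0x20) (nat_lit 1) (nat_lit 0x2d) (.cj (nat_lit 0x22) (nat_lit 1) (nat_lit 0x6af) (.pw (nat_lit 1) (nat_lit 0x19c9e9))))))]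
theorem hj8 : jobsChk 2 22 T pb (lf2 F24.cd om T gb 22 4) js8 = true := by decide +kernel

noncomputable def js9 : List Job := [([nat_lit 4], nat_lit 5, .s2 (.cj (nat_lit 0x20) (nat_lit 1) (nat_lit 0x1) (.s2 (.s2 (.cj (nat_lit 0x25) (nat_lit 1) (nat_lit 0x1) (.s2 (.s2 (.cj (nat_lit 0x28) (nat_lit 1) (nat_lit 0x1) (.s2 (.cj (nat_lit 0x2a) (nat_lit 1) (nat_lit 0x1) (.cj (nat_lit 0x22) (nat_lit 1) (nat_lit 0x1) (.s2 (.cj (nat_lit 0x2d) (nat_lit 1) (nat_lit 0x1) (.cj (nat_lit 0x30) (nat_lit 1) (nat_lit 0x1) (.s2 (.s2 (.s2 (.lf (nat_lit 0x134e22405c3))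
 (.lf (nat_lit 0x10dfe108902094531134b)))
 (.cj (nat_lit 0x182d03) (nat_lit 1) (nat_lit 0x1) (.lf (nat_lit 0x121d082a2502ba034a94b))))
 (.cj (nat_lit 0x562) (nat_lit 1) (nat_lit 0x1) (.cj (nat_lit 0x567) (nat_lit 1) (nat_lit 0x1) (.lf (nat_lit 0x1001a6002a1406eb465a5)))))))
 (.cj (nat_lit 0x2d) (nat_lit 1) (nat_lit 0x1) (.pw (nat_lit 1) (nat_lit 0x1))))))
 (.cj (nat_lit 0x2a) (nat_lit 1) (nat_lit 0x1) (.cj (nat_lit 0x27) (nat_lit 1) (nat_lit 0x35) (.cj (nat_lit 0x562) (nat_lit 1) (nat_lit 0x6b2) (.pw (nat_lit 1) (nat_lit 0x1)))))))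
 (.cj (nat_lit 0x28) (nat_lit 1) (nat_lit 0x1) (.s2 (.cj (nat_lit 0x2a) (nat_lit 1) (nat_lit 0x34) (.pw (nat_lit 1) (nat_lit 0x1)))
 (.cj (nat_lit 0x2a) (nat_lit 1) (nat_lit 0x34) (.pw (nat_lit 1) (nat_lit 0x31))))))
 (.s2 (.cj (nat_lit 0x28) (nat_lit 1) (nat_lit 0x33) (.cj (nat_lit 0x503) (nat_lit 1) (nat_lit 0x19ca2f) (.pw (nat_lit 1) (nat_lit 0x1))))
 (.cj (nat_lit 0x28) (nat_lit 1) (nat_lit 0x33) (.cj (nat_lit 0x503) (nat_lit 1) (nat_lit 0x359ca2f) (.pw (nat_lit 1) (nat_lit 0x2f)))))))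
 (.cj (nat_lit 0x25) (nat_lit 1) (nat_lit 0x1) (.s2 (.cj (nat_lit 0x22) (nat_lit 1) (nat_lit 0x35) (.pw (nat_lit 1) (nat_lit 0x1)))
 (.cj (nat_lit 0x22) (nat_lit 1) (nat_lit 0x35) (.pw (nat_lit 1) (nat_lit 0x2e))))))
 (.s2 (.cj (nat_lit 0x25) (nat_lit 1) (nat_lit 0xd1eb) (.s2 (.s2 (.cj (nat_lit 0x28) (nat_lit 1) (nat_lit 0x35) (.s2 (.cj (nat_lit 0x2a) (nat_lit 1) (nat_lit 0xd650) (.pw (nat_lit 1) (nat_lit 0x1)))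
 (.cj (nat_lit 0x2a) (nat_lit 1) (nat_lit 0xd650) (.pw (nat_lit 1) (nat_lit 0x31)))))
 (.cj (nat_lit 0x28) (nat_lit 1) (nat_lit 0x35) (.s2 (.cj (nat_lit 0x2a) (nat_lit 1) (nat_lit 0x1ad250) (.cj (nat_lit 0x22) (nat_lit 1) (nat_lit 0x1) (.s2 (.cj (nat_lit 0x2d) (nat_lit 1) (nat_lit 0x1) (.cj (nat_lit 0x2e) (nat_lit 1) (nat_lit 0x1) (.s2 (.cj (nat_lit 0x569) (nat_lit 1) (nat_lit 0x1) (.cj (nat_lit 0x33) (nat_lit 1) (nat_lit 0x1) (.lf (nat_lit 0x11022114f092da31351aa))))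
 (.cj (nat_lit 0x562) (nat_lit 1) (nat_lit 0x1) (.pw (nat_lit 1) (nat_lit 0x1))))))
 (.cj (nat_lit 0x2d) (nat_lit 1) (nat_lit 0x1) (.pw (nat_lit 1) (nat_lit 0x1))))))
 (.cj (nat_lit 0x2a) (nat_lit 1) (nat_lit 0x1ad250) (.cj (nat_lit 0x27) (nat_lit 1) (nat_lit 0x35) (.cj (nat_lit 0x562) (nat_lit 1) (nat_lit 0x6b2) (.pw (nat_lit 1) (nat_lit 0x1))))))))
 (.s2 (.cj (nat_lit 0x28) (nat_lit 1) (nat_lit 0x33) (.cj (nat_lit 0x503) (nat_lit 1) (nat_lit 0x359ca2f) (.pw (nat_lit 1) (nat_lit 0x35a4a0f))))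
 (.cj (nat_lit 0x28) (nat_lit 1) (nat_lit 0x33) (.cj (nat_lit 0x503) (nat_lit 1) (nat_lit 0x19ca2f) (.pw (nat_lit 1) (nat_lit 0x1ad250)))))))
 (.cj (nat_lit 0x25) (nat_lit 1) (nat_lit 0xd1eb) (.s2 (.cj (nat_lit 0x22) (nat_lit 1) (nat_lit 0x35) (.pw (nat_lit 1) (nat_lit 0x2f)))
 (.cj (nat_lit 0x22) (nat_lit 1) (nat_lit 0x35) (.pw (nat_lit 1) (nat_lit 0x34941ee))))))))
 (.cj (nat_lit 0x20) (nat_lit 1) (nat_lit 0x1) (.s2 (.cj (nat_lit 0x23) (nat_lit 1) (nat_lit 0x64f) (.pw (nat_lit 1) (nat_lit 0x1)))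
 (.cj (nat_lit 0x23) (nat_lit 1) (nat_lit 0x64f) (.pw (nat_lit 1) (nat_lit 0x5eb)))))),
 ([nat_lit 5], nat_lit 6, .s2 (.s2 (.cj (nat_lit 0x23) (nat_lit 1) (nat_lit 0x1) (.cj (nat_lit 0x24) (nat_lit 1) (nat_lit 0x1) (.cj (nat_lit 0x26) (nat_lit 1) (nat_lit 0x1) (.cj (nat_lit 0x27) (nat_lit 1) (nat_lit 0x1) (.s2 (.s2 (.cj (nat_lit 0x21) (nat_lit 1) (nat_lit 0x35) (.s2 (.s2 (.s2 (.s2 (.cj (nat_lit 0x2c) (nat_lit 1) (nat_lit 0x1) (.cj (nat_lit 0x2f) (nat_lit 1) (nat_lit 0x1) (.s2 (.lf (nat_lit 0x100e3203681))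
 (.lf (nat_lit 0x103743010a20263f038b7)))))
 (.cj (nat_lit 0x2c) (nat_lit 1) (nat_lit 0x1) (.pw (nat_lit 1) (nat_lit 0x1))))
 (.cj (nat_lit 0x22) (nat_lit 1) (nat_lit 0x6b4) (.pw (nat_lit 1) (nat_lit 0x1))))
 (.s2 (.s2 (.cj (nat_lit 0x2d) (nat_lit 1) (nat_lit 0x1) (.pw (nat_lit 1) (nat_lit 0x1)))
 (.cj (nat_lit 0x2d) (nat_lit 1) (nat_lit 0x1) (.cj (nat_lit 0x29) (nat_lit 1) (nat_lit 0x1) (.cj (nat_lit 0x62c) (nat_lit 1) (nat_lit 0x1) (.lf (nat_lit 0x13f5b02ca0f2ec8e3f5ae))))))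
 (.cj (nat_lit 0x22) (nat_lit 1) (nat_lit 0x6b4) (.pw (nat_lit 1) (nat_lit 0x34)))))
 (.cj (nat_lit 0x20) (nat_lit 1) (nat_lit 0x6b2) (.s2 (.s2 (.cj (nat_lit 0x2c) (nat_lit 1) (nat_lit 0x1) (.pw (nat_lit 1) (nat_lit 0x1)))
 (.cj (nat_lit 0x2c) (nat_lit 1) (nat_lit 0x1) (.cj (nat_lit 0x2a) (nat_lit 1) (nat_lit 0x1) (.cj (nat_lit 0x62d) (nat_lit 1) (nat_lit 0x1) (.lf (nat_lit 0x146d552111a3a7e544361))))))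
 (.cj (nat_lit 0x22) (nat_lit 1) (nat_lit 0x6b4) (.pw (nat_lit 1) (nat_lit 0x34)))))))
 (.cj (nat_lit 0x21) (nat_lit 1) (nat_lit 0x35) (.s2 (.cj (nat_lit 0x22) (nat_lit 1) (nat_lit 0x34) (.s2 (.s2 (.pw (nat_lit 1) (nat_lit 0x1))
 (.pw (nat_lit 1) (nat_lit 0x34)))
 (.s2 (.cj (nat_lit 0x29) (nat_lit 1) (nat_lit 0x1) (.cj (nat_lit 0x30) (nat_lit 1) (nat_lit 0x1) (.cj (nat_lit 0x64f) (nat_lit 1) (nat_lit 0x1) (.lf (nat_lit 0x1175181877c3e1e746d3b)))))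
 (.cj (nat_lit 0x29) (nat_lit 1) (nat_lit 0x1) (.pw (nat_lit 1) (nat_lit 0x1))))))
 (.cj (nat_lit 0x22) (nat_lit 1) (nat_lit 0x34) (.s2 (.cj (nat_lit 0x440) (nat_lit 1) (nat_lit 0x6b4) (.pw (nat_lit 1) (nat_lit 0x6b4)))
 (.s2 (.cj (nat_lit 0x29) (nat_lit 1) (nat_lit 0x1) (.pw (nat_lit 1) (nat_lit 0x35)))
 (.cj (nat_lit 0x29) (nat_lit 1) (nat_lit 0x1) (.cj (nat_lit 0x2a) (nat_lit 1) (nat_lit 0x1) (.pw (nat_lit 1) (nat_lit 0x1))))))))))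
 (.cj (nat_lit 0x20) (nat_lit 1) (nat_lit 0x31) (.cj (nat_lit 0x420) (nat_lit 1) (nat_lit 0x35) (.cj (nat_lit 0x22) (nat_lit 1) (nat_lit 0x34) (.s2 (.s2 (.s2 (.pw (nat_lit 1) (nat_lit 0x1))
 (.pw (nat_lit 1) (nat_lit 0x34)))
 (.s2 (.cj (nat_lit 0x2a) (nat_lit 1) (nat_lit 0x1) (.cj (nat_lit 0x2f) (nat_lit 1) (nat_lit 0x1) (.cj (nat_lit 0x650) (nat_lit 1) (nat_lit 0x1) (.lf (nat_lit 0x104f6201eff4270043aeb)))))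
 (.cj (nat_lit 0x2a) (nat_lit 1) (nat_lit 0x1) (.pw (nat_lit 1) (nat_lit 0x1)))))
 (.s2 (.s2 (.pw (nat_lit 1) (nat_lit 0x6b4))
 (.pw (nat_lit 1) (nat_lit 0x35)))
 (.s2 (.cj (nat_lit 0x2a) (nat_lit 1) (nat_lit 0x1) (.pw (nat_lit 1) (nat_lit 0x35)))
 (.cj (nat_lit 0x2a) (nat_lit 1) (nat_lit 0x1) (.cj (nat_lit 0x29) (nat_lit 1) (nat_lit 0x1) (.pw (nat_lit 1) (nat_lit 0x1)))))))))))))))
 (.cj (nat_lit 0x23) (nat_lit 1) (nat_lit 0x1) (.cj (nat_lit 0x24) (nat_lit 1) (nat_lit 0x68f) (.cj (nat_lit 0x26) (nat_lit 1) (nat_lit 0xd690) (.pw (nat_lit 1) (nat_lit 0x1))))))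
 (.s2 (.cj (nat_lit 0x23) (nat_lit 1) (nat_lit 0x359ca0d) (.cj (nat_lit 0x24) (nat_lit 1) (nat_lit 0x1) (.pw (nat_lit 1) (nat_lit 0x1))))
 (.cj (nat_lit 0x23) (nat_lit 1) (nat_lit 0x359ca0d) (.cj (nat_lit 0x24) (nat_lit 1) (nat_lit 0x64f) (.pw (nat_lit 1) (nat_lit 0x68b))))))]
theorem hj9 : jobsChk 2 22 T pb (lf2 F24.cd om T gb 22 4) js9 = true := by decide +kernel

noncomputable def js10 : List Job := [([nat_lit 6], nat_lit 7, .s2 (.s2 (.s2 (.cj (nat_lit 0x25) (nat_lit 1) (nat_lit 0x1) (.s2 (.s2 (.cj (nat_lit 0x28) (nat_lit 1) (nat_lit 0x1) (.cj (nat_lit 0x29) (nat_lit 1) (nat_lit 0x1) (.s2 (.cj (nat_lit 0x27) (nat_lit 1) (nat_lit 0x35) (.cj (nat_lit 0x2c) (nat_lit 1) (nat_lit 0x1) (.cj (nat_lit 0x2f) (nat_lit 1) (nat_lit 0x1) (.s2 (.s2 (.s2 (.lf (nat_lit 0x1000000000a))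
 (.lf (nat_lit 0x1000f20000a002a807bb7)))
 (.cj (nat_lit 0x17ad03) (nat_lit 1) (nat_lit 0x1) (.lf (nat_lit 0x1114e008f3008fdd11f36))))
 (.cj (nat_lit 0xbd62) (nat_lit 1) (nat_lit 0x1) (.cj (nat_lit 0x567) (nat_lit 1) (nat_lit 0x1) (.lf (nat_lit 0x10000a0001200069002a8))))))))
 (.cj (nat_lit 0x27) (nat_lit 1) (nat_lit 0x35) (.cj (nat_lit 0x2c) (nat_lit 1) (nat_lit 0x1) (.pw (nat_lit 1) (nat_lit 0x1)))))))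
 (.cj (nat_lit 0x28) (nat_lit 1) (nat_lit 0x1) (.cj (nat_lit 0x29) (nat_lit 1) (nat_lit 0x1) (.cj (nat_lit 0x22) (nat_lit 1) (nat_lit 0x6b0) (.cj (nat_lit 0x27) (nat_lit 1) (nat_lit 0x1) (.pw (nat_lit 1) (nat_lit 0x1)))))))
 (.s2 (.cj (nat_lit 0x28) (nat_lit 1) (nat_lit 0x1) (.cj (nat_lit 0x29) (nat_lit 1) (nat_lit 0x34) (.cj (nat_lit 0x24) (nat_lit 1) (nat_lit 0x32) (.pw (nat_lit 1) (nat_lit 0x35)))))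
 (.cj (nat_lit 0x28) (nat_lit 1) (nat_lit 0x1) (.cj (nat_lit 0x29) (nat_lit 1) (nat_lit 0x34) (.cj (nat_lit 0x24) (nat_lit 1) (nat_lit 0x32) (.pw (nat_lit 1) (nat_lit 0x6b1))))))))
 (.cj (nat_lit 0x25) (nat_lit 1) (nat_lit 0x1) (.s2 (.cj (nat_lit 0x23) (nat_lit 1) (nat_lit 0x359460d) (.cj (nat_lit 0x28) (nat_lit 1) (nat_lit 0x33) (.pw (nat_lit 1) (nat_lit 0x1))))
 (.cj (nat_lit 0x23) (nat_lit 1) (nat_lit 0x19460d) (.cj (nat_lit 0x28) (nat_lit 1) (nat_lit 0x33) (.pw (nat_lit 1) (nat_lit 0x6b0)))))))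
 (.s2 (.cj (nat_lit 0x25) (nat_lit 1) (nat_lit 0x1) (.cj (nat_lit 0x22) (nat_lit 1) (nat_lit 0x6b2) (.cj (nat_lit 0x24) (nat_lit 1) (nat_lit 0x31) (.pw (nat_lit 1) (nat_lit 0x1)))))
 (.cj (nat_lit 0x25) (nat_lit 1) (nat_lit 0x1) (.cj (nat_lit 0x22) (nat_lit 1) (nat_lit 0xd692) (.cj (nat_lit 0x24) (nat_lit 1) (nat_lit 0x31) (.pw (nat_lit 1) (nat_lit 0x2e)))))))
 (.s2 (.s2 (.cj (nat_lit 0x25) (nat_lit 1) (nat_lit 0x1ad20b) (.s2 (.s2 (.cj (nat_lit 0x28) (nat_lit 1) (nat_lit 0x35) (.cj (nat_lit 0x29) (nat_lit 1) (nat_lit 0x64f) (.cj (nat_lit 0x24) (nat_lit 1) (nat_lit 0x32) (.pw (nat_lit 1) (nat_lit 0x35)))))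
 (.cj (nat_lit 0x20) (nat_lit 1) (nat_lit 0x31) (.cj (nat_lit 0x29) (nat_lit 1) (nat_lit 0x64f) (.cj (nat_lit 0x24) (nat_lit 1) (nat_lit 0x32) (.pw (nat_lit 1) (nat_lit 0x6b1))))))
 (.s2 (.cj (nat_lit 0x28) (nat_lit 1) (nat_lit 0x35) (.cj (nat_lit 0x29) (nat_lit 1) (nat_lit 0xd24f) (.s2 (.cj (nat_lit 0x27) (nat_lit 1) (nat_lit 0x35) (.cj (nat_lit 0x2c) (nat_lit 1) (nat_lit 0x1) (.cj (nat_lit 0x2e) (nat_lit 1) (nat_lit 0x1) (.s2 (.cj (nat_lit 0x56a) (nat_lit 1) (nat_lit 0x1) (.cj (nat_lit 0x33) (nat_lit 1) (nat_lit 0x1) (.lf (nat_lit 0x12b5db0d6dd0d6df2b5dc))))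
 (.cj (nat_lit 0x56a) (nat_lit 1) (nat_lit 0x1) (.pw (nat_lit 1) (nat_lit 0x1)))))))
 (.cj (nat_lit 0x27) (nat_lit 1) (nat_lit 0x35) (.cj (nat_lit 0x2c) (nat_lit 1) (nat_lit 0x1) (.pw (nat_lit 1) (nat_lit 0x1)))))))
 (.cj (nat_lit 0x20) (nat_lit 1) (nat_lit 0x31) (.cj (nat_lit 0x29) (nat_lit 1) (nat_lit 0xd24f) (.cj (nat_lit 0x22) (nat_lit 1) (nat_lit 0x6b0) (.cj (nat_lit 0x27) (nat_lit 1) (nat_lit 0x1) (.pw (nat_lit 1) (nat_lit 0x1)))))))))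
 (.cj (nat_lit 0x25) (nat_lit 1) (nat_lit 0x1ad20b) (.cj (nat_lit 0x4a0) (nat_lit 1) (nat_lit 0xd24e) (.cj (nat_lit 0x23) (nat_lit 1) (nat_lit 0x19460d) (.cj (nat_lit 0x28) (nat_lit 1) (nat_lit 0x33) (.pw (nat_lit 1) (nat_lit 0x35a4a0f)))))))
 (.s2 (.cj (nat_lit 0x25) (nat_lit 1) (nat_lit 0x1ad20b) (.cj (nat_lit 0x22) (nat_lit 1) (nat_lit 0x6b2) (.cj (nat_lit 0x24) (nat_lit 1) (nat_lit 0x1aca2f) (.pw (nat_lit 1) (nat_lit 0x6b0)))))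
 (.cj (nat_lit 0x25) (nat_lit 1) (nat_lit 0x1ad20b) (.cj (nat_lit 0x22) (nat_lit 1) (nat_lit 0xd692) (.cj (nat_lit 0x23) (nat_lit 1) (nat_lit 0x19460d) (.pw (nat_lit 1) (nat_lit 0x34941ee)))))))),
 ([nat_lit 7], nat_lit 8, .s2 (.s2 (.s2 (.cj (nat_lit 0x25) (nat_lit 1) (nat_lit 0x1) (.s2 (.s2 (.s2 (.cj (nat_lit 0x24) (nat_lit 1) (nat_lit 0x1) (.cj (nat_lit 0x26) (nat_lit 1) (nat_lit 0x35) (.cj (nat_lit 0x21) (nat_lit 1) (nat_lit 0xd693) (.cj (nat_lit 0x2e) (nat_lit 1) (nat_lit 0x34) (.s2 (.s2 (.cj (nat_lit 0x28) (nat_lit 1) (nat_lit 0x1) (.lf (nat_lit 0x10387b0372d0388703e08)))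
 (.cj (nat_lit 0x23) (nat_lit 1) (nat_lit 0x1) (.lf (nat_lit 0x10338b0338c))))
 (.cj (nat_lit 0x22) (nat_lit 1) (nat_lit 0x1) (.pw (nat_lit 1) (nat_lit 0x1))))))))
 (.cj (nat_lit 0x24) (nat_lit 1) (nat_lit 0x1) (.cj (nat_lit 0x26) (nat_lit 1) (nat_lit 0x35) (.cj (nat_lit 0x21) (nat_lit 1) (nat_lit 0xd693) (.pw (nat_lit 1) (nat_lit 0x34))))))
 (.s2 (.cj (nat_lit 0x24) (nat_lit 1) (nat_lit 0x6b1) (.cj (nat_lit 0x22) (nat_lit 1) (nat_lit 0x1) (.cj (nat_lit 0x21) (nat_lit 1) (nat_lit 0xd693) (.cj (nat_lit 0x2e) (nat_lit 1) (nat_lit 0x34) (.s2 (.cj (nat_lit 0xa481) (nat_lit 1) (nat_lit 0x35) (.pw (nat_lit 1) (nat_lit 0x1)))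
 (.cj (nat_lit 0x542) (nat_lit 1) (nat_lit 0x35) (.cj (nat_lit 0x28) (nat_lit 1) (nat_lit 0x1) (.lf (nat_lit 0x106309037e10477a077ee)))))))))
 (.cj (nat_lit 0x24) (nat_lit 1) (nat_lit 0x6b1) (.cj (nat_lit 0x22) (nat_lit 1) (nat_lit 0x34) (.cj (nat_lit 0x21) (nat_lit 1) (nat_lit 0xd693) (.pw (nat_lit 1) (nat_lit 0x6b4)))))))
 (.cj (nat_lit 0x20) (nat_lit 1) (nat_lit 0x31) (.s2 (.cj (nat_lit 0x22) (nat_lit 1) (nat_lit 0x1) (.cj (nat_lit 0x26) (nat_lit 1) (nat_lit 0x31) (.cj (nat_lit 0x546) (nat_lit 1) (nat_lit 0x33) (.cj (nat_lit 0x2e) (nat_lit 1) (nat_lit 0x34) (.s2 (.cj (nat_lit 0x151820) (nat_lit 1) (nat_lit 0x35) (.pw (nat_lit 1) (nat_lit 0x1)))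
 (.cj (nat_lit 0x522) (nat_lit 1) (nat_lit 0x1) (.cj (nat_lit 0x28) (nat_lit 1) (nat_lit 0x1) (.lf (nat_lit 0x142fd20edca298a72dd07)))))))))
 (.cj (nat_lit 0x24) (nat_lit 1) (nat_lit 0x1) (.cj (nat_lit 0x26) (nat_lit 1) (nat_lit 0x31) (.cj (nat_lit 0x23) (nat_lit 1) (nat_lit 0xd693) (.pw (nat_lit 1) (nat_lit 0x6b4)))))))))
 (.cj (nat_lit 0x25) (nat_lit 1) (nat_lit 0x1) (.s2 (.cj (nat_lit 0x23) (nat_lit 1) (nat_lit 0x35) (.cj (nat_lit 0x24) (nat_lit 1) (nat_lit 0xd24f) (.cj (nat_lit 0x29) (nat_lit 1) (nat_lit 0x1) (.pw (nat_lit 1) (nat_lit 0x35)))))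
 (.cj (nat_lit 0x20) (nat_lit 1) (nat_lit 0x31) (.cj (nat_lit 0x24) (nat_lit 1) (nat_lit 0xd24f) (.cj (nat_lit 0x29) (nat_lit 1) (nat_lit 0x1) (.pw (nat_lit 1) (nat_lit 0x33))))))))
 (.cj (nat_lit 0x20) (nat_lit 1) (nat_lit 0x35a4a0e) (.cj (nat_lit 0x25) (nat_lit 1) (nat_lit 0x1) (.cj (nat_lit 0x23) (nat_lit 1) (nat_lit 0x35) (.s2 (.cj (nat_lit 0x26) (nat_lit 1) (nat_lit 0x1ad250) (.pw (nat_lit 1) (nat_lit 0x1)))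
 (.cj (nat_lit 0x26) (nat_lit 1) (nat_lit 0x1ad250) (.pw (nat_lit 1) (nat_lit 0x6b3))))))))
 (.s2 (.s2 (.cj (nat_lit 0x25) (nat_lit 1) (nat_lit 0x1) (.cj (nat_lit 0x24) (nat_lit 1) (nat_lit 0x6af) (.cj (nat_lit 0x26) (nat_lit 1) (nat_lit 0x30) (.s2 (.cj (nat_lit 0x29) (nat_lit 1) (nat_lit 0x6b3) (.cj (nat_lit 0x2a) (nat_lit 1) (nat_lit 0x33) (.s2 (.cj (nat_lit 0x2e) (nat_lit 1) (nat_lit 0xd693) (.s2 (.s2 (.pw (nat_lit 1) (nat_lit 0x1))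
 (.pw (nat_lit 1) (nat_lit 0x1)))
 (.cj (nat_lit 0x4a2) (nat_lit 1) (nat_lit 0x35) (.cj (nat_lit 0x28) (nat_lit 1) (nat_lit 0x1) (.lf (nat_lit 0x110be510bf211331114c5))))))
 (.cj (nat_lit 0x2e) (nat_lit 1) (nat_lit 0xd693) (.s2 (.s2 (.cj (nat_lit 0x23) (nat_lit 1) (nat_lit 0x1) (.lf (nat_lit 0x1004ac004ad)))
 (.cj (nat_lit 0x28) (nat_lit 1) (nat_lit 0x1) (.lf (nat_lit 0x12e3581e5d61f3902405e))))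
 (.cj (nat_lit 0xb8a2) (nat_lit 1) (nat_lit 0x35) (.pw (nat_lit 1) (nat_lit 0x1))))))))
 (.cj (nat_lit 0x29) (nat_lit 1) (nat_lit 0x6b3) (.cj (nat_lit 0x2a) (nat_lit 1) (nat_lit 0x33) (.cj (nat_lit 0x23) (nat_lit 1) (nat_lit 0xd693) (.pw (nat_lit 1) (nat_lit 0x693)))))))))
 (.cj (nat_lit 0x25) (nat_lit 1) (nat_lit 0x1) (.cj (nat_lit 0x24) (nat_lit 1) (nat_lit 0x349c9ee) (.cj (nat_lit 0x23) (nat_lit 1) (nat_lit 0x35) (.s2 (.cj (nat_lit 0x29) (nat_lit 1) (nat_lit 0x6b3) (.pw (nat_lit 1) (nat_lit 0x6b3)))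
 (.cj (nat_lit 0x29) (nat_lit 1) (nat_lit 0x6b3) (.pw (nat_lit 1) (nat_lit 0x692))))))))
 (.cj (nat_lit 0x20) (nat_lit 1) (nat_lit 0x35a4a0e) (.cj (nat_lit 0x25) (nat_lit 1) (nat_lit 0x1) (.cj (nat_lit 0x23) (nat_lit 1) (nat_lit 0x35) (.cj (nat_lit 0x26) (nat_lit 1) (nat_lit 0x6b49ca0e) (.s2 (.pw (nat_lit 1) (nat_lit 0x33))
 (.pw (nat_lit 1) (nat_lit 0xd692)))))))))]
theorem hj10 : jobsChk 2 22 T pb (lf2 F24.cd om T gb 22 4) js10 = true := by decide +kernel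

noncomputable def js11 : List Job := [([nat_lit 8], nat_lit 9, .s2 (.s2 (.cj (nat_lit 0x22) (nat_lit 1) (nat_lit 0x35) (.cj (nat_lit 0x24) (nat_lit 1) (nat_lit 0x1) (.cj (nat_lit 0x26) (nat_lit 1) (nat_lit 0x1) (.s2 (.s2 (.s2 (.cj (nat_lit 0x21) (nat_lit 1) (nat_lit 0xd693) (.s2 (.cj (nat_lit 0x29) (nat_lit 1) (nat_lit 0x1) (.s2 (.cj (nat_lit 0x27) (nat_lit 1) (nat_lit 0x1) (.lf (nat_lit 0x100e3200eae)))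
 (.cj (nat_lit 0x23) (nat_lit 1) (nat_lit 0x1) (.lf (nat_lit 0x12b032083e718ba2217cf)))))
 (.cj (nat_lit 0x29) (nat_lit 1) (nat_lit 0x1) (.cj (nat_lit 0x25) (nat_lit 1) (nat_lit 0x1) (.pw (nat_lit 1) (nat_lit 0x1))))))
 (.cj (nat_lit 0x21) (nat_lit 1) (nat_lit 0xd693) (.s2 (.cj (nat_lit 0x2a) (nat_lit 1) (nat_lit 0x1) (.cj (nat_lit 0x25) (nat_lit 1) (nat_lit 0x1) (.pw (nat_lit 1) (nat_lit 0x1))))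
 (.cj (nat_lit 0x2a) (nat_lit 1) (nat_lit 0x1) (.cj (nat_lit 0x5c9) (nat_lit 1) (nat_lit 0x1) (.cj (nat_lit 0x27) (nat_lit 1) (nat_lit 0x1) (.lf (nat_lit 0x104d2302d5303b1607346))))))))
 (.cj (nat_lit 0x20) (nat_lit 1) (nat_lit 0x6b2) (.cj (nat_lit 0x420) (nat_lit 1) (nat_lit 0xd693) (.s2 (.cj (nat_lit 0x29) (nat_lit 1) (nat_lit 0x1) (.cj (nat_lit 0x25) (nat_lit 1) (nat_lit 0x1) (.pw (nat_lit 1) (nat_lit 0x1))))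
 (.cj (nat_lit 0x29) (nat_lit 1) (nat_lit 0x1) (.cj (nat_lit 0x5ca) (nat_lit 1) (nat_lit 0x1) (.cj (nat_lit 0x27) (nat_lit 1) (nat_lit 0x1) (.lf (nat_lit 0x1310140ea8121b0748365)))))))))
 (.s2 (.s2 (.cj (nat_lit 0x21) (nat_lit 1) (nat_lit 0xd693) (.cj (nat_lit 0x27) (nat_lit 1) (nat_lit 0x34) (.pw (nat_lit 1) (nat_lit 0x1))))
 (.cj (nat_lit 0x23) (nat_lit 1) (nat_lit 0x693) (.cj (nat_lit 0x27) (nat_lit 1) (nat_lit 0x34) (.pw (nat_lit 1) (nat_lit 0x35)))))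
 (.cj (nat_lit 0x20) (nat_lit 1) (nat_lit 0x6b2) (.cj (nat_lit 0x23) (nat_lit 1) (nat_lit 0x693) (.cj (nat_lit 0x27) (nat_lit 1) (nat_lit 0x34) (.pw (nat_lit 1) (nat_lit 0x35))))))))))
 (.cj (nat_lit 0x22) (nat_lit 1) (nat_lit 0x35) (.cj (nat_lit 0x24) (nat_lit 1) (nat_lit 0x66e) (.cj (nat_lit 0x23) (nat_lit 1) (nat_lit 0x1) (.s2 (.s2 (.cj (nat_lit 0x27) (nat_lit 1) (nat_lit 0x35) (.cj (nat_lit 0x21) (nat_lit 1) (nat_lit 0xd693) (.s2 (.pw (nat_lit 1) (nat_lit 0x1))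
 (.pw (nat_lit 1) (nat_lit 0x35)))))
 (.cj (nat_lit 0x27) (nat_lit 1) (nat_lit 0x35) (.cj (nat_lit 0x4e1) (nat_lit 1) (nat_lit 0x1ad272) (.cj (nat_lit 0x4e0) (nat_lit 1) (nat_lit 0x1) (.pw (nat_lit 1) (nat_lit 0x6b4))))))
 (.s2 (.cj (nat_lit 0x27) (nat_lit 1) (nat_lit 0x692) (.cj (nat_lit 0x21) (nat_lit 1) (nat_lit 0xd693) (.s2 (.cj (nat_lit 0x29) (nat_lit 1) (nat_lit 0x1) (.cj (nat_lit 0x2f) (nat_lit 1) (nat_lit 0x35) (.cj (nat_lit 0x30) (nat_lit 1) (nat_lit 0x1) (.lf (nat_lit 0x1499b808bf709a1245283)))))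
 (.cj (nat_lit 0x29) (nat_lit 1) (nat_lit 0x1) (.cj (nat_lit 0x25) (nat_lit 1) (nat_lit 0x1) (.pw (nat_lit 1) (nat_lit 0x1)))))))
 (.cj (nat_lit 0x20) (nat_lit 1) (nat_lit 0x6b2) (.cj (nat_lit 0x4e1) (nat_lit 1) (nat_lit 0x33) (.cj (nat_lit 0x6b039861) (nat_lit 1) (nat_lit 0x34) (.cj (nat_lit 0x29) (nat_lit 1) (nat_lit 0x1) (.pw (nat_lit 1) (nat_lit 0x35))))))))))))
 (.cj (nat_lit 0x20) (nat_lit 1) (nat_lit 0x2e) (.cj (nat_lit 0x22) (nat_lit 1) (nat_lit 0x6b4) (.cj (nat_lit 0x23) (nat_lit 1) (nat_lit 0x1) (.cj (nat_lit 0x26) (nat_lit 1) (nat_lit 0x66e) (.s2 (.cj (nat_lit 0x27) (nat_lit 1) (nat_lit 0x1) (.s2 (.cj (nat_lit 0x420) (nat_lit 1) (nat_lit 0xd693) (.s2 (.pw (nat_lit 1) (nat_lit 0x1))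
 (.pw (nat_lit 1) (nat_lit 0x35))))
 (.cj (nat_lit 0x420) (nat_lit 1) (nat_lit 0xd693) (.cj (nat_lit 0x483) (nat_lit 1) (nat_lit 0x35) (.pw (nat_lit 1) (nat_lit 0x6b4))))))
 (.cj (nat_lit 0x27) (nat_lit 1) (nat_lit 0xd692) (.s2 (.cj (nat_lit 0x420) (nat_lit 1) (nat_lit 0xd693) (.s2 (.cj (nat_lit 0x29) (nat_lit 1) (nat_lit 0x1) (.cj (nat_lit 0x30) (nat_lit 1) (nat_lit 0x35) (.cj (nat_lit 0x2f) (nat_lit 1) (nat_lit 0x1) (.lf (nat_lit 0x10747406c8949b3f4a678)))))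
 (.cj (nat_lit 0x29) (nat_lit 1) (nat_lit 0x1) (.cj (nat_lit 0x25) (nat_lit 1) (nat_lit 0x1) (.pw (nat_lit 1) (nat_lit 0x1))))))
 (.cj (nat_lit 0x420) (nat_lit 1) (nat_lit 0xd693) (.cj (nat_lit 0x120c20) (nat_lit 1) (nat_lit 0x35) (.cj (nat_lit 0x2a) (nat_lit 1) (nat_lit 0x1) (.pw (nat_lit 1) (nat_lit 0x35))))))))))))),
 ([nat_lit 9], nat_lit 10, .cj (nat_lit 0x20) (nat_lit 1) (nat_lit 0x2e) (.s2 (.cj (nat_lit 0x23) (nat_lit 1) (nat_lit 0x1) (.s2 (.cj (nat_lit 0x26) (nat_lit 1) (nat_lit 0x1) (.cj (nat_lit 0x27) (nat_lit 1) (nat_lit 0x1) (.s2 (.s2 (.s2 (.cj (nat_lit 0x28) (nat_lit 1) (nat_lit 0x1) (.cj (nat_lit 0x22) (nat_lit 1) (nat_lit 0x1) (.s2 (.lf (nat_lit 0x134e2246b3a))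
 (.lf (nat_lit 0x10979b0357f035823909f)))))
 (.cj (nat_lit 0x2d) (nat_lit 1) (nat_lit 0x1) (.cj (nat_lit 0x22) (nat_lit 1) (nat_lit 0x1) (.cj (nat_lit 0x5a8) (nat_lit 1) (nat_lit 0x1) (.lf (nat_lit 0x1113ad0d4f6121b013b92))))))
 (.cj (nat_lit 0x22) (nat_lit 1) (nat_lit 0x6b4) (.cj (nat_lit 0x25) (nat_lit 1) (nat_lit 0x1) (.cj (nat_lit 0x30) (nat_lit 1) (nat_lit 0x1) (.cj (nat_lit 0x60b) (nat_lit 1) (nat_lit 0x1) (.lf (nat_lit 0x106b7906c0046f6b48270)))))))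
 (.s2 (.cj (nat_lit 0x24) (nat_lit 1) (nat_lit 0x1) (.cj (nat_lit 0x2d) (nat_lit 1) (nat_lit 0x1) (.pw (nat_lit 1) (nat_lit 0x1))))
 (.cj (nat_lit 0x24) (nat_lit 1) (nat_lit 0x1) (.cj (nat_lit 0x2d) (nat_lit 1) (nat_lit 0x1) (.pw (nat_lit 1) (nat_lit 0x1))))))))
 (.cj (nat_lit 0x26) (nat_lit 1) (nat_lit 0x1) (.cj (nat_lit 0x27) (nat_lit 1) (nat_lit 0x35) (.cj (nat_lit 0x22) (nat_lit 1) (nat_lit 0x1) (.cj (nat_lit 0x24) (nat_lit 1) (nat_lit 0x1) (.s2 (.pw (nat_lit 1) (nat_lit 0x1))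
 (.pw (nat_lit 1) (nat_lit 0x1)))))))))
 (.cj (nat_lit 0x23) (nat_lit 1) (nat_lit 0x35) (.s2 (.cj (nat_lit 0x26) (nat_lit 1) (nat_lit 0xd690) (.cj (nat_lit 0x24) (nat_lit 1) (nat_lit 0x1) (.s2 (.s2 (.cj (nat_lit 0x420) (nat_lit 1) (nat_lit 0x6b3) (.cj (nat_lit 0x28) (nat_lit 1) (nat_lit 0x1) (.pw (nat_lit 1) (nat_lit 0x1))))
 (.cj (nat_lit 0x22) (nat_lit 1) (nat_lit 0x6b4) (.cj (nat_lit 0x25) (nat_lit 1) (nat_lit 0x1) (.pw (nat_lit 1) (nat_lit 0x35)))))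
 (.s2 (.cj (nat_lit 0x4e4) (nat_lit 1) (nat_lit 0x1) (.cj (nat_lit 0x28) (nat_lit 1) (nat_lit 0x35) (.cj (nat_lit 0x22) (nat_lit 1) (nat_lit 0x1) (.cj (nat_lit 0x31) (nat_lit 1) (nat_lit 0x1) (.lf (nat_lit 0x13f8d70179101c173e742))))))
 (.cj (nat_lit 0x22) (nat_lit 1) (nat_lit 0x6b4) (.cj (nat_lit 0x25) (nat_lit 1) (nat_lit 0x34) (.cj (nat_lit 0x2a) (nat_lit 1) (nat_lit 0x1) (.pw (nat_lit 1) (nat_lit 0x1)))))))))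
 (.cj (nat_lit 0x26) (nat_lit 1) (nat_lit 0xd690) (.cj (nat_lit 0x27) (nat_lit 1) (nat_lit 0x35) (.cj (nat_lit 0x22) (nat_lit 1) (nat_lit 0x1) (.cj (nat_lit 0x4e4) (nat_lit 1) (nat_lit 0x1) (.cj (nat_lit 0x420) (nat_lit 1) (nat_lit 0x6b3) (.pw (nat_lit 1) (nat_lit 0x6b4))))))))))),
 ([nat_lit 10], nat_lit 11, .s2 (.s2 (.cj (nat_lit 0x23) (nat_lit 1) (nat_lit 0x1) (.cj (nat_lit 0x24) (nat_lit 1) (nat_lit 0x1) (.s2 (.cj (nat_lit 0x27) (nat_lit 1) (nat_lit 0x35) (.s2 (.s2 (.cj (nat_lit 0x28) (nat_lit 1) (nat_lit 0x1) (.cj (nat_lit 0x2b) (nat_lit 1) (nat_lit 0x1) (.s2 (.lf (nat_lit 0x10000a00084))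
 (.lf (nat_lit 0x117d6a1191e16f4917577)))))
 (.cj (nat_lit 0x2c) (nat_lit 1) (nat_lit 0x1) (.cj (nat_lit 0x25) (nat_lit 1) (nat_lit 0x1) (.cj (nat_lit 0x588) (nat_lit 1) (nat_lit 0x1) (.lf (nat_lit 0x113b8d110651109313b8e))))))
 (.cj (nat_lit 0x22) (nat_lit 1) (nat_lit 0x35) (.cj (nat_lit 0x25) (nat_lit 1) (nat_lit 0x1) (.cj (nat_lit 0x2f) (nat_lit 1) (nat_lit 0x1) (.cj (nat_lit 0x5eb) (nat_lit 1) (nat_lit 0x1) (.lf (nat_lit 0x10971807df5096ca162f4))))))))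
 (.cj (nat_lit 0x27) (nat_lit 1) (nat_lit 0x35) (.s2 (.cj (nat_lit 0x26) (nat_lit 1) (nat_lit 0x1) (.cj (nat_lit 0x2c) (nat_lit 1) (nat_lit 0x1) (.pw (nat_lit 1) (nat_lit 0x1))))
 (.cj (nat_lit 0x26) (nat_lit 1) (nat_lit 0x1) (.cj (nat_lit 0x2c) (nat_lit 1) (nat_lit 0x1) (.pw (nat_lit 1) (nat_lit 0x1)))))))))
 (.cj (nat_lit 0x23) (nat_lit 1) (nat_lit 0x1) (.cj (nat_lit 0x24) (nat_lit 1) (nat_lit 0x1) (.cj (nat_lit 0x22) (nat_lit 1) (nat_lit 0x34) (.cj (nat_lit 0x27) (nat_lit 1) (nat_lit 0x1) (.cj (nat_lit 0x26) (nat_lit 1) (nat_lit 0x1) (.s2 (.pw (nat_lit 1) (nat_lit 0x1))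
 (.pw (nat_lit 1) (nat_lit 0x1)))))))))
 (.s2 (.cj (nat_lit 0x23) (nat_lit 1) (nat_lit 0x35) (.cj (nat_lit 0x24) (nat_lit 1) (nat_lit 0x68f) (.s2 (.cj (nat_lit 0x26) (nat_lit 1) (nat_lit 0x35) (.s2 (.cj (nat_lit 0x21) (nat_lit 1) (nat_lit 0x6b3) (.cj (nat_lit 0x28) (nat_lit 1) (nat_lit 0x1) (.pw (nat_lit 1) (nat_lit 0x1))))
 (.cj (nat_lit 0x22) (nat_lit 1) (nat_lit 0x35) (.cj (nat_lit 0x25) (nat_lit 1) (nat_lit 0x1) (.pw (nat_lit 1) (nat_lit 0x35))))))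
 (.cj (nat_lit 0x21) (nat_lit 1) (nat_lit 0x33) (.s2 (.cj (nat_lit 0x4e0) (nat_lit 1) (nat_lit 0x1) (.cj (nat_lit 0x28) (nat_lit 1) (nat_lit 0x35) (.cj (nat_lit 0x25) (nat_lit 1) (nat_lit 0x1) (.cj (nat_lit 0x31) (nat_lit 1) (nat_lit 0x1) (.lf (nat_lit 0x1439df1bf59248f247785))))))
 (.cj (nat_lit 0x22) (nat_lit 1) (nat_lit 0x35) (.cj (nat_lit 0x25) (nat_lit 1) (nat_lit 0x34) (.cj (nat_lit 0x29) (nat_lit 1) (nat_lit 0x1) (.pw (nat_lit 1) (nat_lit 0x1))))))))))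
 (.cj (nat_lit 0x20) (nat_lit 1) (nat_lit 0x31) (.cj (nat_lit 0x24) (nat_lit 1) (nat_lit 0x68f) (.cj (nat_lit 0x22) (nat_lit 1) (nat_lit 0x34) (.cj (nat_lit 0x27) (nat_lit 1) (nat_lit 0x1) (.cj (nat_lit 0x4e6) (nat_lit 1) (nat_lit 0x1) (.cj (nat_lit 0x139861) (nat_lit 1) (nat_lit 0x6b3) (.pw (nat_lit 1) (nat_lit 0x6b4))))))))))]
theorem hj11 : jobsChk 2 22 T pb (lf2 F24.cd om T gb 22 4) js11 = true := by decide +kernel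

noncomputable def js12 : List Job := [([nat_lit 11], nat_lit 12, .s2 (.s2 (.s2 (.cj (nat_lit 0x24) (nat_lit 1) (nat_lit 0x1) (.cj (nat_lit 0x26) (nat_lit 1) (nat_lit 0x35) (.s2 (.cj (nat_lit 0x21) (nat_lit 1) (nat_lit 0x6b3) (.s2 (.cj (nat_lit 0x29) (nat_lit 1) (nat_lit 0x1) (.cj (nat_lit 0x23) (nat_lit 1) (nat_lit 0x1) (.lf (nat_lit 0x100e320126e))))
 (.cj (nat_lit 0x22) (nat_lit 1) (nat_lit 0x1) (.cj (nat_lit 0x23) (nat_lit 1) (nat_lit 0x1) (.lf (nat_lit 0x1078fc0067d0068107604))))))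
 (.cj (nat_lit 0x22) (nat_lit 1) (nat_lit 0x35) (.cj (nat_lit 0x25) (nat_lit 1) (nat_lit 0x1) (.cj (nat_lit 0x29) (nat_lit 1) (nat_lit 0x1) (.pw (nat_lit 1) (nat_lit 0x1))))))))
 (.cj (nat_lit 0x24) (nat_lit 1) (nat_lit 0x1) (.cj (nat_lit 0x26) (nat_lit 1) (nat_lit 0x35) (.cj (nat_lit 0x23) (nat_lit 1) (nat_lit 0xd693) (.cj (nat_lit 0x27) (nat_lit 1) (nat_lit 0x34) (.cj (nat_lit 0x28) (nat_lit 1) (nat_lit 0x1) (.pw (nat_lit 1) (nat_lit 0x1))))))))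
 (.s2 (.cj (nat_lit 0x24) (nat_lit 1) (nat_lit 0x6b1) (.cj (nat_lit 0x22) (nat_lit 1) (nat_lit 0x1) (.s2 (.cj (nat_lit 0x21) (nat_lit 1) (nat_lit 0x6b3) (.cj (nat_lit 0x25) (nat_lit 1) (nat_lit 0x1) (.cj (nat_lit 0x2a) (nat_lit 1) (nat_lit 0x1) (.pw (nat_lit 1) (nat_lit 0x1)))))
 (.cj (nat_lit 0x21) (nat_lit 1) (nat_lit 0x6b3) (.cj (nat_lit 0x29) (nat_lit 1) (nat_lit 0x34) (.cj (nat_lit 0x2a) (nat_lit 1) (nat_lit 0x1) (.cj (nat_lit 0x2c) (nat_lit 1) (nat_lit 0x1) (.lf (nat_lit 0x14916611847120bb43a56)))))))))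
 (.cj (nat_lit 0x24) (nat_lit 1) (nat_lit 0x6b1) (.cj (nat_lit 0x22) (nat_lit 1) (nat_lit 0x34) (.cj (nat_lit 0x23) (nat_lit 1) (nat_lit 0xd693) (.cj (nat_lit 0x21) (nat_lit 1) (nat_lit 0x6b3) (.cj (nat_lit 0x25) (nat_lit 1) (nat_lit 0x1) (.pw (nat_lit 1) (nat_lit 0x35)))))))))
 (.cj (nat_lit 0x20) (nat_lit 1) (nat_lit 0x31) (.s2 (.cj (nat_lit 0x22) (nat_lit 1) (nat_lit 0x1) (.cj (nat_lit 0x26) (nat_lit 1) (nat_lit 0x31) (.s2 (.cj (nat_lit 0x420) (nat_lit 1) (nat_lit 0x6b3) (.cj (nat_lit 0x25) (nat_lit 1) (nat_lit 0x1) (.cj (nat_lit 0x29) (nat_lit 1) (nat_lit 0x1) (.pw (nat_lit 1) (nat_lit 0x1)))))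
 (.cj (nat_lit 0x482) (nat_lit 1) (nat_lit 0x35) (.cj (nat_lit 0x2a) (nat_lit 1) (nat_lit 0x34) (.cj (nat_lit 0x29) (nat_lit 1) (nat_lit 0x1) (.cj (nat_lit 0x2c) (nat_lit 1) (nat_lit 0x1) (.lf (nat_lit 0x13d56b20f9726bee30370)))))))))
 (.cj (nat_lit 0x24) (nat_lit 1) (nat_lit 0x1) (.cj (nat_lit 0x26) (nat_lit 1) (nat_lit 0x31) (.cj (nat_lit 0x23) (nat_lit 1) (nat_lit 0xd693) (.cj (nat_lit 0x27) (nat_lit 1) (nat_lit 0x6b4) (.cj (nat_lit 0x25) (nat_lit 1) (nat_lit 0x1) (.pw (nat_lit 1) (nat_lit 0x35)))))))))),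
 ([nat_lit 12], nat_lit 13, .cj (nat_lit 0x20) (nat_lit 1) (nat_lit 0x31) (.s2 (.cj (nat_lit 0x22) (nat_lit 1) (nat_lit 0x1) (.s2 (.cj (nat_lit 0x26) (nat_lit 1) (nat_lit 0x1) (.s2 (.cj (nat_lit 0x25) (nat_lit 1) (nat_lit 0x1) (.s2 (.cj (nat_lit 0x27) (nat_lit 1) (nat_lit 0x1) (.lf (nat_lit 0x134e22406b1)))
 (.cj (nat_lit 0x23) (nat_lit 1) (nat_lit 0x1) (.lf (nat_lit 0x13ce340172f047903adfb)))))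
 (.cj (nat_lit 0x2a) (nat_lit 1) (nat_lit 0x1) (.cj (nat_lit 0x545) (nat_lit 1) (nat_lit 0x1) (.cj (nat_lit 0x23) (nat_lit 1) (nat_lit 0x1) (.lf (nat_lit 0x12702d19319260122f202)))))))
 (.cj (nat_lit 0x26) (nat_lit 1) (nat_lit 0x1) (.cj (nat_lit 0x24) (nat_lit 1) (nat_lit 0x1) (.cj (nat_lit 0x2a) (nat_lit 1) (nat_lit 0x1) (.cj (nat_lit 0x29) (nat_lit 1) (nat_lit 0x1) (.pw (nat_lit 1) (nat_lit 0x1))))))))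
 (.cj (nat_lit 0x22) (nat_lit 1) (nat_lit 0x34) (.s2 (.cj (nat_lit 0x26) (nat_lit 1) (nat_lit 0x1) (.cj (nat_lit 0x27) (nat_lit 1) (nat_lit 0x6b4) (.cj (nat_lit 0x25) (nat_lit 1) (nat_lit 0x1) (.cj (nat_lit 0x2b) (nat_lit 1) (nat_lit 0x35) (.cj (nat_lit 0x30) (nat_lit 1) (nat_lit 0x1) (.lf (nat_lit 0x10fb5317e033331f37d72)))))))
 (.cj (nat_lit 0x26) (nat_lit 1) (nat_lit 0x1) (.cj (nat_lit 0x24) (nat_lit 1) (nat_lit 0x1) (.cj (nat_lit 0x2a) (nat_lit 1) (nat_lit 0x1) (.cj (nat_lit 0x29) (nat_lit 1) (nat_lit 0x1) (.pw (nat_lit 1) (nat_lit 0x1)))))))))),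
 ([nat_lit 13], nat_lit 14, .s2 (.s2 (.cj (nat_lit 0x22) (nat_lit 1) (nat_lit 0x1) (.cj (nat_lit 0x24) (nat_lit 1) (nat_lit 0x1) (.s2 (.cj (nat_lit 0x25) (nat_lit 1) (nat_lit 0x1) (.s2 (.cj (nat_lit 0x27) (nat_lit 1) (nat_lit 0x1) (.lf (nat_lit 0x10000a002b5)))
 (.cj (nat_lit 0x23) (nat_lit 1) (nat_lit 0x1) (.lf (nat_lit 0x1089ab089b40a5660a57e)))))
 (.cj (nat_lit 0x29) (nat_lit 1) (nat_lit 0x1) (.cj (nat_lit 0x525) (nat_lit 1) (nat_lit 0x1) (.cj (nat_lit 0x23) (nat_lit 1) (nat_lit 0x1) (.lf (nat_lit 0x101f870158001a3601e36))))))))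
 (.cj (nat_lit 0x22) (nat_lit 1) (nat_lit 0x1) (.cj (nat_lit 0x24) (nat_lit 1) (nat_lit 0x1) (.cj (nat_lit 0x26) (nat_lit 1) (nat_lit 0x1) (.cj (nat_lit 0x29) (nat_lit 1) (nat_lit 0x1) (.cj (nat_lit 0x2a) (nat_lit 1) (nat_lit 0x1) (.pw (nat_lit 1) (nat_lit 0x1))))))))
 (.s2 (.cj (nat_lit 0x22) (nat_lit 1) (nat_lit 0x34) (.cj (nat_lit 0x24) (nat_lit 1) (nat_lit 0x1) (.cj (nat_lit 0x27) (nat_lit 1) (nat_lit 0x6b4) (.cj (nat_lit 0x25) (nat_lit 1) (nat_lit 0x1) (.cj (nat_lit 0x2b) (nat_lit 1) (nat_lit 0x35) (.cj (nat_lit 0x2f) (nat_lit 1) (nat_lit 0x1) (.lf (nat_lit 0x104ddc04ddb0595a059e6))))))))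
 (.cj (nat_lit 0x22) (nat_lit 1) (nat_lit 0x34) (.cj (nat_lit 0x24) (nat_lit 1) (nat_lit 0x1) (.cj (nat_lit 0x26) (nat_lit 1) (nat_lit 0x1) (.cj (nat_lit 0x29) (nat_lit 1) (nat_lit 0x1) (.cj (nat_lit 0x2a) (nat_lit 1) (nat_lit 0x1) (.pw (nat_lit 1) (nat_lit 0x1))))))))),
 ([nat_lit 14], nat_lit 15, .s2 (.s2 (.cj (nat_lit 0x23) (nat_lit 1) (nat_lit 0xd693) (.cj (nat_lit 0x27) (nat_lit 1) (nat_lit 0x34) (.cj (nat_lit 0x28) (nat_lit 1) (nat_lit 0x1) (.cj (nat_lit 0x22) (nat_lit 1) (nat_lit 0x1) (.s2 (.lf (nat_lit 0x10ef62112e6112ec1390b))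
 (.lf (nat_lit 0x10006b001a6)))))))
 (.cj (nat_lit 0x23) (nat_lit 1) (nat_lit 0x693) (.cj (nat_lit 0x24) (nat_lit 1) (nat_lit 0x1) (.cj (nat_lit 0x28) (nat_lit 1) (nat_lit 0x35) (.cj (nat_lit 0x22) (nat_lit 1) (nat_lit 0x1) (.cj (nat_lit 0x2c) (nat_lit 1) (nat_lit 0x1) (.lf (nat_lit 0x1165491680a1680e1d56a))))))))
 (.cj (nat_lit 0x20) (nat_lit 1) (nat_lit 0x6b2) (.cj (nat_lit 0x23) (nat_lit 1) (nat_lit 0x693) (.cj (nat_lit 0x26) (nat_lit 1) (nat_lit 0x1) (.cj (nat_lit 0x28) (nat_lit 1) (nat_lit 0x35) (.cj (nat_lit 0x22) (nat_lit 1) (nat_lit 0x1) (.cj (nat_lit 0x2d) (nat_lit 1) (nat_lit 0x1) (.lf (nat_lit 0x10275002751112b216ba6))))))))),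
 ([nat_lit 15], nat_lit 16, .cj (nat_lit 0x20) (nat_lit 1) (nat_lit 0x6b2) (.s2 (.cj (nat_lit 0x26) (nat_lit 1) (nat_lit 0x1) (.s2 (.cj (nat_lit 0x25) (nat_lit 1) (nat_lit 0x1) (.cj (nat_lit 0x23) (nat_lit 1) (nat_lit 0x1) (.lf (nat_lit 0x134e223ef51))))
 (.cj (nat_lit 0x22) (nat_lit 1) (nat_lit 0x1) (.cj (nat_lit 0x23) (nat_lit 1) (nat_lit 0x1) (.lf (nat_lit 0x127d6226e582a46d3501d))))))
 (.cj (nat_lit 0x26) (nat_lit 1) (nat_lit 0x1) (.cj (nat_lit 0x25) (nat_lit 1) (nat_lit 0x34) (.cj (nat_lit 0x2a) (nat_lit 1) (nat_lit 0x1) (.cj (nat_lit 0x27) (nat_lit 1) (nat_lit 0x1) (.lf (nat_lit 0x12e64e2112d23fb52dbbb)))))))),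
 ([nat_lit 16], nat_lit 17, .s2 (.cj (nat_lit 0x24) (nat_lit 1) (nat_lit 0x1) (.s2 (.cj (nat_lit 0x25) (nat_lit 1) (nat_lit 0x1) (.cj (nat_lit 0x23) (nat_lit 1) (nat_lit 0x1) (.lf (nat_lit 0x10006d002b5))))
 (.cj (nat_lit 0x22) (nat_lit 1) (nat_lit 0x1) (.cj (nat_lit 0x23) (nat_lit 1) (nat_lit 0x1) (.lf (nat_lit 0x1094a70a82b162e61d896))))))
 (.cj (nat_lit 0x24) (nat_lit 1) (nat_lit 0x1) (.cj (nat_lit 0x25) (nat_lit 1) (nat_lit 0x34) (.cj (nat_lit 0x29) (nat_lit 1) (nat_lit 0x1) (.cj (nat_lit 0x27) (nat_lit 1) (nat_lit 0x1) (.lf (nat_lit 0x1455e1490ab490ca49d54))))))),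
 ([nat_lit 17], nat_lit 18, .cj (nat_lit 0x22) (nat_lit 1) (nat_lit 0x35) (.cj (nat_lit 0x25) (nat_lit 1) (nat_lit 0x1) (.s2 (.cj (nat_lit 0x23) (nat_lit 1) (nat_lit 0x1) (.lf (nat_lit 0x10a64d094580a6100a722)))
 (.cj (nat_lit 0x27) (nat_lit 1) (nat_lit 0x1) (.lf (nat_lit 0x1001b900299)))))),
 ([nat_lit 18], nat_lit 19, .s2 (.cj (nat_lit 0x25) (nat_lit 1) (nat_lit 0x1) (.cj (nat_lit 0x23) (nat_lit 1) (nat_lit 0x1) (.lf (nat_lit 0x1442e043fba442cf4910e))))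
 (.cj (nat_lit 0x22) (nat_lit 1) (nat_lit 0x1) (.cj (nat_lit 0x23) (nat_lit 1) (nat_lit 0x1) (.lf (nat_lit 0x10009200db6))))),
 ([nat_lit 19], nat_lit 20, .cj (nat_lit 0x22) (nat_lit 1) (nat_lit 0x1) (.cj (nat_lit 0x27) (nat_lit 1) (nat_lit 0x1) (.lf (nat_lit 0x100db6001b900299002a1)))),
 ([nat_lit 20], nat_lit 21, .cj (nat_lit 0x23) (nat_lit 1) (nat_lit 0x1) (.lf (nat_lit 0x136c1b130c5130c82bd6d))),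
 ([nat_lit 21], nat_lit 22, .lf (nat_lit 0x10de5f0e47911331114c5))]
theorem hj12 : jobsChk 2 22 T pb (lf2 F24.cd om T gb 22 4) js12 = true := by decide +kernel


end Cfsg.Agent.Fi.Q24a
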