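import Cfsg.Agent.Fi.Q24br

set_option autoImplicit false
set_option maxRecDepth 100000
set_option Elab.async false

namespace Cfsg.Agent.Fi.Q24b

open Cfsg.Agent.FM Cfsg.Agent.Fi
open Cfsg.Agent.M24 (nall lall)

noncomputable def js0 : List Job := [([nat_lit 0], nat_lit 5, .cj (nat_lit 0x22) (nat_lit 2) (nat_lit 0x2f7b98c) (.s3 (.cj (nat_lit 0x26) (nat_lit 1) (nat_lit 0x5ab) (.cj (nat_lit 0x23) (nat_lit 1) (nat_lit 0x2f7398b52929) (.s3 (.s3 (.cj (nat_lit 0x24) (nat_lit 2) (nat_lit 0x58c) (.cj (nat_lit 0x25) (nat_lit 1) (nat_lit 0xbdce) (.cj (nat_lit 0x2a) (nat_lit 1) (nat_lit 0x1) (.cj (nat_lit 0x27) (nat_lit 1) (nat_lit 0x1) (.cj (nat_lit 0x2c) (nat_lit 1) (nat_lit 0x1) (.lf (nat_lit 0x107bb70002e0004d00db80000d0002700002013e501f6d00000038c14072400003)))))))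
 (.cj (nat_lit 0x24) (nat_lit 2) (nat_lit 0xb9cc) (.cj (nat_lit 0x25) (nat_lit 1) (nat_lit 0xbdce) (.cj (nat_lit 0x20) (nat_lit 2) (nat_lit 0x1) (.cj (nat_lit 0x2b) (nat_lit 1) (nat_lit 0x2f) (.pw (nat_lit 1) (nat_lit 0x1))))))
 (.cj (nat_lit 0x24) (nat_lit 2) (nat_lit 0x2e) (.cj (nat_lit 0x25) (nat_lit 1) (nat_lit 0xbdce) (.cj (nat_lit 0x20) (nat_lit 1) (nat_lit 0x1) (.cj (nat_lit 0x27) (nat_lit 1) (nat_lit 0x2f) (.pw (nat_lit 2) (nat_lit 0x1)))))))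
 (.s3 (.cj (nat_lit 0x28) (nat_lit 2) (nat_lit 0xb58c) (.cj (nat_lit 0x24) (nat_lit 1) (nat_lit 0xbded) (.cj (nat_lit 0x21) (nat_lit 1) (nat_lit 0x1) (.cj (nat_lit 0x2b) (nat_lit 2) (nat_lit 0x1) (.pw (nat_lit 2) (nat_lit 0x1))))))
 (.cj (nat_lit 0x21) (nat_lit 2) (nat_lit 0x17bdcd) (.cj (nat_lit 0x25) (nat_lit 2) (nat_lit 0xbdcd) (.cj (nat_lit 0x24) (nat_lit 1) (nat_lit 0x5ce) (.cj (nat_lit 0x2b) (nat_lit 2) (nat_lit 0x2f) (.pw (nat_lit 1) (nat_lit 0x1))))))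
 (.cj (nat_lit 0x21) (nat_lit 1) (nat_lit 0xb9cd) (.cj (nat_lit 0x24) (nat_lit 2) (nat_lit 0xbdcd) (.cj (nat_lit 0x2a) (nat_lit 2) (nat_lit 0x5ef) (.cj (nat_lit 0x2b) (nat_lit 2) (nat_lit 0x5ef) (.cj (nat_lit 0x2d) (nat_lit 1) (nat_lit 0x1) (.lf (nat_lit 0x100db700db8000a600015011cb000b80234c0000900578246cf00003))))))))
 (.s3 (.cj (nat_lit 0x20) (nat_lit 2) (nat_lit 0x2e735ac) (.cj (nat_lit 0x21) (nat_lit 1) (nat_lit 0xbdee) (.cj (nat_lit 0x25) (nat_lit 2) (nat_lit 0x1) (.pw (nat_lit 2) (nat_lit 0x1)))))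
 (.cj (nat_lit 0x21) (nat_lit 2) (nat_lit 0xbdcc) (.s3 (.cj (nat_lit 0x25) (nat_lit 2) (nat_lit 0x1) (.pw (nat_lit 2) (nat_lit 0x1)))
 (.cj (nat_lit 0x25) (nat_lit 2) (nat_lit 0x2f) (.pw (nat_lit 2) (nat_lit 0x1)))
 (.cj (nat_lit 0x25) (nat_lit 2) (nat_lit 0x5ef) (.pw (nat_lit 2) (nat_lit 0x1)))))
 (.cj (nat_lit 0x20) (nat_lit 2) (nat_lit 0xb9cc) (.cj (nat_lit 0x521) (nat_lit 2) (nat_lit 0x5ce) (.cj (nat_lit 0x25) (nat_lit 2) (nat_lit 0x1) (.pw (nat_lit 2) (nat_lit 0x1)))))))))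
 (.cj (nat_lit 0x26) (nat_lit 1) (nat_lit 0x5ab) (.cj (nat_lit 0x23) (nat_lit 1) (nat_lit 0x5ee5a949) (.s3 (.s3 (.cj (nat_lit 0x25) (nat_lit 2) (nat_lit 0x5ac) (.cj (nat_lit 0x21) (nat_lit 2) (nat_lit 0x5ef) (.cj (nat_lit 0x29) (nat_lit 1) (nat_lit 0x5ef) (.pw (nat_lit 1) (nat_lit 0x1)))))
 (.cj (nat_lit 0x25) (nat_lit 2) (nat_lit 0x5ac) (.cj (nat_lit 0x2a) (nat_lit 1) (nat_lit 0x5ed) (.cj (nat_lit 0xa905) (nat_lit 2) (nat_lit 0x5ee) (.cj (nat_lit 0x2c) (nat_lit 2) (nat_lit 0x1) (.pw (nat_lit 2) (nat_lit 0x1))))))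
 (.cj (nat_lit 0x25) (nat_lit 2) (nat_lit 0x5ac) (.cj (nat_lit 0x2a) (nat_lit 1) (nat_lit 0x5ed) (.cj (nat_lit 0x29) (nat_lit 2) (nat_lit 0x5ef) (.pw (nat_lit 2) (nat_lit 0x2f))))))
 (.s3 (.cj (nat_lit 0x24) (nat_lit 1) (nat_lit 0xbd8c) (.cj (nat_lit 0x2a) (nat_lit 1) (nat_lit 0xbdad) (.cj (nat_lit 0x21) (nat_lit 2) (nat_lit 0x1) (.pw (nat_lit 1) (nat_lit 0x1)))))
 (.cj (nat_lit 0x24) (nat_lit 1) (nat_lit 0x2c) (.cj (nat_lit 0x2a) (nat_lit 1) (nat_lit 0xbdad) (.cj (nat_lit 0xa905) (nat_lit 2) (nat_lit 0x5ce) (.cj (nat_lit 0x27) (nat_lit 1) (nat_lit 0x2f) (.cj (nat_lit 0x29) (nat_lit 2) (nat_lit 0x1) (.lf (nat_lit 0x100db900dbb0006f00ff000017000480023a000030446a17bf400004)))))))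
 (.cj (nat_lit 0x24) (nat_lit 1) (nat_lit 0x5ef) (.cj (nat_lit 0x2a) (nat_lit 1) (nat_lit 0xbdad) (.cj (nat_lit 0x29) (nat_lit 2) (nat_lit 0x5ef) (.pw (nat_lit 2) (nat_lit 0x1))))))
 (.s3 (.cj (nat_lit 0x24) (nat_lit 2) (nat_lit 0xbdac) (.cj (nat_lit 0x21) (nat_lit 1) (nat_lit 0x2d) (.cj (nat_lit 0x29) (nat_lit 1) (nat_lit 0x5ef) (.pw (nat_lit 1) (nat_lit 0x1)))))
 (.cj (nat_lit 0x24) (nat_lit 2) (nat_lit 0x5ed) (.cj (nat_lit 0x2a) (nat_lit 1) (nat_lit 0x2f) (.cj (nat_lit 0xa905) (nat_lit 2) (nat_lit 0x5ef) (.cj (nat_lit 0x2c) (nat_lit 2) (nat_lit 0x2f) (.pw (nat_lit 1) (nat_lit 0x1))))))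
 (.cj (nat_lit 0x21) (nat_lit 1) (nat_lit 0x17b9ac) (.cj (nat_lit 0x2a) (nat_lit 1) (nat_lit 0x2f) (.cj (nat_lit 0x29) (nat_lit 2) (nat_lit 0x5ef) (.pw (nat_lit 2) (nat_lit 0x5ef)))))))))
 (.cj (nat_lit 0x20) (nat_lit 1) (nat_lit 0x5ab) (.cj (nat_lit 0x23) (nat_lit 1) (nat_lit 0x17354a) (.s3 (.s3 (.cj (nat_lit 0x24) (nat_lit 1) (nat_lit 0x1739ac) (.cj (nat_lit 0x21) (nat_lit 2) (nat_lit 0x17bdcd) (.cj (nat_lit 0xa948) (nat_lit 1) (nat_lit 0x1) (.pw (nat_lit 1) (nat_lit 0x5ef)))))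
 (.cj (nat_lit 0x24) (nat_lit 1) (nat_lit 0xbded) (.cj (nat_lit 0x521) (nat_lit 1) (nat_lit 0x2f) (.cj (nat_lit 0xa921) (nat_lit 1) (nat_lit 0x17bdce) (.cj (nat_lit 0x2c) (nat_lit 1) (nat_lit 0x5ef) (.cj (nat_lit 0x27) (nat_lit 2) (nat_lit 0x1) (.lf (nat_lit 0x107bb700db7000690006b000420109d0000a01179000aa01f8100031075fe4452700004)))))))
 (.cj (nat_lit 0x29) (nat_lit 1) (nat_lit 0xb58c) (.cj (nat_lit 0x28) (nat_lit 2) (nat_lit 0xbdce) (.cj (nat_lit 0xa948) (nat_lit 2) (nat_lit 0x1) (.pw (nat_lit 2) (nat_lit 0x2f))))))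
 (.s3 (.cj (nat_lit 0x24) (nat_lit 2) (nat_lit 0x17bdad) (.cj (nat_lit 0x28) (nat_lit 1) (nat_lit 0x1) (.cj (nat_lit 0x548) (nat_lit 2) (nat_lit 0x17bdce) (.pw (nat_lit 2) (nat_lit 0x5ef)))))
 (.cj (nat_lit 0x21) (nat_lit 2) (nat_lit 0xbdce) (.cj (nat_lit 0x28) (nat_lit 1) (nat_lit 0x5ad) (.cj (nat_lit 0xa525) (nat_lit 1) (nat_lit 0x5ce) (.pw (nat_lit 1) (nat_lit 0x2f)))))
 (.cj (nat_lit 0x21) (nat_lit 1) (nat_lit 0x2e) (.cj (nat_lit 0x28) (nat_lit 1) (nat_lit 0x2d) (.cj (nat_lit 0xa525) (nat_lit 2) (nat_lit 0xbdce) (.cj (nat_lit 0x27) (nat_lit 2) (nat_lit 0x1) (.cj (nat_lit 0x587) (nat_lit 1) (nat_lit 0x1) (.lf (nat_lit 0x10002e00dbb000420109d000150112200005013e402eb5000070256018c5000004))))))))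
 (.s3 (.cj (nat_lit 0x25) (nat_lit 1) (nat_lit 0x5ed) (.cj (nat_lit 0x2a) (nat_lit 2) (nat_lit 0x5ce) (.cj (nat_lit 0x28) (nat_lit 1) (nat_lit 0x2e) (.pw (nat_lit 1) (nat_lit 0x1)))))
 (.cj (nat_lit 0x25) (nat_lit 1) (nat_lit 0x5ed) (.cj (nat_lit 0x24) (nat_lit 1) (nat_lit 0x1) (.cj (nat_lit 0x521) (nat_lit 1) (nat_lit 0xbdce) (.cj (nat_lit 0x27) (nat_lit 1) (nat_lit 0x1) (.s3 (.lf (nat_lit 0x10002e00db60004d00dbb00dbd0001a00f6a0002d01a4302fc20002202e813d19a00003))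
 (.lf (nat_lit 0x100db600db90006b000410109d00ff30000501a4102691000120583310e7000003))
 (.lf (nat_lit 0x107bb700db70109d00026011c700028017bf002290000000cf52b04d00001)))))))
 (.cj (nat_lit 0x25) (nat_lit 1) (nat_lit 0x5ed) (.cj (nat_lit 0x2a) (nat_lit 2) (nat_lit 0x5ce) (.cj (nat_lit 0x28) (nat_lit 2) (nat_lit 0x2e) (.pw (nat_lit 2) (nat_lit 0x1))))))))))),
 ([nat_lit 4, nat_lit 0], nat_lit 7, .cj (nat_lit 0x26) (nat_lit 1) (nat_lit 0xbdce6b58c) (.s3 (.cj (nat_lit 0x23) (nat_lit 2) (nat_lit 0xb5ac5ad4a) (.s3 (.cj (nat_lit 0x24) (nat_lit 2) (nat_lit 0x58c) (.cj (nat_lit 0x2a) (nat_lit 1) (nat_lit 0x2d) (.cj (nat_lit 0x525) (nat_lit 2) (nat_lit 0x5ee) (.cj (nat_lit 0x27) (nat_lit 2) (nat_lit 0x2f) (.pw (nat_lit 1) (nat_lit 0x1))))))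
 (.cj (nat_lit 0x24) (nat_lit 2) (nat_lit 0x2c) (.cj (nat_lit 0x2a) (nat_lit 1) (nat_lit 0x2d) (.cj (nat_lit 0x525) (nat_lit 1) (nat_lit 0xbdee) (.pw (nat_lit 2) (nat_lit 0x1)))))
 (.cj (nat_lit 0x24) (nat_lit 2) (nat_lit 0x1) (.cj (nat_lit 0x2a) (nat_lit 1) (nat_lit 0x2d) (.cj (nat_lit 0xa928) (nat_lit 2) (nat_lit 0xbdce) (.pw (nat_lit 1) (nat_lit 0x5ef)))))))
 (.cj (nat_lit 0x23) (nat_lit 2) (nat_lit 0x2f7b9ac5ad4a) (.s3 (.cj (nat_lit 0x29) (nat_lit 1) (nat_lit 0x2e) (.cj (nat_lit 0x2a) (nat_lit 1) (nat_lit 0xbdad) (.cj (nat_lit 0x521) (nat_lit 2) (nat_lit 0x2f) (.pw (nat_lit 2) (nat_lit 0x1)))))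
 (.cj (nat_lit 0x28) (nat_lit 2) (nat_lit 0x17bdce) (.cj (nat_lit 0x2a) (nat_lit 1) (nat_lit 0xbdad) (.cj (nat_lit 0x528) (nat_lit 2) (nat_lit 0x5ce) (.pw (nat_lit 1) (nat_lit 0x1)))))
 (.cj (nat_lit 0x29) (nat_lit 1) (nat_lit 0x17bdcd) (.cj (nat_lit 0x2a) (nat_lit 1) (nat_lit 0xbdad) (.cj (nat_lit 0x21) (nat_lit 2) (nat_lit 0x5ce) (.cj (nat_lit 0x2c) (nat_lit 2) (nat_lit 0x2f) (.cj (nat_lit 0x2b) (nat_lit 1) (nat_lit 0x1) (.lf (nat_lit 0x10004d00db80006c010dd0004900fbd07ae60000403e9e3a91f00004)))))))))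
 (.cj (nat_lit 0x23) (nat_lit 2) (nat_lit 0x17b9cc5ad4a) (.s3 (.cj (nat_lit 0x28) (nat_lit 2) (nat_lit 0xb9cd) (.cj (nat_lit 0x20) (nat_lit 1) (nat_lit 0x5ef) (.cj (nat_lit 0x521) (nat_lit 2) (nat_lit 0x5ee) (.cj (nat_lit 0x2c) (nat_lit 2) (nat_lit 0x2f) (.pw (nat_lit 2) (nat_lit 0x1))))))
 (.cj (nat_lit 0x24) (nat_lit 2) (nat_lit 0x17b9ac) (.cj (nat_lit 0x2a) (nat_lit 1) (nat_lit 0x5ef) (.cj (nat_lit 0xa924) (nat_lit 2) (nat_lit 0x1) (.pw (nat_lit 2) (nat_lit 0x1)))))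
 (.cj (nat_lit 0x24) (nat_lit 2) (nat_lit 0xbdcd) (.cj (nat_lit 0x21) (nat_lit 2) (nat_lit 0x5ee) (.cj (nat_lit 0xa940) (nat_lit 1) (nat_lit 0x2f) (.pw (nat_lit 1) (nat_lit 0x2f)))))))))]
theorem hj0 : jobsChk 3 16 T pb (lf3 F24.cd om T gb 16 reps) js0 = true := by decide +kernel

noncomputable def js1 : List Job := [([nat_lit 6, nat_lit 4, nat_lit 0], nat_lit 7, .cj (nat_lit 0x20) (nat_lit 2) (nat_lit 0x2e735ac) (.s3 (.cj (nat_lit 0x23) (nat_lit 1) (nat_lit 0x2e6b54a) (.s3 (.cj (nat_lit 0x29) (nat_lit 2) (nat_lit 0xbdcc) (.cj (nat_lit 0x2a) (nat_lit 2) (nat_lit 0x17b9cd) (.cj (nat_lit 0x4c0) (nat_lit 1) (nat_lit 0x1) (.pw (nat_lit 2) (nat_lit 0x2f)))))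
 (.cj (nat_lit 0x25) (nat_lit 1) (nat_lit 0x17b5ac) (.cj (nat_lit 0x521) (nat_lit 2) (nat_lit 0x5ed) (.cj (nat_lit 0x1528c0) (nat_lit 2) (nat_lit 0x1) (.pw (nat_lit 1) (nat_lit 0x1)))))
 (.cj (nat_lit 0x28) (nat_lit 1) (nat_lit 0x2c) (.cj (nat_lit 0x24) (nat_lit 1) (nat_lit 0x5ad) (.cj (nat_lit 0x152925) (nat_lit 2) (nat_lit 0x5ce) (.cj (nat_lit 0x2c) (nat_lit 1) (nat_lit 0x1) (.pw (nat_lit 2) (nat_lit 0x1))))))))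
 (.cj (nat_lit 0x23) (nat_lit 1) (nat_lit 0x5ee7354a) (.s3 (.cj (nat_lit 0x25) (nat_lit 1) (nat_lit 0x58c) (.cj (nat_lit 0x525) (nat_lit 1) (nat_lit 0x5ad) (.cj (nat_lit 0x24) (nat_lit 1) (nat_lit 0x5ef) (.pw (nat_lit 2) (nat_lit 0x5ef)))))
 (.cj (nat_lit 0x21) (nat_lit 1) (nat_lit 0x2f) (.cj (nat_lit 0x24) (nat_lit 2) (nat_lit 0x5cd) (.cj (nat_lit 0xa944) (nat_lit 2) (nat_lit 0x1) (.pw (nat_lit 1) (nat_lit 0x1)))))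
 (.cj (nat_lit 0x28) (nat_lit 1) (nat_lit 0x2c) (.cj (nat_lit 0x525) (nat_lit 1) (nat_lit 0x1) (.cj (nat_lit 0xa925) (nat_lit 2) (nat_lit 0xbdce) (.cj (nat_lit 0x2c) (nat_lit 1) (nat_lit 0x1) (.pw (nat_lit 1) (nat_lit 0x1))))))))
 (.cj (nat_lit 0x23) (nat_lit 1) (nat_lit 0x17bd4a) (.s3 (.cj (nat_lit 0x25) (nat_lit 1) (nat_lit 0xbded) (.cj (nat_lit 0x528) (nat_lit 1) (nat_lit 0x2f) (.cj (nat_lit 0x525) (nat_lit 2) (nat_lit 0xbdce) (.cj (nat_lit 0x24) (nat_lit 2) (nat_lit 0x1) (.cj (nat_lit 0x2d) (nat_lit 2) (nat_lit 0x1) (.lf (nat_lit 0x10004d00dbb00dba010a00000a01058000a9014e60783600023036ca459dd00004)))))))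
 (.cj (nat_lit 0x29) (nat_lit 2) (nat_lit 0x5ce) (.cj (nat_lit 0x24) (nat_lit 2) (nat_lit 0x2f) (.cj (nat_lit 0xa4c0) (nat_lit 1) (nat_lit 0x2f) (.pw (nat_lit 2) (nat_lit 0x1)))))
 (.cj (nat_lit 0x28) (nat_lit 1) (nat_lit 0x2c) (.cj (nat_lit 0x24) (nat_lit 1) (nat_lit 0xbdee) (.cj (nat_lit 0xa928) (nat_lit 2) (nat_lit 0xbdce) (.pw (nat_lit 1) (nat_lit 0x1))))))))),
 ([nat_lit 6, nat_lit 6, nat_lit 4, nat_lit 0], nat_lit 7, .cj (nat_lit 0x26) (nat_lit 1) (nat_lit 0xbdce6b58c) (.s3 (.s3 (.cj (nat_lit 0x23) (nat_lit 2) (nat_lit 0x2e) (.cj (nat_lit 0x21) (nat_lit 2) (nat_lit 0xbdec) (.cj (nat_lit 0x25) (nat_lit 1) (nat_lit 0xbdce) (.cj (nat_lit 0x29) (nat_lit 2) (nat_lit 0x1) (.cj (nat_lit 0x27) (nat_lit 1) (nat_lit 0x2f) (.pw (nat_lit 1) (nat_lit 0x1)))))))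
 (.cj (nat_lit 0x23) (nat_lit 1) (nat_lit 0xbdcd) (.cj (nat_lit 0x21) (nat_lit 2) (nat_lit 0x5ee6b58c) (.cj (nat_lit 0x28) (nat_lit 1) (nat_lit 0x5cd) (.cj (nat_lit 0x29) (nat_lit 2) (nat_lit 0x1) (.cj (nat_lit 0x2b) (nat_lit 2) (nat_lit 0x2f) (.pw (nat_lit 2) (nat_lit 0x1)))))))
 (.s3 (.cj (nat_lit 0x21) (nat_lit 2) (nat_lit 0x2f7b9cd) (.cj (nat_lit 0x24) (nat_lit 2) (nat_lit 0x2f) (.cj (nat_lit 0x25) (nat_lit 2) (nat_lit 0x1) (.cj (nat_lit 0x27) (nat_lit 2) (nat_lit 0x5ef) (.cj (nat_lit 0x2b) (nat_lit 1) (nat_lit 0x1) (.lf (nat_lit 0x100db70004d0002500ff20117a0006f01122024eb07a0b0001401f303000a00003)))))))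
 (.cj (nat_lit 0x21) (nat_lit 1) (nat_lit 0xb9cd) (.cj (nat_lit 0x24) (nat_lit 1) (nat_lit 0x17bdce) (.cj (nat_lit 0x25) (nat_lit 2) (nat_lit 0x1) (.cj (nat_lit 0x27) (nat_lit 2) (nat_lit 0x2f) (.cj (nat_lit 0x2b) (nat_lit 2) (nat_lit 0x1) (.lf (nat_lit 0x100db90006b00db8010a000027010dd0000b000ae0239a000030240d3294300003)))))))
 (.s3 (.s3 (.cj (nat_lit 0x25) (nat_lit 2) (nat_lit 0x1) (.cj (nat_lit 0x24) (nat_lit 1) (nat_lit 0x1) (.cj (nat_lit 0x29) (nat_lit 1) (nat_lit 0x1) (.lf (nat_lit 0x10002e0006b00dbb000270002f0000c015ab0290700af33be1500001)))))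
 (.cj (nat_lit 0x23) (nat_lit 1) (nat_lit 0x2e) (.cj (nat_lit 0x24) (nat_lit 2) (nat_lit 0x1) (.cj (nat_lit 0x29) (nat_lit 2) (nat_lit 0x1) (.lf (nat_lit 0x100dbb00042000150128f0112302bf00001c065e11d2ba00001)))))
 (.cj (nat_lit 0x21) (nat_lit 1) (nat_lit 0x2f) (.cj (nat_lit 0x23) (nat_lit 1) (nat_lit 0x1) (.s3 (.lf (nat_lit 0x107bb700dba0000d000430000201a430248b000080037c1ac4600003))
 (.lf (nat_lit 0x100db9000690006b000410000d010dd000f40268d0001202d154a8d107bbb00000))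
 (.lf (nat_lit 0x100db600dbb000410117a000a800dbc0001801a400402000001071fd2dd7300003))))))
 (.cj (nat_lit 0x23) (nat_lit 2) (nat_lit 0xb9ad) (.cj (nat_lit 0x25) (nat_lit 2) (nat_lit 0x2f) (.cj (nat_lit 0x27) (nat_lit 2) (nat_lit 0x1) (.cj (nat_lit 0x24) (nat_lit 1) (nat_lit 0x1) (.lf (nat_lit 0x10002e00db600db900dbb0006c0001a0006d015a50019c000040170b1b70d00003))))))
 (.cj (nat_lit 0x23) (nat_lit 1) (nat_lit 0xb9ad) (.cj (nat_lit 0x21) (nat_lit 1) (nat_lit 0x5ce) (.cj (nat_lit 0x27) (nat_lit 2) (nat_lit 0x1) (.cj (nat_lit 0x2a) (nat_lit 1) (nat_lit 0x1) (.lf (nat_lit 0x100db60004d00dbb010a00007c0109f000460128801848000030371018a0900003)))))))))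
 (.s3 (.cj (nat_lit 0x23) (nat_lit 2) (nat_lit 0x1739ad) (.cj (nat_lit 0x21) (nat_lit 2) (nat_lit 0x5ed) (.cj (nat_lit 0x25) (nat_lit 2) (nat_lit 0x5cd) (.cj (nat_lit 0x2a) (nat_lit 2) (nat_lit 0x2f) (.cj (nat_lit 0x2b) (nat_lit 2) (nat_lit 0x2f) (.pw (nat_lit 2) (nat_lit 0x1)))))))
 (.cj (nat_lit 0x23) (nat_lit 1) (nat_lit 0x2f739ad) (.cj (nat_lit 0x21) (nat_lit 2) (nat_lit 0x5cc) (.cj (nat_lit 0x28) (nat_lit 1) (nat_lit 0x5cd) (.cj (nat_lit 0x25) (nat_lit 2) (nat_lit 0x1) (.cj (nat_lit 0x27) (nat_lit 2) (nat_lit 0x1) (.cj (nat_lit 0x2a) (nat_lit 2) (nat_lit 0x1) (.lf (nat_lit 0x107bb70002e00db600041000f201179000020135d028570000103cb1265ac00004))))))))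
 (.s3 (.cj (nat_lit 0x21) (nat_lit 2) (nat_lit 0xbdce6b58c) (.cj (nat_lit 0x24) (nat_lit 2) (nat_lit 0x17b9ad) (.cj (nat_lit 0x28) (nat_lit 2) (nat_lit 0x1) (.cj (nat_lit 0x2b) (nat_lit 1) (nat_lit 0x2f) (.cj (nat_lit 0xad67) (nat_lit 1) (nat_lit 0x1) (.lf (nat_lit 0x107bb70006b00dbb0006a0109d0002f000440000e0159b000d800a1d3756300003)))))))
 (.cj (nat_lit 0x21) (nat_lit 1) (nat_lit 0xbdee6b58c) (.cj (nat_lit 0x29) (nat_lit 1) (nat_lit 0x5ee) (.cj (nat_lit 0x28) (nat_lit 1) (nat_lit 0x1) (.cj (nat_lit 0x27) (nat_lit 1) (nat_lit 0x2f) (.cj (nat_lit 0x563) (nat_lit 1) (nat_lit 0x1) (.lf (nat_lit 0x100db600db700db800ff20007c011220004c017c1016c300001072083599300003)))))))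
 (.s3 (.cj (nat_lit 0x29) (nat_lit 1) (nat_lit 0xb9ad) (.cj (nat_lit 0x2a) (nat_lit 1) (nat_lit 0x1) (.cj (nat_lit 0x27) (nat_lit 1) (nat_lit 0x1) (.cj (nat_lit 0x2b52921) (nat_lit 1) (nat_lit 0x1) (.lf (nat_lit 0x10002e00db900dbb0117a000260006f00018015a3029f5005e43299000003))))))
 (.cj (nat_lit 0x25) (nat_lit 1) (nat_lit 0x5ce) (.cj (nat_lit 0x24) (nat_lit 2) (nat_lit 0x5ee) (.cj (nat_lit 0x27) (nat_lit 1) (nat_lit 0x1) (.cj (nat_lit 0x56b52921) (nat_lit 2) (nat_lit 0x1) (.lf (nat_lit 0x107bb700db600042000a60007c0109f0000200189032480001103c0e32d4600003))))))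
 (.cj (nat_lit 0x25) (nat_lit 1) (nat_lit 0xbdce) (.cj (nat_lit 0x2a) (nat_lit 1) (nat_lit 0x2f) (.cj (nat_lit 0x27) (nat_lit 1) (nat_lit 0x1) (.s3 (.lf (nat_lit 0x100db60000a011cb0004800fef021e20626b1c2ea00000))
 (.lf (nat_lit 0x107bb700db800025010a00000a0000b0117c021e20000103ad6453a500001))
 (.lf (nat_lit 0x10002500ff20117a000260004e00005012ef0003c0000006f1c434ba00002)))))))))
 (.s3 (.cj (nat_lit 0x23) (nat_lit 2) (nat_lit 0x2d) (.cj (nat_lit 0x21) (nat_lit 2) (nat_lit 0x16b58c) (.cj (nat_lit 0x28) (nat_lit 2) (nat_lit 0xbdce) (.cj (nat_lit 0x481) (nat_lit 1) (nat_lit 0x1) (.cj (nat_lit 0x27) (nat_lit 2) (nat_lit 0x2f) (.cj (nat_lit 0x2a) (nat_lit 1) (nat_lit 0x1) (.lf (nat_lit 0x107bb700db600db90109d00dbc00002000ff03f7d0003400e833413f00004))))))))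
 (.cj (nat_lit 0x23) (nat_lit 1) (nat_lit 0x2f) (.cj (nat_lit 0x21) (nat_lit 2) (nat_lit 0x17bdcd) (.cj (nat_lit 0x28) (nat_lit 1) (nat_lit 0x5cd) (.cj (nat_lit 0x2a) (nat_lit 1) (nat_lit 0x5ef) (.cj (nat_lit 0x27) (nat_lit 1) (nat_lit 0x1) (.pw (nat_lit 1) (nat_lit 0x1)))))))
 (.s3 (.cj (nat_lit 0x21) (nat_lit 2) (nat_lit 0xb9cc) (.cj (nat_lit 0x25) (nat_lit 2) (nat_lit 0xbdcd) (.cj (nat_lit 0x28) (nat_lit 2) (nat_lit 0x1) (.cj (nat_lit 0x2b) (nat_lit 2) (nat_lit 0x2f) (.cj (nat_lit 0x27) (nat_lit 2) (nat_lit 0x1) (.lf (nat_lit 0x10002e0004d0109d0006e0128f000280128907a1700035073411db2f00003)))))))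
 (.cj (nat_lit 0x21) (nat_lit 1) (nat_lit 0x5ec) (.cj (nat_lit 0x25) (nat_lit 2) (nat_lit 0xbdcd) (.cj (nat_lit 0x28) (nat_lit 1) (nat_lit 0x1) (.cj (nat_lit 0x2b) (nat_lit 2) (nat_lit 0x5ef) (.cj (nat_lit 0x23) (nat_lit 2) (nat_lit 0x1) (.lf (nat_lit 0x100db600db70006b00dbb000a60002600dc10417e0001e03b4814dca00003)))))))
 (.s3 (.cj (nat_lit 0x21) (nat_lit 1) (nat_lit 0x5ee) (.cj (nat_lit 0x23) (nat_lit 2) (nat_lit 0x1) (.cj (nat_lit 0x2b) (nat_lit 2) (nat_lit 0x1) (.cj (nat_lit 0x15a921) (nat_lit 1) (nat_lit 0x1) (.lf (nat_lit 0x100db90006b00dbd010dd0000b00ff801a250005c03c0d0956f00003))))))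
 (.cj (nat_lit 0x21) (nat_lit 1) (nat_lit 0x5ee) (.cj (nat_lit 0x2a) (nat_lit 2) (nat_lit 0x5ef) (.cj (nat_lit 0x28) (nat_lit 2) (nat_lit 0x1) (.s3 (.lf (nat_lit 0x107bb700db70006b000420117a0001a0006d0002801a48001ee0307947c3d00001))
 (.lf (nat_lit 0x100ff2000f2011790001700dc603248000340628f07cba07bb900000))
 (.lf (nat_lit 0x100db700dba00015000a80000e01d2f021c6000040385d34f5d00002))))))
 (.cj (nat_lit 0x21) (nat_lit 1) (nat_lit 0x5ee) (.cj (nat_lit 0x2a) (nat_lit 2) (nat_lit 0x2f) (.cj (nat_lit 0x28) (nat_lit 1) (nat_lit 0x1) (.cj (nat_lit 0x15a525) (nat_lit 1) (nat_lit 0x1) (.lf (nat_lit 0x10006b0006c0002f00fbe0000b0135b01f82000010336c4039a07bb900003)))))))))))]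
theorem hj1 : jobsChk 3 16 T pb (lf3 F24.cd om T gb 16 reps) js1 = true := by decide +kernel

noncomputable def js2 : List Job := [([nat_lit 4, nat_lit 4, nat_lit 0], nat_lit 5, .cj (nat_lit 0x22) (nat_lit 2) (nat_lit 0x173569) (.s3 (.cj (nat_lit 0x26) (nat_lit 1) (nat_lit 0x17316b) (.cj (nat_lit 0x23) (nat_lit 2) (nat_lit 0x17b9cc52929) (.s3 (.s3 (.cj (nat_lit 0x21) (nat_lit 1) (nat_lit 0x2f) (.cj (nat_lit 0x2a) (nat_lit 2) (nat_lit 0xb9cd) (.cj (nat_lit 0x501) (nat_lit 2) (nat_lit 0xbdee) (.cj (nat_lit 0x29) (nat_lit 1) (nat_lit 0x2f) (.cj (nat_lit 0x27) (nat_lit 2) (nat_lit 0x1) (.lf (nat_lit 0x10002e00db90004d0006900042000440128f0000e000b4079e7036544727400004)))))))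
 (.cj (nat_lit 0x28) (nat_lit 2) (nat_lit 0x2d) (.cj (nat_lit 0x505) (nat_lit 1) (nat_lit 0x2f) (.cj (nat_lit 0x29) (nat_lit 2) (nat_lit 0xbdee) (.pw (nat_lit 2) (nat_lit 0x1)))))
 (.cj (nat_lit 0x21) (nat_lit 2) (nat_lit 0x5ef) (.cj (nat_lit 0x2a) (nat_lit 2) (nat_lit 0xb9cd) (.cj (nat_lit 0x29) (nat_lit 1) (nat_lit 0x2e) (.pw (nat_lit 1) (nat_lit 0x1))))))
 (.s3 (.cj (nat_lit 0x25) (nat_lit 1) (nat_lit 0x17bd8c) (.cj (nat_lit 0x24) (nat_lit 1) (nat_lit 0x5cd) (.cj (nat_lit 0x501) (nat_lit 2) (nat_lit 0x5ee) (.cj (nat_lit 0x2c) (nat_lit 1) (nat_lit 0x1) (.pw (nat_lit 1) (nat_lit 0x1))))))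
 (.cj (nat_lit 0x25) (nat_lit 1) (nat_lit 0x17bd8c) (.cj (nat_lit 0x20) (nat_lit 1) (nat_lit 0x5ef) (.cj (nat_lit 0x24) (nat_lit 1) (nat_lit 0xbdce) (.pw (nat_lit 2) (nat_lit 0x1)))))
 (.cj (nat_lit 0x25) (nat_lit 1) (nat_lit 0x17bd8c) (.cj (nat_lit 0x24) (nat_lit 2) (nat_lit 0xbded) (.cj (nat_lit 0x29) (nat_lit 1) (nat_lit 0x2e) (.pw (nat_lit 1) (nat_lit 0x5ef))))))
 (.s3 (.cj (nat_lit 0x25) (nat_lit 1) (nat_lit 0x5ed) (.cj (nat_lit 0x2a) (nat_lit 2) (nat_lit 0xbdce) (.cj (nat_lit 0x501) (nat_lit 2) (nat_lit 0x2e) (.cj (nat_lit 0x27) (nat_lit 1) (nat_lit 0x1) (.pw (nat_lit 2) (nat_lit 0x1))))))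
 (.cj (nat_lit 0x25) (nat_lit 1) (nat_lit 0x5ed) (.cj (nat_lit 0x2a) (nat_lit 2) (nat_lit 0xbdce) (.cj (nat_lit 0x29) (nat_lit 2) (nat_lit 0xbdee) (.pw (nat_lit 2) (nat_lit 0x1)))))
 (.cj (nat_lit 0x25) (nat_lit 1) (nat_lit 0x5ed) (.cj (nat_lit 0x504) (nat_lit 2) (nat_lit 0x2d) (.cj (nat_lit 0x29) (nat_lit 1) (nat_lit 0x2e) (.pw (nat_lit 1) (nat_lit 0x2f)))))))))
 (.cj (nat_lit 0x26) (nat_lit 1) (nat_lit 0x17316b) (.cj (nat_lit 0x23) (nat_lit 2) (nat_lit 0xb9cb5a949) (.s3 (.s3 (.cj (nat_lit 0x21) (nat_lit 1) (nat_lit 0x5cd) (.cj (nat_lit 0x25) (nat_lit 1) (nat_lit 0x5ce) (.cj (nat_lit 0x24) (nat_lit 2) (nat_lit 0x2e) (.cj (nat_lit 0x27) (nat_lit 1) (nat_lit 0x5ef) (.pw (nat_lit 2) (nat_lit 0x1))))))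
 (.cj (nat_lit 0x29) (nat_lit 1) (nat_lit 0x17b58c) (.cj (nat_lit 0x25) (nat_lit 1) (nat_lit 0x5ce) (.cj (nat_lit 0x21) (nat_lit 1) (nat_lit 0x1) (.cj (nat_lit 0x2b) (nat_lit 1) (nat_lit 0x1) (.pw (nat_lit 1) (nat_lit 0x1))))))
 (.cj (nat_lit 0x29) (nat_lit 1) (nat_lit 0xbd8c) (.cj (nat_lit 0x25) (nat_lit 1) (nat_lit 0x5ce) (.cj (nat_lit 0x2a) (nat_lit 1) (nat_lit 0x2f) (.cj (nat_lit 0x27) (nat_lit 1) (nat_lit 0x1) (.cj (nat_lit 0x2d) (nat_lit 2) (nat_lit 0x1) (.lf (nat_lit 0x10004d00025000a80109f000f0079350002006b7749e3600003))))))))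
 (.s3 (.cj (nat_lit 0x28) (nat_lit 1) (nat_lit 0x5cd) (.cj (nat_lit 0x25) (nat_lit 2) (nat_lit 0x5cd) (.cj (nat_lit 0x2a) (nat_lit 2) (nat_lit 0x2f) (.cj (nat_lit 0x2b) (nat_lit 2) (nat_lit 0x5ef) (.pw (nat_lit 2) (nat_lit 0x1))))))
 (.cj (nat_lit 0x28) (nat_lit 1) (nat_lit 0x5ee) (.cj (nat_lit 0x21) (nat_lit 1) (nat_lit 0x2f) (.cj (nat_lit 0x2a) (nat_lit 2) (nat_lit 0x2f) (.cj (nat_lit 0x2b) (nat_lit 2) (nat_lit 0x1) (.cj (nat_lit 0x2c) (nat_lit 2) (nat_lit 0x1) (.lf (nat_lit 0x107bb700db90006b00dbb000250000a000eb0000e01d380016d00003075e813dbf00003)))))))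
 (.cj (nat_lit 0x21) (nat_lit 2) (nat_lit 0x5cc) (.cj (nat_lit 0x25) (nat_lit 2) (nat_lit 0x5cd) (.cj (nat_lit 0x2a) (nat_lit 2) (nat_lit 0x2f) (.cj (nat_lit 0x2b) (nat_lit 2) (nat_lit 0x2f) (.pw (nat_lit 1) (nat_lit 0x1)))))))
 (.s3 (.cj (nat_lit 0x21) (nat_lit 1) (nat_lit 0x2f6b58c) (.s3 (.cj (nat_lit 0x25) (nat_lit 2) (nat_lit 0x5ef) (.pw (nat_lit 1) (nat_lit 0x1)))
 (.cj (nat_lit 0x25) (nat_lit 2) (nat_lit 0x1) (.pw (nat_lit 1) (nat_lit 0x1)))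
 (.cj (nat_lit 0x25) (nat_lit 2) (nat_lit 0x2f) (.pw (nat_lit 1) (nat_lit 0x1)))))
 (.cj (nat_lit 0x24) (nat_lit 2) (nat_lit 0xbdcd) (.cj (nat_lit 0x21) (nat_lit 2) (nat_lit 0xbdad) (.cj (nat_lit 0x25) (nat_lit 2) (nat_lit 0x5ef) (.pw (nat_lit 1) (nat_lit 0x1)))))
 (.cj (nat_lit 0x28) (nat_lit 1) (nat_lit 0x58c) (.cj (nat_lit 0x524) (nat_lit 1) (nat_lit 0x5cd) (.cj (nat_lit 0x25) (nat_lit 2) (nat_lit 0x5ef) (.pw (nat_lit 1) (nat_lit 0x1)))))))))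
 (.cj (nat_lit 0x20) (nat_lit 1) (nat_lit 0x17358c) (.cj (nat_lit 0x23) (nat_lit 2) (nat_lit 0x2e7354a) (.s3 (.s3 (.cj (nat_lit 0x25) (nat_lit 2) (nat_lit 0xbdac) (.cj (nat_lit 0x2a) (nat_lit 1) (nat_lit 0x5ed) (.cj (nat_lit 0x152921) (nat_lit 2) (nat_lit 0x1) (.pw (nat_lit 2) (nat_lit 0x5ef)))))
 (.cj (nat_lit 0x25) (nat_lit 2) (nat_lit 0xbdac) (.cj (nat_lit 0x2a) (nat_lit 1) (nat_lit 0x5ed) (.cj (nat_lit 0x21) (nat_lit 2) (nat_lit 0x5ef) (.pw (nat_lit 1) (nat_lit 0x2f)))))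
 (.cj (nat_lit 0x21) (nat_lit 2) (nat_lit 0xb9ad) (.cj (nat_lit 0x2a) (nat_lit 1) (nat_lit 0x5ed) (.cj (nat_lit 0xa525) (nat_lit 2) (nat_lit 0x5ef) (.cj (nat_lit 0x27) (nat_lit 2) (nat_lit 0x1) (.cj (nat_lit 0xb187) (nat_lit 1) (nat_lit 0x1) (.lf (nat_lit 0x107bb70004d0117a000440109e000180105b0263e000010660d2149600004))))))))
 (.s3 (.cj (nat_lit 0x24) (nat_lit 2) (nat_lit 0x2f7b9ad) (.cj (nat_lit 0x28) (nat_lit 1) (nat_lit 0x1739ad) (.cj (nat_lit 0xa921) (nat_lit 1) (nat_lit 0xbdee) (.cj (nat_lit 0x27) (nat_lit 1) (nat_lit 0x2f) (.cj (nat_lit 0x587) (nat_lit 2) (nat_lit 0x1) (.lf (nat_lit 0x107bb700db700db80004100ff20000d00017013f0012d600001069b63ee9f00004)))))))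
 (.cj (nat_lit 0x29) (nat_lit 2) (nat_lit 0xbdcc) (.cj (nat_lit 0x28) (nat_lit 1) (nat_lit 0xb9cd) (.cj (nat_lit 0xa941) (nat_lit 2) (nat_lit 0x5ce) (.pw (nat_lit 2) (nat_lit 0x2f)))))
 (.cj (nat_lit 0x29) (nat_lit 2) (nat_lit 0x1735ac) (.cj (nat_lit 0x28) (nat_lit 1) (nat_lit 0x5ce) (.cj (nat_lit 0xa521) (nat_lit 2) (nat_lit 0xbdce) (.pw (nat_lit 1) (nat_lit 0x5ef))))))
 (.s3 (.cj (nat_lit 0x25) (nat_lit 2) (nat_lit 0x5ce) (.cj (nat_lit 0x2a) (nat_lit 1) (nat_lit 0x1) (.cj (nat_lit 0x521) (nat_lit 1) (nat_lit 0x5ee) (.cj (nat_lit 0x28) (nat_lit 2) (nat_lit 0x1) (.s3 (.lf (nat_lit 0x100db90004d0006a0000a000eb0004b014e607ba30003a0338b0cc7e00001))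
 (.lf (nat_lit 0x10002e00db900db8000a60001a010230001701181019250001f047284639800003))
 (.lf (nat_lit 0x107bb70006b00ff20006f011790000b01223001d70000700bd515c0f00003)))))))
 (.cj (nat_lit 0x25) (nat_lit 2) (nat_lit 0x5ce) (.cj (nat_lit 0x2a) (nat_lit 1) (nat_lit 0x1) (.cj (nat_lit 0x28) (nat_lit 2) (nat_lit 0x5ce) (.pw (nat_lit 2) (nat_lit 0x1)))))
 (.cj (nat_lit 0x21) (nat_lit 2) (nat_lit 0x58c) (.cj (nat_lit 0x2a) (nat_lit 1) (nat_lit 0x1) (.cj (nat_lit 0x28) (nat_lit 1) (nat_lit 0x5ce) (.pw (nat_lit 1) (nat_lit 0x1)))))))))))]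
theorem hj2 : jobsChk 3 16 T pb (lf3 F24.cd om T gb 16 reps) js2 = true := by decide +kernel

noncomputable def js3 : List Job := [([nat_lit 3, nat_lit 0], nat_lit 4, .cj (nat_lit 0x21) (nat_lit 1) (nat_lit 0xbdee6b168) (.cj (nat_lit 0x8841) (nat_lit 1) (nat_lit 0x5ef739ad62d68) (.s3 (.cj (nat_lit 0x26) (nat_lit 1) (nat_lit 0xbdee73149) (.cj (nat_lit 0x24) (nat_lit 1) (nat_lit 0x5ce6b18b) (.cj (nat_lit 0x480) (nat_lit 1) (nat_lit 0x17bdcd6ad4a) (.pw (nat_lit 1) (nat_lit 0xb9ac)))))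
 (.cj (nat_lit 0x26) (nat_lit 1) (nat_lit 0xbdee73149) (.cj (nat_lit 0x24) (nat_lit 1) (nat_lit 0x17bdcd6b16b) (.cj (nat_lit 0x9083) (nat_lit 1) (nat_lit 0x2c62d6a) (.pw (nat_lit 2) (nat_lit 0x17b18b)))))
 (.cj (nat_lit 0x26) (nat_lit 1) (nat_lit 0xbdee73149) (.cj (nat_lit 0x24) (nat_lit 1) (nat_lit 0x1) (.s3 (.cj (nat_lit 0x29) (nat_lit 1) (nat_lit 0x16b58b) (.s3 (.cj (nat_lit 0x27) (nat_lit 2) (nat_lit 0x5ef) (.pw (nat_lit 2) (nat_lit 0x5ce)))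
 (.cj (nat_lit 0x27) (nat_lit 2) (nat_lit 0x5ef) (.cj (nat_lit 0x2c) (nat_lit 1) (nat_lit 0x2e) (.cj (nat_lit 0x159083) (nat_lit 1) (nat_lit 0x1) (.cj (nat_lit 0x17bdce6316b4a4e5) (nat_lit 1) (nat_lit 0x1) (.lf (nat_lit 0x100db90006b00db8000a60007c0001801290002080394d47c1a07bb900004))))))
 (.cj (nat_lit 0x27) (nat_lit 2) (nat_lit 0x5ef) (.pw (nat_lit 1) (nat_lit 0x2e)))))
 (.cj (nat_lit 0x29) (nat_lit 1) (nat_lit 0x16b58b) (.s3 (.cj (nat_lit 0x27) (nat_lit 2) (nat_lit 0xbdce) (.pw (nat_lit 1) (nat_lit 0xbdee)))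
 (.cj (nat_lit 0x28) (nat_lit 2) (nat_lit 0x5ee) (.pw (nat_lit 2) (nat_lit 0xbdce)))
 (.cj (nat_lit 0x28) (nat_lit 2) (nat_lit 0x2f) (.cj (nat_lit 0x2c) (nat_lit 1) (nat_lit 0xbdee) (.cj (nat_lit 0x163167) (nat_lit 2) (nat_lit 0x1) (.s3 (.lf (nat_lit 0x107bb70002e00db7000690002500ff00000b000b801e1d0000705d483eeac00001))
 (.lf (nat_lit 0x10006b00dbb000410109d000270004e000160109a037d50260a0fe0f00003))
 (.lf (nat_lit 0x100db6000420109d0000a0002f00005017b9035260000704d26083de07bb900003))))))))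
 (.cj (nat_lit 0x29) (nat_lit 1) (nat_lit 0x16b58b) (.s3 (.cj (nat_lit 0x28) (nat_lit 1) (nat_lit 0x1) (.pw (nat_lit 1) (nat_lit 0x5ee)))
 (.cj (nat_lit 0x27) (nat_lit 2) (nat_lit 0x2e) (.pw (nat_lit 2) (nat_lit 0x17bdce)))
 (.cj (nat_lit 0x27) (nat_lit 2) (nat_lit 0x2e) (.cj (nat_lit 0x2c) (nat_lit 1) (nat_lit 0x5ee) (.cj (nat_lit 0x163167) (nat_lit 2) (nat_lit 0x1) (.cj (nat_lit 0x17bdce4a4e5) (nat_lit 2) (nat_lit 0x1) (.lf (nat_lit 0x10004d00dbb000a60004e00dbf0002d017bc020830005801b9f4972807bbb00004)))))))))))))),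
 ([nat_lit 3, nat_lit 3, nat_lit 0], nat_lit 4, .cj (nat_lit 0x21) (nat_lit 2) (nat_lit 0xb5ab) (.cj (nat_lit 0x8841) (nat_lit 1) (nat_lit 0xbdee7358b52908) (.s3 (.cj (nat_lit 0x26) (nat_lit 1) (nat_lit 0x16b58c5ad29) (.cj (nat_lit 0x24) (nat_lit 2) (nat_lit 0x2f7398c) (.cj (nat_lit 0x480) (nat_lit 2) (nat_lit 0x17b14a) (.pw (nat_lit 1) (nat_lit 0xbdee)))))
 (.cj (nat_lit 0x20) (nat_lit 2) (nat_lit 0x58a52528) (.cj (nat_lit 0x23) (nat_lit 1) (nat_lit 0x5ef73169) (.cj (nat_lit 0x483) (nat_lit 1) (nat_lit 0x2f6b16b) (.pw (nat_lit 2) (nat_lit 0x5ed6b16b)))))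
 (.cj (nat_lit 0x26) (nat_lit 1) (nat_lit 0x16b58c5ad29) (.cj (nat_lit 0x23) (nat_lit 1) (nat_lit 0x1735aa) (.s3 (.cj (nat_lit 0x29) (nat_lit 2) (nat_lit 0x5ab) (.s3 (.cj (nat_lit 0x2b) (nat_lit 2) (nat_lit 0x2f) (.pw (nat_lit 1) (nat_lit 0x17bdce)))
 (.cj (nat_lit 0x2b) (nat_lit 2) (nat_lit 0x2f) (.pw (nat_lit 2) (nat_lit 0x5ee)))
 (.cj (nat_lit 0x2b) (nat_lit 2) (nat_lit 0x2f) (.cj (nat_lit 0x2c) (nat_lit 2) (nat_lit 0x5ee) (.cj (nat_lit 0x15a483) (nat_lit 1) (nat_lit 0x1) (.cj (nat_lit 0x17b96949ce5) (nat_lit 2) (nat_lit 0x1) (.lf (nat_lit 0x100db80002500ff2000a800017000f603d3700038065543ed2d00004))))))))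
 (.cj (nat_lit 0x29) (nat_lit 2) (nat_lit 0x5ab) (.s3 (.cj (nat_lit 0x2b) (nat_lit 2) (nat_lit 0x5ee) (.pw (nat_lit 1) (nat_lit 0x5ce)))
 (.cj (nat_lit 0x2b) (nat_lit 2) (nat_lit 0x5ee) (.pw (nat_lit 2) (nat_lit 0x2e)))
 (.cj (nat_lit 0x2b) (nat_lit 2) (nat_lit 0x5ee) (.cj (nat_lit 0x2c) (nat_lit 2) (nat_lit 0x2e) (.cj (nat_lit 0x163167) (nat_lit 2) (nat_lit 0x1) (.s3 (.lf (nat_lit 0x10002e00db900dbb00dbd0000a011cb0000c0399c0000f039583e8b300003))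
 (.lf (nat_lit 0x107bb700db600db70007c00f6a0007d015a4021b50000900c822017e00003))
 (.lf (nat_lit 0x10002e0004d000690006a00027000a80000b013ed00e3b0000103fba29ce800001))))))))
 (.cj (nat_lit 0x29) (nat_lit 2) (nat_lit 0x5ab) (.s3 (.cj (nat_lit 0x28) (nat_lit 2) (nat_lit 0xbdce) (.cj (nat_lit 0x2c) (nat_lit 2) (nat_lit 0xbdee) (.cj (nat_lit 0x163167) (nat_lit 2) (nat_lit 0x1) (.cj (nat_lit 0xbdc949ce5) (nat_lit 1) (nat_lit 0x1) (.lf (nat_lit 0x10002e000690006b0006a0117a0004e0000b011c9020610204847f5b00004))))))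
 (.cj (nat_lit 0x28) (nat_lit 2) (nat_lit 0x5ee) (.pw (nat_lit 1) (nat_lit 0xbdce)))
 (.cj (nat_lit 0x28) (nat_lit 2) (nat_lit 0x2f) (.pw (nat_lit 2) (nat_lit 0xbdee))))))))))),
 ([nat_lit 2, nat_lit 0], nat_lit 3, .s3 (.cj (nat_lit 0x23) (nat_lit 2) (nat_lit 0x16b14a4a508) (.cj (nat_lit 0x22) (nat_lit 2) (nat_lit 0x2f7b98c) (.cj (nat_lit 0x21) (nat_lit 1) (nat_lit 0x17b9cd6b1694a107) (.pw (nat_lit 1) (nat_lit 0x2f7b9ad62d4a4a508)))))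
 (.cj (nat_lit 0x22) (nat_lit 1) (nat_lit 0x5ee734a5) (.cj (nat_lit 0x20) (nat_lit 1) (nat_lit 0x2f6ad6a4a107) (.cj (nat_lit 0x461) (nat_lit 1) (nat_lit 0xbdec629494a107) (.pw (nat_lit 1) (nat_lit 0x17ad69)))))
 (.cj (nat_lit 0x23) (nat_lit 2) (nat_lit 0x16b14a4a508) (.cj (nat_lit 0x8c62) (nat_lit 2) (nat_lit 0xb9ad6316a) (.cj (nat_lit 0x8c61) (nat_lit 1) (nat_lit 0x5ac4a507) (.pw (nat_lit 1) (nat_lit 0x5ee6b16b)))))),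
 ([nat_lit 2, nat_lit 2, nat_lit 0], nat_lit 3, .s3 (.cj (nat_lit 0x23) (nat_lit 1) (nat_lit 0x2f739ad62d49) (.cj (nat_lit 0x22) (nat_lit 2) (nat_lit 0x2f7b98c) (.cj (nat_lit 0x21) (nat_lit 2) (nat_lit 0xbdee6ace7) (.pw (nat_lit 1) (nat_lit 0x5ee63128)))))
 (.cj (nat_lit 0x22) (nat_lit 1) (nat_lit 0x2f7318a524a5) (.cj (nat_lit 0x20) (nat_lit 2) (nat_lit 0xb9cd52508) (.cj (nat_lit 0x8c61) (nat_lit 2) (nat_lit 0xbdab5a4e7) (.pw (nat_lit 1) (nat_lit 0x2c)))))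
 (.cj (nat_lit 0x21) (nat_lit 2) (nat_lit 0x2f6b58939cc6) (.cj (nat_lit 0x20) (nat_lit 2) (nat_lit 0x17b5ac5a528) (.cj (nat_lit 0x461) (nat_lit 2) (nat_lit 0x5ee62d6a4a4e7) (.pw (nat_lit 1) (nat_lit 0x17b9cd5a929))))))]
theorem hj3 : jobsChk 3 16 T pb (lf3 F24.cd om T gb 16 reps) js3 = true := by decide +kernel

noncomputable def js4 : List Job := [([nat_lit 1, nat_lit 0], nat_lit 7, .cj (nat_lit 0x25) (nat_lit 1) (nat_lit 0x2c) (.s3 (.s3 (.s3 (.cj (nat_lit 0x29) (nat_lit 2) (nat_lit 0x5ee) (.cj (nat_lit 0x20) (nat_lit 1) (nat_lit 0x5ed) (.cj (nat_lit 0x24) (nat_lit 1) (nat_lit 0x5ef) (.pw (nat_lit 2) (nat_lit 0x2f)))))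
 (.cj (nat_lit 0x2a) (nat_lit 1) (nat_lit 0x5cd) (.cj (nat_lit 0x20) (nat_lit 1) (nat_lit 0xbdce) (.cj (nat_lit 0x2d52901) (nat_lit 2) (nat_lit 0xbdee) (.pw (nat_lit 1) (nat_lit 0x2f)))))
 (.cj (nat_lit 0x2a) (nat_lit 1) (nat_lit 0x5cd) (.cj (nat_lit 0x24) (nat_lit 1) (nat_lit 0xb9cd) (.cj (nat_lit 0x549) (nat_lit 2) (nat_lit 0x5ce) (.cj (nat_lit 0x27) (nat_lit 1) (nat_lit 0x1) (.pw (nat_lit 2) (nat_lit 0x1)))))))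
 (.s3 (.cj (nat_lit 0x28) (nat_lit 2) (nat_lit 0x5ef) (.cj (nat_lit 0x98c5) (nat_lit 1) (nat_lit 0x5ee) (.cj (nat_lit 0x21) (nat_lit 1) (nat_lit 0x2f) (.pw (nat_lit 2) (nat_lit 0x5ef)))))
 (.cj (nat_lit 0x21) (nat_lit 2) (nat_lit 0x5cd) (.cj (nat_lit 0xa944) (nat_lit 1) (nat_lit 0x5ef) (.cj (nat_lit 0x548) (nat_lit 1) (nat_lit 0x1) (.cj (nat_lit 0x2b) (nat_lit 2) (nat_lit 0x2f) (.cj (nat_lit 0x5ab) (nat_lit 2) (nat_lit 0x1) (.lf (nat_lit 0x10004d00dbb0001a000440001701a40021f700007061d5437d900003)))))))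
 (.cj (nat_lit 0x20) (nat_lit 1) (nat_lit 0x2f) (.s3 (.cj (nat_lit 0xa940) (nat_lit 1) (nat_lit 0x5ce) (.pw (nat_lit 1) (nat_lit 0x5ef)))
 (.cj (nat_lit 0xa941) (nat_lit 2) (nat_lit 0x2e) (.pw (nat_lit 1) (nat_lit 0x5ef)))
 (.cj (nat_lit 0xa941) (nat_lit 2) (nat_lit 0x5ef) (.pw (nat_lit 1) (nat_lit 0x5ef))))))
 (.s3 (.cj (nat_lit 0x2a) (nat_lit 1) (nat_lit 0x2f) (.cj (nat_lit 0x21) (nat_lit 1) (nat_lit 0x5ee) (.cj (nat_lit 0xa100) (nat_lit 2) (nat_lit 0x5ef) (.pw (nat_lit 1) (nat_lit 0x1)))))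
 (.cj (nat_lit 0x2a) (nat_lit 1) (nat_lit 0x2f) (.cj (nat_lit 0x548) (nat_lit 2) (nat_lit 0x1) (.cj (nat_lit 0x549) (nat_lit 2) (nat_lit 0x5ce) (.pw (nat_lit 1) (nat_lit 0x5ef)))))
 (.cj (nat_lit 0x2a) (nat_lit 1) (nat_lit 0x2f) (.cj (nat_lit 0x544) (nat_lit 2) (nat_lit 0x5ce) (.cj (nat_lit 0x549) (nat_lit 1) (nat_lit 0x5ee) (.pw (nat_lit 1) (nat_lit 0x5ef)))))))
 (.s3 (.s3 (.cj (nat_lit 0x20) (nat_lit 1) (nat_lit 0x17bdac) (.cj (nat_lit 0x21) (nat_lit 1) (nat_lit 0x5ce) (.cj (nat_lit 0xbdaa52521) (nat_lit 2) (nat_lit 0xbdee) (.pw (nat_lit 2) (nat_lit 0x5ef)))))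
 (.cj (nat_lit 0x21) (nat_lit 2) (nat_lit 0xbdec) (.cj (nat_lit 0x24) (nat_lit 2) (nat_lit 0x5ce) (.cj (nat_lit 0xa521) (nat_lit 2) (nat_lit 0xbdce) (.cj (nat_lit 0x2b) (nat_lit 2) (nat_lit 0x2f) (.cj (nat_lit 0x27) (nat_lit 1) (nat_lit 0x1) (.lf (nat_lit 0x100db70004d00dba010a00002f00dbc0001b0159f079f700007015e34360400004)))))))
 (.cj (nat_lit 0x21) (nat_lit 1) (nat_lit 0x5cc) (.cj (nat_lit 0x24) (nat_lit 1) (nat_lit 0x5ef) (.cj (nat_lit 0xbdaa52524) (nat_lit 1) (nat_lit 0x5ee) (.pw (nat_lit 1) (nat_lit 0x5ef))))))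
 (.s3 (.cj (nat_lit 0x2a) (nat_lit 1) (nat_lit 0x1) (.cj (nat_lit 0x21) (nat_lit 2) (nat_lit 0xbdad) (.cj (nat_lit 0x540) (nat_lit 2) (nat_lit 0x17bdce) (.pw (nat_lit 1) (nat_lit 0x5ef)))))
 (.cj (nat_lit 0x2a) (nat_lit 1) (nat_lit 0x1) (.cj (nat_lit 0x549) (nat_lit 1) (nat_lit 0x2d) (.cj (nat_lit 0x548) (nat_lit 2) (nat_lit 0x5ee) (.pw (nat_lit 1) (nat_lit 0x2f)))))
 (.cj (nat_lit 0x2a) (nat_lit 1) (nat_lit 0x1) (.cj (nat_lit 0x549) (nat_lit 1) (nat_lit 0xbdce) (.cj (nat_lit 0x548) (nat_lit 1) (nat_lit 0x1) (.pw (nat_lit 1) (nat_lit 0x2f))))))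
 (.s3 (.cj (nat_lit 0x2a) (nat_lit 1) (nat_lit 0x17bdcd) (.cj (nat_lit 0x20) (nat_lit 2) (nat_lit 0x2e) (.cj (nat_lit 0x21) (nat_lit 1) (nat_lit 0x5ee) (.pw (nat_lit 2) (nat_lit 0x2f)))))
 (.cj (nat_lit 0x21) (nat_lit 2) (nat_lit 0x2d) (.cj (nat_lit 0x20) (nat_lit 2) (nat_lit 0x5ad) (.cj (nat_lit 0x541) (nat_lit 2) (nat_lit 0x5ef) (.pw (nat_lit 1) (nat_lit 0x2f)))))
 (.cj (nat_lit 0x29) (nat_lit 2) (nat_lit 0x5ec) (.cj (nat_lit 0x544) (nat_lit 2) (nat_lit 0x1) (.cj (nat_lit 0xa920) (nat_lit 2) (nat_lit 0xbdce) (.cj (nat_lit 0x2c) (nat_lit 1) (nat_lit 0x1) (.pw (nat_lit 2) (nat_lit 0x1))))))))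
 (.s3 (.s3 (.cj (nat_lit 0x2a) (nat_lit 1) (nat_lit 0x5ef) (.cj (nat_lit 0x540) (nat_lit 1) (nat_lit 0xbded) (.cj (nat_lit 0x21) (nat_lit 1) (nat_lit 0x5ce) (.pw (nat_lit 1) (nat_lit 0x1)))))
 (.cj (nat_lit 0x20) (nat_lit 2) (nat_lit 0x2c) (.cj (nat_lit 0x549) (nat_lit 2) (nat_lit 0x2e) (.cj (nat_lit 0x541) (nat_lit 1) (nat_lit 0xbdce) (.pw (nat_lit 1) (nat_lit 0x5ef)))))
 (.cj (nat_lit 0x2a) (nat_lit 1) (nat_lit 0x5ef) (.cj (nat_lit 0x24) (nat_lit 1) (nat_lit 0x17b9ad) (.cj (nat_lit 0xa941) (nat_lit 1) (nat_lit 0x5ce) (.pw (nat_lit 1) (nat_lit 0x5ef))))))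
 (.s3 (.cj (nat_lit 0x28) (nat_lit 2) (nat_lit 0x5ef) (.cj (nat_lit 0x21) (nat_lit 1) (nat_lit 0x2f) (.cj (nat_lit 0x20) (nat_lit 2) (nat_lit 0x5ce) (.pw (nat_lit 2) (nat_lit 0x5ef)))))
 (.cj (nat_lit 0x21) (nat_lit 2) (nat_lit 0xb9cc) (.cj (nat_lit 0x541) (nat_lit 1) (nat_lit 0x17b9cd) (.cj (nat_lit 0x20) (nat_lit 1) (nat_lit 0x2e) (.pw (nat_lit 1) (nat_lit 0x5ef)))))
 (.cj (nat_lit 0x24) (nat_lit 1) (nat_lit 0x2f) (.cj (nat_lit 0x549) (nat_lit 2) (nat_lit 0x2e) (.cj (nat_lit 0x548) (nat_lit 2) (nat_lit 0x5ee) (.cj (nat_lit 0x2c) (nat_lit 1) (nat_lit 0x2f) (.cj (nat_lit 0xb5a7) (nat_lit 1) (nat_lit 0x1) (.lf (nat_lit 0x10002e00db60004d00dbb00025010a00105c0002a01a3d07b6a0364a279bf00003))))))))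
 (.s3 (.cj (nat_lit 0x24) (nat_lit 2) (nat_lit 0xb9ac) (.cj (nat_lit 0x548) (nat_lit 2) (nat_lit 0x1) (.cj (nat_lit 0x17bdad52520) (nat_lit 1) (nat_lit 0x5ce) (.pw (nat_lit 2) (nat_lit 0x5ef)))))
 (.cj (nat_lit 0x24) (nat_lit 2) (nat_lit 0x17b9cd) (.cj (nat_lit 0x541) (nat_lit 2) (nat_lit 0xb9cd) (.cj (nat_lit 0xa521) (nat_lit 2) (nat_lit 0x1) (.cj (nat_lit 0x2c) (nat_lit 1) (nat_lit 0x1) (.cj (nat_lit 0x27) (nat_lit 2) (nat_lit 0x1) (.lf (nat_lit 0x10002e00db600dbd00015000ea00076016dd02bee0000405e552dcf300004)))))))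
 (.cj (nat_lit 0x2a) (nat_lit 1) (nat_lit 0x1739ad) (.cj (nat_lit 0x544) (nat_lit 2) (nat_lit 0x2e) (.cj (nat_lit 0xa524) (nat_lit 2) (nat_lit 0x1) (.pw (nat_lit 1) (nat_lit 0x5ef)))))))))]
theorem hj4 : jobsChk 3 16 T pb (lf3 F24.cd om T gb 16 reps) js4 = true := by decide +kernel

noncomputable def js5 : List Job := [([nat_lit 6, nat_lit 1, nat_lit 0], nat_lit 7, .cj (nat_lit 0x20) (nat_lit 2) (nat_lit 0xb16b) (.s3 (.s3 (.s3 (.cj (nat_lit 0x28) (nat_lit 1) (nat_lit 0x58c) (.cj (nat_lit 0x21) (nat_lit 2) (nat_lit 0xbdee) (.cj (nat_lit 0xa4c0) (nat_lit 2) (nat_lit 0x2e) (.cj (nat_lit 0x2b) (nat_lit 2) (nat_lit 0x2f) (.cj (nat_lit 0x2c) (nat_lit 1) (nat_lit 0x1) (.lf (nat_lit 0x107bb70006b00dbb000410117a000a70128f000780193800003073a50bd1f00004)))))))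
 (.cj (nat_lit 0x24) (nat_lit 1) (nat_lit 0x5ef) (.cj (nat_lit 0x29) (nat_lit 2) (nat_lit 0x2f7b9cd) (.cj (nat_lit 0x4c0) (nat_lit 2) (nat_lit 0x1) (.cj (nat_lit 0x27) (nat_lit 2) (nat_lit 0x2f) (.cj (nat_lit 0x2c) (nat_lit 1) (nat_lit 0x1) (.lf (nat_lit 0x100db700069000410109d000eb00dbf01125023800000f01f3037f0100004)))))))
 (.cj (nat_lit 0x21) (nat_lit 1) (nat_lit 0x58c) (.cj (nat_lit 0x29) (nat_lit 2) (nat_lit 0xbdee) (.cj (nat_lit 0x14a4c0) (nat_lit 1) (nat_lit 0x5ee) (.cj (nat_lit 0x27) (nat_lit 2) (nat_lit 0x1) (.pw (nat_lit 1) (nat_lit 0x1)))))))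
 (.s3 (.cj (nat_lit 0x24) (nat_lit 2) (nat_lit 0x2d) (.cj (nat_lit 0x544) (nat_lit 1) (nat_lit 0x1) (.cj (nat_lit 0x21) (nat_lit 2) (nat_lit 0x5ee) (.pw (nat_lit 2) (nat_lit 0x1)))))
 (.cj (nat_lit 0x28) (nat_lit 1) (nat_lit 0xb9cc) (.cj (nat_lit 0x541) (nat_lit 1) (nat_lit 0x5cd) (.cj (nat_lit 0x4c0) (nat_lit 1) (nat_lit 0x5ce) (.pw (nat_lit 1) (nat_lit 0x2f)))))
 (.cj (nat_lit 0x21) (nat_lit 1) (nat_lit 0x2f7b9ad) (.cj (nat_lit 0x29) (nat_lit 2) (nat_lit 0xbdee) (.s3 (.cj (nat_lit 0x27) (nat_lit 1) (nat_lit 0x5ef) (.cj (nat_lit 0x14a4c0) (nat_lit 2) (nat_lit 0x1) (.lf (nat_lit 0x10002e00069000420006f00fbe00079016330353300012068fb4919307bb900003))))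
 (.cj (nat_lit 0x27) (nat_lit 1) (nat_lit 0x5ef) (.s3 (.lf (nat_lit 0x107bb70002e00db600dbd0002f00044000160013c0419e0000f013bb31f9b00003))
 (.lf (nat_lit 0x10004d00db80117a0006d011790007a013e302fe8071c7442ec00002))
 (.lf (nat_lit 0x100db900025000a60006e0109e00076020ae001d800001009c836a9100001))))
 (.cj (nat_lit 0x27) (nat_lit 1) (nat_lit 0x5ef) (.cj (nat_lit 0x14a4c0) (nat_lit 1) (nat_lit 0x1) (.lf (nat_lit 0x100db600db70004d00025010a0011c70000c000b102e510000306cf61428100003))))))))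
 (.s3 (.cj (nat_lit 0x28) (nat_lit 1) (nat_lit 0x17bdad) (.cj (nat_lit 0x4c0) (nat_lit 1) (nat_lit 0x2d) (.s3 (.pw (nat_lit 1) (nat_lit 0x2f))
 (.pw (nat_lit 1) (nat_lit 0x2f))
 (.pw (nat_lit 1) (nat_lit 0x2f)))))
 (.cj (nat_lit 0x21) (nat_lit 2) (nat_lit 0x5ac) (.cj (nat_lit 0x541) (nat_lit 2) (nat_lit 0x5ed) (.s3 (.pw (nat_lit 2) (nat_lit 0x1))
 (.pw (nat_lit 2) (nat_lit 0x1))
 (.pw (nat_lit 2) (nat_lit 0x1)))))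
 (.cj (nat_lit 0x28) (nat_lit 1) (nat_lit 0x5ee) (.cj (nat_lit 0x29) (nat_lit 2) (nat_lit 0xbdee) (.cj (nat_lit 0x24) (nat_lit 2) (nat_lit 0x2e) (.cj (nat_lit 0x2b) (nat_lit 1) (nat_lit 0x1) (.cj (nat_lit 0x27) (nat_lit 1) (nat_lit 0x1) (.lf (nat_lit 0x107bb700db7000690006b00ff00004f024ec0493400007026cf134e500004)))))))))
 (.s3 (.s3 (.cj (nat_lit 0x28) (nat_lit 1) (nat_lit 0x58c) (.cj (nat_lit 0x21) (nat_lit 1) (nat_lit 0x17b9cd) (.cj (nat_lit 0x29) (nat_lit 1) (nat_lit 0x2f) (.pw (nat_lit 1) (nat_lit 0x1)))))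
 (.cj (nat_lit 0x24) (nat_lit 1) (nat_lit 0xb9ad) (.cj (nat_lit 0xa944) (nat_lit 2) (nat_lit 0x2e) (.s3 (.cj (nat_lit 0x27) (nat_lit 1) (nat_lit 0x2f) (.pw (nat_lit 2) (nat_lit 0x1)))
 (.cj (nat_lit 0x27) (nat_lit 1) (nat_lit 0x2f) (.pw (nat_lit 2) (nat_lit 0x1)))
 (.cj (nat_lit 0x27) (nat_lit 1) (nat_lit 0x2f) (.pw (nat_lit 2) (nat_lit 0x1))))))
 (.cj (nat_lit 0x4c0) (nat_lit 2) (nat_lit 0x5ec) (.cj (nat_lit 0xa944) (nat_lit 1) (nat_lit 0x1) (.cj (nat_lit 0x29) (nat_lit 2) (nat_lit 0x5ee) (.pw (nat_lit 2) (nat_lit 0x5ef))))))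
 (.s3 (.cj (nat_lit 0x24) (nat_lit 2) (nat_lit 0xbdce) (.cj (nat_lit 0x21) (nat_lit 2) (nat_lit 0x5ce) (.cj (nat_lit 0x29) (nat_lit 1) (nat_lit 0x2f) (.pw (nat_lit 2) (nat_lit 0x1)))))
 (.cj (nat_lit 0x28) (nat_lit 1) (nat_lit 0xb9cc) (.s3 (.s3 (.cj (nat_lit 0x29) (nat_lit 2) (nat_lit 0x2f) (.cj (nat_lit 0x16b541) (nat_lit 2) (nat_lit 0x1) (.lf (nat_lit 0x1000690006b00dba01058000180187501845062e646bfc00003))))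
 (.cj (nat_lit 0x29) (nat_lit 2) (nat_lit 0x2f) (.cj (nat_lit 0x541) (nat_lit 1) (nat_lit 0x1) (.lf (nat_lit 0x100dbb0004100ff2000270112600005015a60234a0000904f180b46300003))))
 (.cj (nat_lit 0x29) (nat_lit 2) (nat_lit 0x2f) (.s3 (.lf (nat_lit 0x10002500ff0000060002a02850000200689d1c36b00000))
 (.lf (nat_lit 0x107bb70006b00dbb0117a0000a0004e001440353b00024066961e86a00003))
 (.lf (nat_lit 0x107bb700db9010a00006f00dbc00018015a40024e00000010c43fefe00003)))))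
 (.s3 (.cj (nat_lit 0x29) (nat_lit 2) (nat_lit 0x5ef) (.cj (nat_lit 0x544) (nat_lit 1) (nat_lit 0x1) (.lf (nat_lit 0x107bb700dbb0006a000430007c0001900184020860003204af11dfc900003))))
 (.cj (nat_lit 0x541) (nat_lit 2) (nat_lit 0x1) (.cj (nat_lit 0x544) (nat_lit 1) (nat_lit 0x1) (.lf (nat_lit 0x10004d00db80117a0002f0000b00187001fc000010569b4957f07bb900003))))
 (.cj (nat_lit 0x541) (nat_lit 1) (nat_lit 0x1) (.cj (nat_lit 0x544) (nat_lit 1) (nat_lit 0x1) (.lf (nat_lit 0x100db600db70006b00dbb0109d0102300017012ef07b35036b60c30e00001)))))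
 (.s3 (.cj (nat_lit 0x29) (nat_lit 2) (nat_lit 0x1) (.cj (nat_lit 0x5a9) (nat_lit 2) (nat_lit 0x1) (.lf (nat_lit 0x100db700dbb00dba0117a0004e0004501d3203575056050822407bb800003))))
 (.cj (nat_lit 0x29) (nat_lit 2) (nat_lit 0x1) (.cj (nat_lit 0x5a9) (nat_lit 2) (nat_lit 0x1) (.lf (nat_lit 0x100db90004d00dbb00025000a60117900019012ed00180000010429c331fc00003))))
 (.cj (nat_lit 0x29) (nat_lit 2) (nat_lit 0x1) (.cj (nat_lit 0x541) (nat_lit 2) (nat_lit 0x1) (.lf (nat_lit 0x1000690006b00dba0117a000430004e000ab00ee101a0c00003035f52028f00001)))))))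
 (.cj (nat_lit 0x24) (nat_lit 2) (nat_lit 0x2c) (.cj (nat_lit 0xa941) (nat_lit 1) (nat_lit 0x1) (.cj (nat_lit 0x29) (nat_lit 2) (nat_lit 0x5ee) (.pw (nat_lit 1) (nat_lit 0x2f))))))
 (.s3 (.cj (nat_lit 0x4c0) (nat_lit 2) (nat_lit 0x5ce) (.cj (nat_lit 0x24) (nat_lit 2) (nat_lit 0x2d) (.cj (nat_lit 0x29) (nat_lit 1) (nat_lit 0x2f) (.cj (nat_lit 0x27) (nat_lit 2) (nat_lit 0x1) (.cj (nat_lit 0x2c) (nat_lit 2) (nat_lit 0x1) (.lf (nat_lit 0x10002e00db90006900ff20002f00ff30001701d2e00012052863563000004)))))))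
 (.cj (nat_lit 0x28) (nat_lit 1) (nat_lit 0xb9cd) (.cj (nat_lit 0x541) (nat_lit 1) (nat_lit 0x5ef) (.cj (nat_lit 0x152904) (nat_lit 1) (nat_lit 0x5ce) (.cj (nat_lit 0x29) (nat_lit 2) (nat_lit 0x2f) (.pw (nat_lit 1) (nat_lit 0x1))))))
 (.cj (nat_lit 0x28) (nat_lit 1) (nat_lit 0x5ee) (.cj (nat_lit 0xa941) (nat_lit 2) (nat_lit 0xbdcd) (.cj (nat_lit 0x24) (nat_lit 1) (nat_lit 0x5ee) (.cj (nat_lit 0x2b) (nat_lit 2) (nat_lit 0x1) (.cj (nat_lit 0x2c) (nat_lit 2) (nat_lit 0x1) (.lf (nat_lit 0x107bb700db90006b00dbb000250109d00044020ae000d40000900a0c465c500004)))))))))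
 (.s3 (.s3 (.cj (nat_lit 0x28) (nat_lit 1) (nat_lit 0x58c) (.cj (nat_lit 0x29) (nat_lit 1) (nat_lit 0x1) (.cj (nat_lit 0x21) (nat_lit 2) (nat_lit 0x1) (.cj (nat_lit 0x2b) (nat_lit 1) (nat_lit 0x2f) (.cj (nat_lit 0x27) (nat_lit 2) (nat_lit 0x1) (.lf (nat_lit 0x100db9000690109d0001a01122013e40027706f1849d9700004)))))))
 (.cj (nat_lit 0x2a) (nat_lit 1) (nat_lit 0x5cc) (.cj (nat_lit 0x29) (nat_lit 1) (nat_lit 0x1739ad) (.s3 (.pw (nat_lit 1) (nat_lit 0x2f))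
 (.pw (nat_lit 1) (nat_lit 0x2f))
 (.pw (nat_lit 1) (nat_lit 0x2f)))))
 (.cj (nat_lit 0x2a) (nat_lit 1) (nat_lit 0x5cc) (.cj (nat_lit 0x29) (nat_lit 1) (nat_lit 0x5cd) (.s3 (.pw (nat_lit 2) (nat_lit 0x1))
 (.pw (nat_lit 2) (nat_lit 0x1))
 (.pw (nat_lit 2) (nat_lit 0x1))))))
 (.s3 (.cj (nat_lit 0x28) (nat_lit 1) (nat_lit 0x17bdac) (.cj (nat_lit 0x29) (nat_lit 1) (nat_lit 0x1) (.cj (nat_lit 0xa521) (nat_lit 1) (nat_lit 0x5ee) (.cj (nat_lit 0x27) (nat_lit 2) (nat_lit 0x2f) (.s3 (.lf (nat_lit 0x100db70006b00dbb00dba0000a000eb000020159f01f6601b6016e3b00001))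
 (.lf (nat_lit 0x10002e0004d00dbb00ff2011220002a013ec041b40000801feb426c000003))
 (.lf (nat_lit 0x10002e00db700dbb000420117a00fbc00002001860194600000016543bca100003)))))))
 (.cj (nat_lit 0x21) (nat_lit 2) (nat_lit 0xb9ac) (.cj (nat_lit 0x29) (nat_lit 1) (nat_lit 0x1739ad) (.cj (nat_lit 0x98c5) (nat_lit 2) (nat_lit 0x5ef) (.cj (nat_lit 0x27) (nat_lit 2) (nat_lit 0x1) (.pw (nat_lit 2) (nat_lit 0x1))))))
 (.cj (nat_lit 0x21) (nat_lit 1) (nat_lit 0x1739ac) (.cj (nat_lit 0x29) (nat_lit 1) (nat_lit 0x5cd) (.cj (nat_lit 0xa948) (nat_lit 1) (nat_lit 0x1) (.cj (nat_lit 0x2b) (nat_lit 2) (nat_lit 0x1) (.pw (nat_lit 2) (nat_lit 0x1)))))))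
 (.s3 (.cj (nat_lit 0x2a) (nat_lit 1) (nat_lit 0xb5ac) (.cj (nat_lit 0x21) (nat_lit 2) (nat_lit 0x1) (.s3 (.cj (nat_lit 0x27) (nat_lit 1) (nat_lit 0x1) (.pw (nat_lit 2) (nat_lit 0x1)))
 (.cj (nat_lit 0x27) (nat_lit 1) (nat_lit 0x1) (.pw (nat_lit 2) (nat_lit 0x1)))
 (.cj (nat_lit 0x27) (nat_lit 1) (nat_lit 0x1) (.pw (nat_lit 2) (nat_lit 0x1))))))
 (.cj (nat_lit 0x21) (nat_lit 2) (nat_lit 0xbd8c) (.cj (nat_lit 0x24) (nat_lit 1) (nat_lit 0x5ce) (.cj (nat_lit 0x541) (nat_lit 2) (nat_lit 0x1) (.pw (nat_lit 2) (nat_lit 0x5ef)))))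
 (.cj (nat_lit 0x28) (nat_lit 1) (nat_lit 0x5ee) (.cj (nat_lit 0x29) (nat_lit 1) (nat_lit 0x5cd) (.cj (nat_lit 0x17bdad52928) (nat_lit 2) (nat_lit 0x1) (.pw (nat_lit 1) (nat_lit 0x1)))))))))]
theorem hj5 : jobsChk 3 16 T pb (lf3 F24.cd om T gb 16 reps) js5 = true := by decide +kernel

noncomputable def js6 : List Job := [([nat_lit 6, nat_lit 6, nat_lit 1, nat_lit 0], nat_lit 7, .cj (nat_lit 0x26) (nat_lit 1) (nat_lit 0x17bdcb) (.s3 (.s3 (.s3 (.cj (nat_lit 0x29) (nat_lit 1) (nat_lit 0x17b9ac) (.cj (nat_lit 0x21) (nat_lit 2) (nat_lit 0xbded) (.cj (nat_lit 0x28) (nat_lit 1) (nat_lit 0x1) (.cj (nat_lit 0x2c) (nat_lit 2) (nat_lit 0x1) (.cj (nat_lit 0x27) (nat_lit 2) (nat_lit 0x1) (.lf (nat_lit 0x107bb70004d000690117a0002f0006d0004800ff90236f0000704b3639ec800003)))))))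
 (.cj (nat_lit 0x29) (nat_lit 1) (nat_lit 0x2c) (.cj (nat_lit 0x98c0) (nat_lit 2) (nat_lit 0x5cd) (.cj (nat_lit 0x17b521) (nat_lit 1) (nat_lit 0x2f) (.pw (nat_lit 2) (nat_lit 0x2f)))))
 (.cj (nat_lit 0x21) (nat_lit 1) (nat_lit 0x17b58c) (.cj (nat_lit 0x544) (nat_lit 2) (nat_lit 0xbdce) (.cj (nat_lit 0x28) (nat_lit 2) (nat_lit 0x2e) (.pw (nat_lit 1) (nat_lit 0x1))))))
 (.s3 (.cj (nat_lit 0x29) (nat_lit 1) (nat_lit 0x17b9ac) (.cj (nat_lit 0x24) (nat_lit 1) (nat_lit 0x5ef) (.cj (nat_lit 0x152924) (nat_lit 2) (nat_lit 0xbdee) (.pw (nat_lit 2) (nat_lit 0x2f)))))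
 (.cj (nat_lit 0x29) (nat_lit 1) (nat_lit 0x2c) (.cj (nat_lit 0x28) (nat_lit 2) (nat_lit 0x5ed) (.cj (nat_lit 0xbdaa52521) (nat_lit 1) (nat_lit 0x5ce) (.cj (nat_lit 0x27) (nat_lit 2) (nat_lit 0x1) (.cj (nat_lit 0x24) (nat_lit 1) (nat_lit 0x1) (.lf (nat_lit 0x100db600db90004d00041010a00002f010d900fb902646000030722f4435800004)))))))
 (.cj (nat_lit 0x21) (nat_lit 1) (nat_lit 0x2f) (.cj (nat_lit 0x24) (nat_lit 2) (nat_lit 0x1) (.cj (nat_lit 0x1518c0) (nat_lit 2) (nat_lit 0x5ef) (.pw (nat_lit 1) (nat_lit 0x1))))))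
 (.s3 (.cj (nat_lit 0x24) (nat_lit 1) (nat_lit 0x17b9cd) (.cj (nat_lit 0x28) (nat_lit 1) (nat_lit 0x5ce) (.cj (nat_lit 0x1518c5) (nat_lit 2) (nat_lit 0x5ee) (.pw (nat_lit 2) (nat_lit 0x2f)))))
 (.cj (nat_lit 0x29) (nat_lit 1) (nat_lit 0x2c) (.cj (nat_lit 0x28) (nat_lit 1) (nat_lit 0xb9ad) (.cj (nat_lit 0x541) (nat_lit 2) (nat_lit 0x5ee) (.pw (nat_lit 2) (nat_lit 0x2f)))))
 (.cj (nat_lit 0x21) (nat_lit 1) (nat_lit 0xb5ac) (.cj (nat_lit 0x28) (nat_lit 1) (nat_lit 0x2d) (.cj (nat_lit 0xa524) (nat_lit 2) (nat_lit 0x17bdce) (.pw (nat_lit 2) (nat_lit 0x5ef)))))))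
 (.s3 (.s3 (.cj (nat_lit 0x29) (nat_lit 1) (nat_lit 0xbd8c) (.cj (nat_lit 0x98c0) (nat_lit 2) (nat_lit 0x1) (.cj (nat_lit 0x28) (nat_lit 1) (nat_lit 0x1) (.pw (nat_lit 1) (nat_lit 0x1)))))
 (.cj (nat_lit 0x21) (nat_lit 2) (nat_lit 0x1735ac) (.s3 (.cj (nat_lit 0x541) (nat_lit 1) (nat_lit 0x2f) (.pw (nat_lit 2) (nat_lit 0x2f)))
 (.cj (nat_lit 0x541) (nat_lit 1) (nat_lit 0x5ce) (.pw (nat_lit 2) (nat_lit 0x2f)))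
 (.cj (nat_lit 0x541) (nat_lit 1) (nat_lit 0xbdee) (.pw (nat_lit 2) (nat_lit 0x2f)))))
 (.cj (nat_lit 0x24) (nat_lit 2) (nat_lit 0x2d) (.cj (nat_lit 0x544) (nat_lit 2) (nat_lit 0x5ee) (.cj (nat_lit 0x28) (nat_lit 2) (nat_lit 0x2e) (.cj (nat_lit 0x27) (nat_lit 2) (nat_lit 0x1) (.cj (nat_lit 0xb5ab) (nat_lit 1) (nat_lit 0x1) (.lf (nat_lit 0x100db700dba010a001a4007b8200010076873113700003))))))))
 (.s3 (.cj (nat_lit 0x29) (nat_lit 1) (nat_lit 0xbd8c) (.cj (nat_lit 0x21) (nat_lit 2) (nat_lit 0x5cd) (.cj (nat_lit 0x504) (nat_lit 1) (nat_lit 0x5ce) (.pw (nat_lit 2) (nat_lit 0x5ef)))))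
 (.cj (nat_lit 0x2a) (nat_lit 1) (nat_lit 0x17b98c) (.cj (nat_lit 0x28) (nat_lit 2) (nat_lit 0x5ed) (.cj (nat_lit 0x24) (nat_lit 2) (nat_lit 0xbdce) (.pw (nat_lit 2) (nat_lit 0x2f)))))
 (.cj (nat_lit 0x2a) (nat_lit 1) (nat_lit 0x17b98c) (.cj (nat_lit 0x28) (nat_lit 2) (nat_lit 0xbdce) (.cj (nat_lit 0xa949) (nat_lit 1) (nat_lit 0x5ee) (.pw (nat_lit 2) (nat_lit 0x2f))))))
 (.s3 (.cj (nat_lit 0x24) (nat_lit 1) (nat_lit 0xbdce) (.cj (nat_lit 0x28) (nat_lit 1) (nat_lit 0x5ce) (.cj (nat_lit 0xa949) (nat_lit 2) (nat_lit 0x17bdce) (.pw (nat_lit 1) (nat_lit 0x5ef)))))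
 (.cj (nat_lit 0x21) (nat_lit 2) (nat_lit 0x5ef) (.cj (nat_lit 0x28) (nat_lit 1) (nat_lit 0xb9ad) (.cj (nat_lit 0xa944) (nat_lit 2) (nat_lit 0x5ce) (.cj (nat_lit 0x2d) (nat_lit 1) (nat_lit 0x1) (.pw (nat_lit 2) (nat_lit 0x1))))))
 (.cj (nat_lit 0x21) (nat_lit 1) (nat_lit 0x2f) (.cj (nat_lit 0x28) (nat_lit 1) (nat_lit 0x2d) (.cj (nat_lit 0x5aa52101) (nat_lit 1) (nat_lit 0x2f) (.pw (nat_lit 2) (nat_lit 0x1)))))))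
 (.s3 (.s3 (.cj (nat_lit 0x2a) (nat_lit 1) (nat_lit 0xb98c) (.cj (nat_lit 0x544) (nat_lit 1) (nat_lit 0x5ef) (.cj (nat_lit 0x28) (nat_lit 1) (nat_lit 0x1) (.pw (nat_lit 2) (nat_lit 0x1)))))
 (.cj (nat_lit 0x29) (nat_lit 1) (nat_lit 0x5cd) (.cj (nat_lit 0x98c0) (nat_lit 1) (nat_lit 0x2e) (.cj (nat_lit 0x17b521) (nat_lit 1) (nat_lit 0x2f) (.pw (nat_lit 2) (nat_lit 0x2f)))))
 (.cj (nat_lit 0x21) (nat_lit 1) (nat_lit 0x1) (.cj (nat_lit 0x544) (nat_lit 2) (nat_lit 0x2f) (.cj (nat_lit 0x28) (nat_lit 2) (nat_lit 0x2e) (.pw (nat_lit 2) (nat_lit 0x1))))))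
 (.s3 (.cj (nat_lit 0x29) (nat_lit 1) (nat_lit 0x2f739ad) (.cj (nat_lit 0x21) (nat_lit 1) (nat_lit 0xbdad) (.cj (nat_lit 0x1518c0) (nat_lit 2) (nat_lit 0x5ee) (.pw (nat_lit 2) (nat_lit 0x1)))))
 (.cj (nat_lit 0x29) (nat_lit 1) (nat_lit 0x5cd) (.cj (nat_lit 0x28) (nat_lit 2) (nat_lit 0x5ed) (.cj (nat_lit 0x24) (nat_lit 1) (nat_lit 0x5ee) (.pw (nat_lit 1) (nat_lit 0x5ef)))))
 (.cj (nat_lit 0x29) (nat_lit 1) (nat_lit 0x5ef) (.cj (nat_lit 0x24) (nat_lit 2) (nat_lit 0x5cd) (.cj (nat_lit 0x1518c5) (nat_lit 1) (nat_lit 0x2e) (.cj (nat_lit 0x2d) (nat_lit 1) (nat_lit 0x1) (.pw (nat_lit 2) (nat_lit 0x1)))))))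
 (.s3 (.cj (nat_lit 0x24) (nat_lit 1) (nat_lit 0x2f739ad) (.cj (nat_lit 0x28) (nat_lit 1) (nat_lit 0x5ce) (.cj (nat_lit 0x152921) (nat_lit 1) (nat_lit 0x5ee) (.cj (nat_lit 0x27) (nat_lit 2) (nat_lit 0x1) (.cj (nat_lit 0x5ac) (nat_lit 1) (nat_lit 0x1) (.lf (nat_lit 0x100db60006b00db8000250109d0000d00f6a0001600dc602bc00001f012f733ddf00004)))))))
 (.cj (nat_lit 0x29) (nat_lit 1) (nat_lit 0x5cd) (.cj (nat_lit 0x541) (nat_lit 1) (nat_lit 0x1) (.cj (nat_lit 0x29498c0) (nat_lit 2) (nat_lit 0x5ef) (.pw (nat_lit 1) (nat_lit 0x1)))))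
 (.cj (nat_lit 0x29) (nat_lit 1) (nat_lit 0x5ef) (.cj (nat_lit 0x28) (nat_lit 1) (nat_lit 0x2d) (.cj (nat_lit 0xa941) (nat_lit 2) (nat_lit 0x5ee) (.pw (nat_lit 2) (nat_lit 0x2f))))))))),
 ([nat_lit 3, nat_lit 1, nat_lit 0], nat_lit 4, .cj (nat_lit 0x21) (nat_lit 1) (nat_lit 0x2e6ad68) (.cj (nat_lit 0x462) (nat_lit 2) (nat_lit 0x1739ad5a52839cc6) (.s3 (.cj (nat_lit 0x26) (nat_lit 1) (nat_lit 0x5ee72d49) (.pw (nat_lit 1) (nat_lit 0x5ec62d6a)))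
 (.cj (nat_lit 0x25) (nat_lit 1) (nat_lit 0x2e6b58a) (.pw (nat_lit 1) (nat_lit 0x2f739ad6314a)))
 (.cj (nat_lit 0x25) (nat_lit 1) (nat_lit 0x5ed6ad6a) (.pw (nat_lit 1) (nat_lit 0xbded6316b)))))),
 ([nat_lit 3, nat_lit 3, nat_lit 1, nat_lit 0], nat_lit 4, .cj (nat_lit 0x21) (nat_lit 2) (nat_lit 0x17b58c) (.cj (nat_lit 0x8c62) (nat_lit 2) (nat_lit 0x16b56b5292839cc6) (.s3 (.cj (nat_lit 0x25) (nat_lit 1) (nat_lit 0x2e5ad4a) (.pw (nat_lit 1) (nat_lit 0x5ee7316a)))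
 (.cj (nat_lit 0x26) (nat_lit 1) (nat_lit 0xbdce5ad29) (.pw (nat_lit 1) (nat_lit 0x5ee6b58c5ad4a)))
 (.cj (nat_lit 0x25) (nat_lit 1) (nat_lit 0xbdad6314a) (.pw (nat_lit 1) (nat_lit 0x5ce6b16b)))))),
 ([nat_lit 2, nat_lit 1, nat_lit 0], nat_lit 3, .s3 (.cj (nat_lit 0x23) (nat_lit 1) (nat_lit 0x2c5ad4a4a508) (.cj (nat_lit 0x20) (nat_lit 1) (nat_lit 0x5ee735ac628e7) (.cj (nat_lit 0x21) (nat_lit 1) (nat_lit 0x5ce6b1694a107) (.pw (nat_lit 2) (nat_lit 0xbdce52928)))))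
 (.cj (nat_lit 0x21) (nat_lit 1) (nat_lit 0x2d6ace6) (.cj (nat_lit 0x20) (nat_lit 1) (nat_lit 0x5ed63149420e7) (.cj (nat_lit 0x8c61) (nat_lit 1) (nat_lit 0x5ef739ad52927) (.pw (nat_lit 2) (nat_lit 0x2f7b98c5ad29)))))
 (.cj (nat_lit 0x21) (nat_lit 2) (nat_lit 0x163149420e6) (.cj (nat_lit 0x462) (nat_lit 2) (nat_lit 0x2d5a94939cc6) (.cj (nat_lit 0x461) (nat_lit 1) (nat_lit 0xbdee63107) (.pw (nat_lit 2) (nat_lit 0xb98c))))))]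
theorem hj6 : jobsChk 3 16 T pb (lf3 F24.cd om T gb 16 reps) js6 = true := by decide +kernel

noncomputable def js7 : List Job := [([nat_lit 2, nat_lit 2, nat_lit 1, nat_lit 0], nat_lit 3, .s3 (.s3 (.cj (nat_lit 0x20) (nat_lit 2) (nat_lit 0x2e6ace7) (.cj (nat_lit 0x21) (nat_lit 2) (nat_lit 0xbdcd6ace7) (.cj (nat_lit 0x26) (nat_lit 1) (nat_lit 0x2f73928) (.s3 (.cj (nat_lit 0x23) (nat_lit 1) (nat_lit 0x5ee6b58a) (.cj (nat_lit 0x28) (nat_lit 2) (nat_lit 0x2f7318b) (.s3 (.cj (nat_lit 0x2b) (nat_lit 2) (nat_lit 0x5ce) (.pw (nat_lit 2) (nat_lit 0x5ee)))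
 (.cj (nat_lit 0x2b) (nat_lit 2) (nat_lit 0x5ce) (.cj (nat_lit 0x2c) (nat_lit 2) (nat_lit 0x2e) (.cj (nat_lit 0xad25) (nat_lit 2) (nat_lit 0x1) (.pw (nat_lit 2) (nat_lit 0x1)))))
 (.cj (nat_lit 0x2a) (nat_lit 2) (nat_lit 0x5ce) (.pw (nat_lit 1) (nat_lit 0x5ce))))))
 (.cj (nat_lit 0x23) (nat_lit 1) (nat_lit 0x5ee7358a) (.cj (nat_lit 0x28) (nat_lit 2) (nat_lit 0x2f7318b) (.s3 (.cj (nat_lit 0x2b) (nat_lit 2) (nat_lit 0x5ef) (.pw (nat_lit 1) (nat_lit 0xbdce)))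
 (.cj (nat_lit 0x2b) (nat_lit 2) (nat_lit 0x5ef) (.pw (nat_lit 2) (nat_lit 0x5ee)))
 (.cj (nat_lit 0x2b) (nat_lit 2) (nat_lit 0x5ef) (.cj (nat_lit 0x2c) (nat_lit 2) (nat_lit 0x2e) (.cj (nat_lit 0xb125) (nat_lit 2) (nat_lit 0x5ef) (.pw (nat_lit 1) (nat_lit 0x1))))))))
 (.cj (nat_lit 0x23) (nat_lit 1) (nat_lit 0xbd8a) (.cj (nat_lit 0x28) (nat_lit 2) (nat_lit 0x2f7318b) (.s3 (.cj (nat_lit 0x2b) (nat_lit 2) (nat_lit 0x5ee) (.pw (nat_lit 2) (nat_lit 0x5ee)))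
 (.cj (nat_lit 0x2b) (nat_lit 2) (nat_lit 0x5ee) (.cj (nat_lit 0x2c) (nat_lit 2) (nat_lit 0x2e) (.cj (nat_lit 0xa483) (nat_lit 1) (nat_lit 0x1) (.cj (nat_lit 0x2d) (nat_lit 2) (nat_lit 0x1) (.lf (nat_lit 0x10004d00069000420109d0000d00ff00000e020af01aec00000026ad07cdb07bb900004))))))
 (.cj (nat_lit 0x2b) (nat_lit 2) (nat_lit 0x5ee) (.pw (nat_lit 1) (nat_lit 0x17bdce))))))))))
 (.cj (nat_lit 0x20) (nat_lit 2) (nat_lit 0x15ace7) (.cj (nat_lit 0x21) (nat_lit 2) (nat_lit 0x17bdce6b4e7) (.cj (nat_lit 0x26) (nat_lit 1) (nat_lit 0xbdad5ad28) (.cj (nat_lit 0x23) (nat_lit 2) (nat_lit 0x5cd6b18b5a949) (.cj (nat_lit 0x24) (nat_lit 2) (nat_lit 0x5ef7318b) (.pw (nat_lit 2) (nat_lit 0x5ec)))))))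
 (.cj (nat_lit 0x20) (nat_lit 2) (nat_lit 0x17bdce6b4e7) (.cj (nat_lit 0x21) (nat_lit 2) (nat_lit 0xbdad5ace7) (.cj (nat_lit 0x26) (nat_lit 1) (nat_lit 0xbdee6ad28) (.cj (nat_lit 0x23) (nat_lit 1) (nat_lit 0xb969) (.cj (nat_lit 0x24) (nat_lit 2) (nat_lit 0x5ef7318b) (.pw (nat_lit 1) (nat_lit 0x5ef7398b))))))))
 (.cj (nat_lit 0x21) (nat_lit 1) (nat_lit 0x5ef7398a5252839cc6) (.cj (nat_lit 0x20) (nat_lit 2) (nat_lit 0x1739ac62d49420e7) (.s3 (.cj (nat_lit 0x110820) (nat_lit 2) (nat_lit 0x2d6ad08) (.cj (nat_lit 0x24) (nat_lit 1) (nat_lit 0x2e6b16b52929) (.cj (nat_lit 0x23) (nat_lit 1) (nat_lit 0x5ee6b58a) (.cj (nat_lit 0x28) (nat_lit 2) (nat_lit 0x2f6b18b) (.pw (nat_lit 2) (nat_lit 0x2d))))))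
 (.cj (nat_lit 0x26) (nat_lit 1) (nat_lit 0xbdce6ad6a52528) (.cj (nat_lit 0x24) (nat_lit 1) (nat_lit 0x2f7398c52929) (.s3 (.cj (nat_lit 0x29) (nat_lit 2) (nat_lit 0x5ac) (.s3 (.cj (nat_lit 0x25) (nat_lit 1) (nat_lit 0x5ce) (.cj (nat_lit 0x2a) (nat_lit 1) (nat_lit 0x5ef) (.cj (nat_lit 0x27) (nat_lit 1) (nat_lit 0x1) (.pw (nat_lit 2) (nat_lit 0x1)))))
 (.cj (nat_lit 0x25) (nat_lit 1) (nat_lit 0xbdce) (.cj (nat_lit 0x2a) (nat_lit 1) (nat_lit 0x2f) (.cj (nat_lit 0x27) (nat_lit 1) (nat_lit 0x1) (.pw (nat_lit 1) (nat_lit 0x1)))))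
 (.cj (nat_lit 0x25) (nat_lit 1) (nat_lit 0x17bdce) (.cj (nat_lit 0x2a) (nat_lit 1) (nat_lit 0x1) (.cj (nat_lit 0x27) (nat_lit 1) (nat_lit 0x1) (.cj (nat_lit 0x2c) (nat_lit 2) (nat_lit 0x1) (.lf (nat_lit 0x10004d00dbb00dba010a00006d0007c0002a017c403d0300007032c7345eb00003))))))))
 (.cj (nat_lit 0x23) (nat_lit 1) (nat_lit 0x2e) (.s3 (.cj (nat_lit 0x25) (nat_lit 2) (nat_lit 0xbdcd) (.cj (nat_lit 0x2a) (nat_lit 2) (nat_lit 0x1) (.cj (nat_lit 0x2b) (nat_lit 2) (nat_lit 0x2f) (.pw (nat_lit 2) (nat_lit 0x1)))))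
 (.cj (nat_lit 0x25) (nat_lit 2) (nat_lit 0x17bdcd) (.cj (nat_lit 0x2a) (nat_lit 2) (nat_lit 0x5ef) (.cj (nat_lit 0x2b) (nat_lit 2) (nat_lit 0x2f) (.cj (nat_lit 0x2c) (nat_lit 1) (nat_lit 0x1) (.lf (nat_lit 0x10002e000690006b000a6000430006f0004f016de001b30000400b5f3f53e00003))))))
 (.cj (nat_lit 0x25) (nat_lit 2) (nat_lit 0x5cd) (.cj (nat_lit 0x2a) (nat_lit 2) (nat_lit 0x2f) (.cj (nat_lit 0x2b) (nat_lit 2) (nat_lit 0x2f) (.pw (nat_lit 1) (nat_lit 0x1)))))))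
 (.cj (nat_lit 0x29) (nat_lit 2) (nat_lit 0x5ac) (.s3 (.s3 (.pw (nat_lit 2) (nat_lit 0x1))
 (.pw (nat_lit 2) (nat_lit 0x1))
 (.pw (nat_lit 2) (nat_lit 0x1)))
 (.cj (nat_lit 0x23) (nat_lit 2) (nat_lit 0xbdee) (.pw (nat_lit 2) (nat_lit 0x1)))
 (.cj (nat_lit 0x23) (nat_lit 1) (nat_lit 0xbdee) (.pw (nat_lit 2) (nat_lit 0x1))))))))
 (.cj (nat_lit 0x26) (nat_lit 1) (nat_lit 0xbdce6ad6a52528) (.cj (nat_lit 0x24) (nat_lit 1) (nat_lit 0x17b5ab52929) (.cj (nat_lit 0x23) (nat_lit 2) (nat_lit 0x5ef6b56b) (.cj (nat_lit 0x29) (nat_lit 2) (nat_lit 0x5cb) (.pw (nat_lit 2) (nat_lit 0xb9ac)))))))))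
 (.cj (nat_lit 0x21) (nat_lit 2) (nat_lit 0x17b9cc62d6939cc6) (.cj (nat_lit 0x20) (nat_lit 2) (nat_lit 0x2e6b1694a0e7) (.s3 (.cj (nat_lit 0x26) (nat_lit 1) (nat_lit 0x17b58c5a948) (.cj (nat_lit 0x24) (nat_lit 2) (nat_lit 0x5cd6a929) (.cj (nat_lit 0x23) (nat_lit 1) (nat_lit 0x5ee6b58a) (.pw (nat_lit 1) (nat_lit 0x17bdcb)))))
 (.cj (nat_lit 0x26) (nat_lit 1) (nat_lit 0x17b58c5a948) (.cj (nat_lit 0x24) (nat_lit 2) (nat_lit 0x17b98c5a929) (.s3 (.cj (nat_lit 0x23) (nat_lit 1) (nat_lit 0x17b9ad) (.s3 (.cj (nat_lit 0x27) (nat_lit 2) (nat_lit 0x2f) (.pw (nat_lit 2) (nat_lit 0x5ef)))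
 (.cj (nat_lit 0x27) (nat_lit 2) (nat_lit 0x2f) (.cj (nat_lit 0x2c) (nat_lit 1) (nat_lit 0x2f) (.cj (nat_lit 0x163167) (nat_lit 2) (nat_lit 0x1) (.pw (nat_lit 1) (nat_lit 0x1)))))
 (.cj (nat_lit 0x27) (nat_lit 2) (nat_lit 0x2f) (.pw (nat_lit 1) (nat_lit 0x1)))))
 (.cj (nat_lit 0x25) (nat_lit 1) (nat_lit 0xbdcc) (.s3 (.cj (nat_lit 0x29) (nat_lit 1) (nat_lit 0x2f) (.cj (nat_lit 0x2a) (nat_lit 1) (nat_lit 0x1) (.cj (nat_lit 0xb183) (nat_lit 1) (nat_lit 0x2f) (.pw (nat_lit 2) (nat_lit 0x1)))))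
 (.cj (nat_lit 0x23) (nat_lit 2) (nat_lit 0x5ee) (.pw (nat_lit 1) (nat_lit 0x5ef)))
 (.cj (nat_lit 0x29) (nat_lit 1) (nat_lit 0x2e) (.pw (nat_lit 2) (nat_lit 0x5ef)))))
 (.cj (nat_lit 0x23) (nat_lit 2) (nat_lit 0xb9ad) (.s3 (.cj (nat_lit 0x29) (nat_lit 1) (nat_lit 0x2f) (.pw (nat_lit 1) (nat_lit 0x2f)))
 (.cj (nat_lit 0x27) (nat_lit 2) (nat_lit 0x5ee) (.pw (nat_lit 2) (nat_lit 0x5ef)))
 (.cj (nat_lit 0x29) (nat_lit 1) (nat_lit 0x2e) (.cj (nat_lit 0x2a) (nat_lit 2) (nat_lit 0x5ef) (.cj (nat_lit 0x163167) (nat_lit 2) (nat_lit 0x1) (.cj (nat_lit 0x2e) (nat_lit 2) (nat_lit 0x1) (.lf (nat_lit 0x100dbb0006a000260109e0007a0187503e440000300629002b63f68000004)))))))))))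
 (.cj (nat_lit 0x26) (nat_lit 1) (nat_lit 0x17b58c5a948) (.cj (nat_lit 0x24) (nat_lit 2) (nat_lit 0x2f7358b5a929) (.cj (nat_lit 0x23) (nat_lit 2) (nat_lit 0x17b9cc62d6a) (.pw (nat_lit 2) (nat_lit 0xb9ab)))))))))]
theorem hj7 : jobsChk 3 16 T pb (lf3 F24.cd om T gb 16 reps) js7 = true := by decide +kernel

noncomputable def js8 : List Job := [([nat_lit 1, nat_lit 1, nat_lit 0], nat_lit 7, .cj (nat_lit 0x25) (nat_lit 2) (nat_lit 0xbdcc) (.s3 (.s3 (.s3 (.cj (nat_lit 0x2a) (nat_lit 2) (nat_lit 0xb9cd) (.cj (nat_lit 0x20) (nat_lit 2) (nat_lit 0x1739ad) (.cj (nat_lit 0x17bdad52521) (nat_lit 2) (nat_lit 0xbdee) (.pw (nat_lit 2) (nat_lit 0x2f)))))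
 (.cj (nat_lit 0x2a) (nat_lit 2) (nat_lit 0xb9cd) (.cj (nat_lit 0x20) (nat_lit 2) (nat_lit 0x2d) (.cj (nat_lit 0xa521) (nat_lit 2) (nat_lit 0x2f) (.cj (nat_lit 0x27) (nat_lit 1) (nat_lit 0x1) (.cj (nat_lit 0x5a7) (nat_lit 1) (nat_lit 0x1) (.lf (nat_lit 0x107bb700db600db90006b00ff2000440109e0002801a430193d000330652646ca207bb900004)))))))
 (.cj (nat_lit 0x2a) (nat_lit 2) (nat_lit 0xb9cd) (.cj (nat_lit 0x20) (nat_lit 2) (nat_lit 0x2e) (.cj (nat_lit 0xbdaa52521) (nat_lit 2) (nat_lit 0x5ce) (.pw (nat_lit 1) (nat_lit 0x2f))))))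
 (.s3 (.cj (nat_lit 0x20) (nat_lit 1) (nat_lit 0x17bdcc) (.cj (nat_lit 0x540) (nat_lit 1) (nat_lit 0x17bdad) (.cj (nat_lit 0x21) (nat_lit 1) (nat_lit 0x5ef) (.pw (nat_lit 2) (nat_lit 0x5ef)))))
 (.cj (nat_lit 0x21) (nat_lit 2) (nat_lit 0xbdcd) (.cj (nat_lit 0x4c5) (nat_lit 2) (nat_lit 0xbded) (.cj (nat_lit 0x17b520) (nat_lit 2) (nat_lit 0x1) (.pw (nat_lit 1) (nat_lit 0x5ef)))))
 (.cj (nat_lit 0x24) (nat_lit 2) (nat_lit 0xb9cc) (.cj (nat_lit 0x4c5) (nat_lit 1) (nat_lit 0x5ed) (.cj (nat_lit 0x2a524c5) (nat_lit 1) (nat_lit 0xbdce) (.cj (nat_lit 0x2d) (nat_lit 2) (nat_lit 0x2f) (.pw (nat_lit 1) (nat_lit 0x1)))))))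
 (.s3 (.cj (nat_lit 0x2a) (nat_lit 2) (nat_lit 0x2f) (.cj (nat_lit 0x21) (nat_lit 1) (nat_lit 0x2e) (.cj (nat_lit 0xa940) (nat_lit 1) (nat_lit 0x5ef) (.pw (nat_lit 1) (nat_lit 0x2f)))))
 (.cj (nat_lit 0x2a) (nat_lit 2) (nat_lit 0x2f) (.cj (nat_lit 0x24) (nat_lit 1) (nat_lit 0x2d) (.cj (nat_lit 0xa948) (nat_lit 2) (nat_lit 0xbdce) (.pw (nat_lit 1) (nat_lit 0x5ef)))))
 (.cj (nat_lit 0x2a) (nat_lit 2) (nat_lit 0x2f) (.cj (nat_lit 0x541) (nat_lit 1) (nat_lit 0x5ee) (.cj (nat_lit 0x24) (nat_lit 1) (nat_lit 0x1) (.pw (nat_lit 1) (nat_lit 0x5ef)))))))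
 (.s3 (.s3 (.cj (nat_lit 0x29) (nat_lit 2) (nat_lit 0x2e) (.cj (nat_lit 0x540) (nat_lit 2) (nat_lit 0x5cd) (.cj (nat_lit 0x152901) (nat_lit 2) (nat_lit 0x1) (.pw (nat_lit 2) (nat_lit 0x5ef)))))
 (.cj (nat_lit 0x21) (nat_lit 2) (nat_lit 0x5ec) (.cj (nat_lit 0x540) (nat_lit 2) (nat_lit 0x5ce) (.cj (nat_lit 0x2d6a901) (nat_lit 2) (nat_lit 0x5ee) (.pw (nat_lit 1) (nat_lit 0x5ef)))))
 (.cj (nat_lit 0x29) (nat_lit 2) (nat_lit 0xbded) (.cj (nat_lit 0x544) (nat_lit 2) (nat_lit 0x2e) (.cj (nat_lit 0xa949) (nat_lit 2) (nat_lit 0xbdee) (.cj (nat_lit 0x2c) (nat_lit 2) (nat_lit 0x1) (.pw (nat_lit 1) (nat_lit 0x1)))))))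
 (.s3 (.cj (nat_lit 0x2a) (nat_lit 2) (nat_lit 0x1) (.cj (nat_lit 0x21) (nat_lit 2) (nat_lit 0xbdad) (.cj (nat_lit 0xa944) (nat_lit 2) (nat_lit 0x5ce) (.pw (nat_lit 1) (nat_lit 0x1)))))
 (.cj (nat_lit 0x2a) (nat_lit 2) (nat_lit 0x1) (.cj (nat_lit 0xa8c5) (nat_lit 2) (nat_lit 0x5cd) (.cj (nat_lit 0xa100) (nat_lit 1) (nat_lit 0xbdce) (.pw (nat_lit 1) (nat_lit 0x2f)))))
 (.cj (nat_lit 0x2a) (nat_lit 2) (nat_lit 0x1) (.cj (nat_lit 0x541) (nat_lit 2) (nat_lit 0xbdad) (.cj (nat_lit 0xa104) (nat_lit 2) (nat_lit 0x1) (.pw (nat_lit 1) (nat_lit 0x2f))))))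
 (.s3 (.cj (nat_lit 0x29) (nat_lit 2) (nat_lit 0x2e) (.cj (nat_lit 0x24) (nat_lit 2) (nat_lit 0x17bdce) (.cj (nat_lit 0x20) (nat_lit 1) (nat_lit 0x1) (.pw (nat_lit 2) (nat_lit 0x2f)))))
 (.cj (nat_lit 0x21) (nat_lit 2) (nat_lit 0x5ed) (.cj (nat_lit 0x24) (nat_lit 1) (nat_lit 0x17bdce) (.cj (nat_lit 0xa948) (nat_lit 1) (nat_lit 0x1) (.cj (nat_lit 0x20) (nat_lit 1) (nat_lit 0x1) (.cj (nat_lit 0x5a0) (nat_lit 1) (nat_lit 0x1) (.lf (nat_lit 0x10004d000250006a0109d0000a0128f0000c0145d02e310002101ff449b9b00003)))))))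
 (.cj (nat_lit 0x28) (nat_lit 2) (nat_lit 0x5cd) (.s3 (.cj (nat_lit 0x20) (nat_lit 2) (nat_lit 0x5ce) (.pw (nat_lit 1) (nat_lit 0x2f)))
 (.cj (nat_lit 0x20) (nat_lit 2) (nat_lit 0x17bdce) (.pw (nat_lit 1) (nat_lit 0x2f)))
 (.cj (nat_lit 0x20) (nat_lit 2) (nat_lit 0xbdce) (.pw (nat_lit 1) (nat_lit 0x2f)))))))
 (.s3 (.s3 (.cj (nat_lit 0x2a) (nat_lit 2) (nat_lit 0x5ef) (.cj (nat_lit 0x544) (nat_lit 1) (nat_lit 0x2f) (.cj (nat_lit 0x21) (nat_lit 1) (nat_lit 0xbdce) (.pw (nat_lit 1) (nat_lit 0x1)))))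
 (.cj (nat_lit 0x29) (nat_lit 2) (nat_lit 0x5ac) (.cj (nat_lit 0xa940) (nat_lit 2) (nat_lit 0x5ed) (.cj (nat_lit 0x4c5) (nat_lit 2) (nat_lit 0xbdce) (.pw (nat_lit 1) (nat_lit 0x2f)))))
 (.cj (nat_lit 0x2a) (nat_lit 2) (nat_lit 0x5ef) (.cj (nat_lit 0x544) (nat_lit 2) (nat_lit 0x1) (.cj (nat_lit 0x541) (nat_lit 1) (nat_lit 0x5ce) (.pw (nat_lit 1) (nat_lit 0x2f))))))
 (.s3 (.cj (nat_lit 0x24) (nat_lit 2) (nat_lit 0x5cd) (.cj (nat_lit 0x21) (nat_lit 1) (nat_lit 0x1) (.cj (nat_lit 0x17bdad52521) (nat_lit 2) (nat_lit 0x1) (.pw (nat_lit 2) (nat_lit 0x2f)))))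
 (.cj (nat_lit 0x29) (nat_lit 2) (nat_lit 0x5ac) (.cj (nat_lit 0xa949) (nat_lit 1) (nat_lit 0x1) (.cj (nat_lit 0xa521) (nat_lit 2) (nat_lit 0xbdce) (.cj (nat_lit 0x2b) (nat_lit 1) (nat_lit 0x2f) (.cj (nat_lit 0x5ab) (nat_lit 2) (nat_lit 0x1) (.lf (nat_lit 0x100db60004d000410105800006000f407ba400011072313f1f007bb900004)))))))
 (.cj (nat_lit 0x21) (nat_lit 1) (nat_lit 0x5cc) (.cj (nat_lit 0x20) (nat_lit 1) (nat_lit 0x5ed) (.cj (nat_lit 0xa524) (nat_lit 1) (nat_lit 0x17bdce) (.pw (nat_lit 1) (nat_lit 0x2f))))))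
 (.s3 (.cj (nat_lit 0x20) (nat_lit 1) (nat_lit 0x5ed) (.cj (nat_lit 0x21) (nat_lit 2) (nat_lit 0x17b9ad) (.cj (nat_lit 0xa948) (nat_lit 1) (nat_lit 0x1) (.pw (nat_lit 2) (nat_lit 0x2f)))))
 (.cj (nat_lit 0x20) (nat_lit 1) (nat_lit 0x5ee) (.cj (nat_lit 0x24) (nat_lit 1) (nat_lit 0x17b9ad) (.cj (nat_lit 0x540) (nat_lit 2) (nat_lit 0x5ef) (.pw (nat_lit 1) (nat_lit 0x2f)))))
 (.cj (nat_lit 0x28) (nat_lit 2) (nat_lit 0x5cd) (.cj (nat_lit 0x541) (nat_lit 2) (nat_lit 0x17b9cd) (.cj (nat_lit 0x24) (nat_lit 2) (nat_lit 0x5ee) (.cj (nat_lit 0x2c) (nat_lit 2) (nat_lit 0x2f) (.cj (nat_lit 0xb500) (nat_lit 1) (nat_lit 0x1) (.lf (nat_lit 0x10004100ff2000150002f0005001a400352300012013194431607bb900003)))))))))))]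
theorem hj8 : jobsChk 3 16 T pb (lf3 F24.cd om T gb 16 reps) js8 = true := by decide +kernel


end Cfsg.Agent.Fi.Q24b
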